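import Mathlib

/-! The field with four elements, with decidable operations, and the affine group over it. -/

namespace Cfsg.Agent.Lib.RecogThree.OrdersFive

/-- The field of order four. -/
inductive GF4 : Type
  | o | l | w | u

namespace GF4

/-- Number of an element. -/
def num : GF4 → ℕ
  | o => 0
  | l => 1
  | w => 2
  | u => 3

/-- Element with a number. -/
def ofNum : ℕ → GF4
  | 0 => o
  | 1 => l
  | 2 => w
  | _ => u

theorem ofNum_num (x : GF4) : ofNum x.num = x := by cases x <;> rfl

instance instDecidableEqGF4 : DecidableEq GF4 := fun x y =>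
  decidable_of_iff (x.num = y.num) ⟨fun h => by rw [← ofNum_num x, h, ofNum_num], congrArg num⟩

instance instFintypeGF4 : Fintype GF4 where
  elems := {o, l, w, u}
  complete x := by cases x <;> decide

/-- Addition. -/
def add : GF4 → GF4 → GF4
  | o, y => y
  | x, o => x
  | l, l => o
  | l, w => u
  | l, u => w
  | w, l => u
  | w, w => o
  | w, u => l
  | u, l => w
  | u, w => l
  | u, u => o

/-- Multiplication. -/
def mul : GF4 → GF4 → GF4
  | o, _ => o
  | _, o => o
  | l, y => y
  | x, l => x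
  | w, w => u
  | w, u => l
  | u, w => l
  | u, u => w

/-- Inverse. -/
def inv : GF4 → GF4
  | o => o
  | l => l
  | w => u
  | u => w

instance instZeroGF4 : Zero GF4 := ⟨o⟩
instance instOneGF4 : One GF4 := ⟨l⟩
instance instAddGF4 : Add GF4 := ⟨add⟩
instance instMulGF4 : Mul GF4 := ⟨mul⟩
instance instNegGF4 : Neg GF4 := ⟨id⟩
instance instInvGF4 : Inv GF4 := ⟨inv⟩

instance instFieldGF4 : Field GF4 where
  add_assoc := by decide +kernel
  zero_add := by decide +kernel
  add_zero := by decide +kernel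
  add_comm := by decide +kernel
  neg_add_cancel := by decide +kernel
  mul_assoc := by decide +kernel
  one_mul := by decide +kernel
  mul_one := by decide +kernel
  mul_comm := by decide +kernel
  left_distrib := by decide +kernel
  right_distrib := by decide +kernel
  zero_mul := by decide +kernel
  mul_zero := by decide +kernel
  exists_pair_ne := ⟨o, l, by decide⟩
  mul_inv_cancel := by decide +kernel
  inv_zero := rfl
  nsmul := nsmulRec
  zsmul := zsmulRec
  nnqsmul := _
  qsmul := _

theorem card_eq : Fintype.card GF4 = 4 := by decide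

end GF4

/-- the special linear group -/
abbrev SL3F := Matrix.SpecialLinearGroup (Fin 3) GF4

/-- translation -/
def tr (t : GF4 × GF4) : SL3F :=
  ⟨!![1, 0, t.1; 0, 1, t.2; 0, 0, 1], by simp [Matrix.det_fin_three]⟩

theorem tr_add : ∀ s t : GF4 × GF4, tr (s + t) = tr s * tr t := by decide +kernel

theorem tr_injective : Function.Injective tr := by
  intro s t h
  have h1 := congrArg (fun M : SL3F => (M : Matrix (Fin 3) (Fin 3) GF4) 0 2) h
  have h2 := congrArg (fun M : SL3F => (M : Matrix (Fin 3) (Fin 3) GF4) 1 2) h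
  exact Prod.ext (by simpa [tr] using h1) (by simpa [tr] using h2)

/-- the matrix of `v` -/
def mV : SL3F := ⟨!![1, 1, 0; 0, 1, 0; 0, 0, 1], by decide +kernel⟩
/-- the matrix of `w` -/
def mW : SL3F := ⟨!![0, 1, 0; 1, 0, 0; 0, 0, 1], by decide +kernel⟩
/-- the matrix of `a` -/
def mA : SL3F := ⟨!![GF4.w, 0, 0; 0, GF4.u, 0; 0, 0, 1], by decide +kernel⟩

theorem mV_tr : ∀ a b : GF4, mV * tr (a, b) = tr (a + b, b) * mV := by decide +kernel
theorem mW_tr : ∀ a b : GF4, mW * tr (a, b) = tr (b, a) * mW := by decide +kernel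
theorem mA_tr : ∀ a b : GF4, mA * tr (a, b) = tr (GF4.w * a, GF4.u * b) * mA := by decide +kernel

/-- image of the first generator of the triangle presentation -/
def mX : SL3F := mV * mA * mA
/-- image of the second generator of the triangle presentation -/
def mY : SL3F := mV * mA * mW * mV * mA * mV

theorem triangle : mX ^ 3 = 1 ∧ mY ^ 5 = 1 ∧ (mX * mY) ^ 2 = 1 := by decide +kernel

/-- the last row is `(0, 0, 1)` -/
def IsAff (M : SL3F) : Prop :=
  (M : Matrix (Fin 3) (Fin 3) GF4) 2 0 = 0 ∧ (M : Matrix (Fin 3) (Fin 3) GF4) 2 1 = 0 ∧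
    (M : Matrix (Fin 3) (Fin 3) GF4) 2 2 = 1

theorem isAff_mul {A B : SL3F} (hA : IsAff A) (hB : IsAff B) : IsAff (A * B) := by
  obtain ⟨a1, a2, a3⟩ := hA
  obtain ⟨b1, b2, b3⟩ := hB
  refine ⟨?_, ?_, ?_⟩ <;>
    simp [Matrix.mul_apply, Fin.sum_univ_three, a1, a2, a3, b1, b2, b3]

theorem isAff_one : IsAff 1 := by simp [IsAff]

/-- the affine matrices as a subgroup -/
def affGroup : Subgroup SL3F where
  carrier := {M | IsAff M}
  one_mem' := isAff_one
  mul_mem' := isAff_mul
  inv_mem' := fun {A} hA => by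
    have hpow : ∀ n : ℕ, IsAff (A ^ n) := fun n => by
      induction n with
      | zero => rw [pow_zero]; exact isAff_one
      | succ n ih => rw [pow_succ]; exact isAff_mul ih hA
    have h : A ^ (orderOf A - 1) = A⁻¹ := eq_inv_of_mul_eq_one_left
      (by rw [← pow_succ, Nat.sub_add_cancel (orderOf_pos A), pow_orderOf_eq_one])
    exact h ▸ hpow _

theorem det_count : (Finset.univ.filter fun p : GF4 × GF4 × GF4 × GF4 =>
    p.1 * p.2.2.2 + p.2.1 * p.2.2.1 = 1).card = 60 := by decide +kernel

theorem card_affGroup_le : Nat.card affGroup ≤ 960 := by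
  let S := Finset.univ.filter fun p : GF4 × GF4 × GF4 × GF4 => p.1 * p.2.2.2 + p.2.1 * p.2.2.1 = 1
  let f : affGroup → (GF4 × GF4) × S := fun M =>
    (((M.1 : Matrix (Fin 3) (Fin 3) GF4) 0 2, (M.1 : Matrix (Fin 3) (Fin 3) GF4) 1 2),
      ⟨((M.1 : Matrix (Fin 3) (Fin 3) GF4) 0 0, (M.1 : Matrix (Fin 3) (Fin 3) GF4) 0 1,
        (M.1 : Matrix (Fin 3) (Fin 3) GF4) 1 0, (M.1 : Matrix (Fin 3) (Fin 3) GF4) 1 1), by
        obtain ⟨⟨M, hM⟩, a1, a2, a3⟩ := M
        refine Finset.mem_filter.2 ⟨Finset.mem_univ _, ?_⟩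
        have h := hM
        rw [Matrix.det_fin_three] at h
        simp only at a1 a2 a3
        simp only [a1, a2, a3, mul_zero, mul_one, add_zero, sub_zero] at h
        have hsub : ∀ x y : GF4, x - y = x + y := by decide +kernel
        rw [hsub] at h
        exact h⟩)
  have hf : Function.Injective f := by
    intro A B h
    obtain ⟨⟨A, hA⟩, a1, a2, a3⟩ := A
    obtain ⟨⟨B, hB⟩, b1, b2, b3⟩ := B
    simp only [f, Prod.mk.injEq, Subtype.mk.injEq] at h
    obtain ⟨⟨e02, e12⟩, e00, e01, e10, e11⟩ := h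
    refine Subtype.ext (Subtype.ext (Matrix.ext fun i j => ?_))
    simp only at a1 a2 a3 b1 b2 b3
    fin_cases i <;> fin_cases j <;> simp_all
  refine (Nat.card_le_card_of_injective f hf).trans ?_
  rw [Nat.card_prod, Nat.card_eq_finsetCard S, det_count, Nat.card_eq_fintype_card, Fintype.card_prod,
    GF4.card_eq]

end Cfsg.Agent.Lib.RecogThree.OrdersFive
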