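import Cfsg.Agent.Lib.RecogThree.OrdersFive.Solvable
import Cfsg.Agent.Lib.RecogThree.OrdersFive.FieldFour
import Cfsg.Agent.Lib.Spectrum.A5Presentation

/-! A critical extension of an elementary 2-group by `A5` with element orders at most five is the
affine group of the natural module of `SL(2,4)`. -/

set_option linter.unusedSectionVars false

namespace Cfsg.Agent.Lib.RecogThree.OrdersFive

open Lib.Spectrum.TinyEnum

/-- an involution inverting `aa` -/
def ww : A5 := ⟨Equiv.swap 2 3 * Equiv.swap 0 4, Equiv.Perm.mem_alternatingGroup.2 (by decide)⟩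

theorem ww_facts : ww * ww = 1 ∧ ww * aa * ww = aa⁻¹ ∧ (v₁ * ww) ^ 3 = 1 ∧ v₁ * ww ≠ 1 ∧
    (ww * v₁ * ww * v₁) ^ 3 = 1 ∧ ww * v₁ * ww * v₁ ≠ 1 := by
  decide +kernel

theorem gen_words : a5X = v₁ * aa * aa ∧ a5Y = v₁ * aa * ww * v₁ * aa * v₁ := by decide +kernel

theorem triangle_invol : a5X * a5Y * (a5X * a5Y) = 1 ∧ a5X * a5Y ≠ 1 ∧ a5X ^ 3 = 1 ∧ a5X ≠ 1 ∧
    a5Y ^ 5 = 1 ∧ a5Y ≠ 1 := by
  decide +kernel

/-- the presentation, with its generators -/
theorem exists_presentation_equiv : ∃ q : PresentedGroup triRels ≃* A5,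
    q (PresentedGroup.of 0) = a5X ∧ q (PresentedGroup.of 1) = a5Y := by
  have hrel : ∀ r ∈ triRels, FreeGroup.lift ![a5X, a5Y] r = 1 := by
    intro r hr
    simp only [triRels, Set.mem_insert_iff, Set.mem_singleton_iff] at hr
    rcases hr with rfl | rfl | rfl <;> simp only [map_pow, map_mul, FreeGroup.lift_apply_of] <;>
      simp only [Matrix.cons_val_zero, Matrix.cons_val_one]
    · exact triangle_invol.2.2.1
    · exact triangle_invol.2.2.2.2.1
    · rw [pow_two]; exact triangle_invol.1
  obtain ⟨e⟩ := presentation_a5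
  let f : PresentedGroup triRels →* A5 := PresentedGroup.toGroup hrel
  have : Finite (PresentedGroup triRels) := Finite.of_equiv _ e.symm.toEquiv
  have hsurj : Function.Surjective f := by
    rw [← MonoidHom.range_eq_top]
    have hX : a5X ∈ f.range := ⟨PresentedGroup.of 0, PresentedGroup.toGroup.of hrel⟩
    have hY : a5Y ∈ f.range := ⟨PresentedGroup.of 1, PresentedGroup.toGroup.of hrel⟩
    rw [eq_top_iff]
    intro p _
    have hgen : Subgroup.closure ({a5X, a5Y} : Set A5) = ⊤ := by
      by_contra hne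
      set K := Subgroup.closure ({a5X, a5Y} : Set A5)
      have hXK : a5X ∈ K := Subgroup.subset_closure (by simp)
      have hYK : a5Y ∈ K := Subgroup.subset_closure (by simp)
      have h3 : 3 ∣ Nat.card K := by
        have := Fact.mk Nat.prime_three
        have := Subgroup.orderOf_dvd_natCard K hXK
        rwa [orderOf_eq_prime triangle_invol.2.2.1 triangle_invol.2.2.2.1] at this
      have h5 : 5 ∣ Nat.card K := by
        have := Fact.mk Nat.prime_five
        have := Subgroup.orderOf_dvd_natCard K hYK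
        rwa [orderOf_eq_prime triangle_invol.2.2.2.2.1 triangle_invol.2.2.2.2.2] at this
      have h2 : 2 ∣ Nat.card K := by
        have := Fact.mk Nat.prime_two
        have := Subgroup.orderOf_dvd_natCard K (K.mul_mem hXK hYK)
        rwa [orderOf_eq_prime (by rw [pow_two]; exact triangle_invol.1) triangle_invol.2.1] at this
      have h30 : 30 ∣ Nat.card K := by
        have h6 : 2 * 3 ∣ Nat.card K := Nat.Coprime.mul_dvd_of_dvd_of_dvd (by norm_num) h2 h3
        exact Nat.Coprime.mul_dvd_of_dvd_of_dvd (show Nat.Coprime 6 5 by norm_num) h6 h5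
      have hidx := K.card_mul_index
      rw [card_A5] at hidx
      have h1 : K.index ≠ 1 := fun h => hne (Subgroup.index_eq_one.1 h)
      obtain ⟨c, hc⟩ := h30
      rw [hc] at hidx
      have hc2 : K.index = 2 := by
        have hci : c * K.index = 2 := by
          rw [mul_assoc] at hidx
          omega
        rcases (Nat.dvd_prime Nat.prime_two).1 (Dvd.intro_left _ hci) with h | h
        · exact absurd h h1
        · exact h
      have := Subgroup.normal_of_index_eq_two hc2
      rcases this.eq_bot_or_eq_top with h | h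
      · rw [h, Subgroup.mem_bot] at hXK; exact triangle_invol.2.2.2.1 hXK
      · exact hne h
    have hle : Subgroup.closure ({a5X, a5Y} : Set A5) ≤ f.range :=
      (Subgroup.closure_le _).2 fun x hx => by rcases hx with rfl | rfl <;> assumption
    exact hle (hgen ▸ Subgroup.mem_top p)
  have hbij : Function.Bijective f :=
    (Nat.bijective_iff_surjective_and_card f).2 ⟨hsurj, Nat.card_congr e.toEquiv⟩
  exact ⟨MulEquiv.ofBijective f hbij, PresentedGroup.toGroup.of hrel, PresentedGroup.toGroup.of hrel⟩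

variable {G : Type*} [Group G] [Finite G]

theorem conj_mul_conj {g h x : G} : g * h * x * (g * h)⁻¹ = g * (h * x * h⁻¹) * g⁻¹ := by group

/-- critical extensions -/
theorem Small.affine_of_critical (hs : Small G) {M : Subgroup G} [M.Normal] (hexp : ∀ x ∈ M, x * x = 1)
    (hM1 : M ≠ ⊥) (e : G ⧸ M ≃* A5)
    (hcrit : ∀ H : Subgroup G, (∃ g ∈ H, orderOf g = 4) → (∀ p : A5, ∃ g ∈ H, e g = p) → H = ⊤) :
    Nonempty (G ≃* affGroup) := by
  classical
  have := Fact.mk Nat.prime_two
  have := Fact.mk Nat.prime_three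
  have := Fact.mk Nat.prime_five
  let φ₀ : G →* A5 := e.toMonoidHom.comp (QuotientGroup.mk' M)
  have hφ₀ : Function.Surjective φ₀ := e.surjective.comp (QuotientGroup.mk'_surjective M)
  let φ : ↥(⊤ : Subgroup G) →* A5 := φ₀.comp (Subgroup.subtype _)
  have hφ : Function.Surjective φ := fun p => by
    obtain ⟨x, rfl⟩ := hφ₀ p
    exact ⟨⟨x, trivial⟩, rfl⟩
  have hker : φ.ker = M.subgroupOf ⊤ := by
    ext x; simp [φ, φ₀, Subgroup.mem_subgroupOf]
  have hMp : IsPGroup 2 M := isPGroup_of_sq hexp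
  -- a complement
  obtain ⟨X, hX⟩ := hφ a5X
  have hX3 : orderOf (X : G) = 3 := hs.order_of_map φ Nat.prime_three (by norm_num)
    (by rw [hX]; exact orderOf_eq_prime triangle_invol.2.2.1 triangle_invol.2.2.2.1)
  obtain ⟨T, hT, hTT⟩ : ∃ T : ↥(⊤ : Subgroup G), φ T = a5X * a5Y ∧ (T : G) * T = 1 := by
    obtain ⟨x, hx3, hx1, hvx⟩ := inverted _ triangle_invol.1 triangle_invol.2.1
    obtain ⟨k, rfl⟩ := hφ x
    obtain ⟨t, ht, htt, -⟩ := hs.exists_lift_inverting φ hker hMp Nat.prime_three (by norm_num)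
      (orderOf_eq_prime hx3 hx1) triangle_invol.1 hvx hφ
    exact ⟨t, ht, htt⟩
  have hY : φ (X⁻¹ * T) = a5Y := by rw [map_mul, map_inv, hX, hT, inv_mul_cancel_left]
  have hY5 : orderOf ((X : G)⁻¹ * T) = 5 := by
    have := hs.order_of_map φ Nat.prime_five (by norm_num) (k := X⁻¹ * T)
      (by rw [hY]; exact orderOf_eq_prime triangle_invol.2.2.2.2.1 triangle_invol.2.2.2.2.2)
    simpa using this
  have hrel : ∀ r ∈ triRels, FreeGroup.lift ![(X : G), (X : G)⁻¹ * T] r = 1 := by
    intro r hr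
    simp only [triRels, Set.mem_insert_iff, Set.mem_singleton_iff] at hr
    rcases hr with rfl | rfl | rfl <;> simp only [map_pow, map_mul, FreeGroup.lift_apply_of] <;>
      simp only [Matrix.cons_val_zero, Matrix.cons_val_one]
    · exact hX3 ▸ pow_orderOf_eq_one _
    · exact hY5 ▸ pow_orderOf_eq_one _
    · rw [mul_inv_cancel_left, pow_two, hTT]
  obtain ⟨q, hq0, hq1⟩ := exists_presentation_equiv
  let h : A5 →* G := (PresentedGroup.toGroup hrel).comp q.symm.toMonoidHom
  have hsec : ∀ p, φ₀ (h p) = p := by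
    have hh : φ₀.comp (PresentedGroup.toGroup hrel) = q.toMonoidHom := PresentedGroup.ext fun i => by
      fin_cases i
      · show φ₀ (PresentedGroup.toGroup hrel (PresentedGroup.of 0)) = q (PresentedGroup.of 0)
        rw [PresentedGroup.toGroup.of, hq0]
        exact hX
      · show φ₀ (PresentedGroup.toGroup hrel (PresentedGroup.of 1)) = q (PresentedGroup.of 1)
        rw [PresentedGroup.toGroup.of, hq1]
        exact hY
    intro p
    exact (DFunLike.congr_fun hh (q.symm p)).trans (q.apply_symm_apply p)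
  have hinj : Function.Injective h := fun a b e' => by rw [← hsec a, e', hsec]
  have hsecφ : ∀ p, φ ⟨h p, trivial⟩ = p := hsec
  have hord : ∀ p, orderOf (h p) = orderOf p := fun p => orderOf_injective h hinj p
  have hnM : ∀ g, g ∈ Subgroup.normalizer (M : Set G) := fun g => by
    rw [Subgroup.normalizer_eq_top_iff.2 inferInstance]; trivial
  have hconj : ∀ g : G, ∀ x ∈ M, g * x * g⁻¹ ∈ M := fun g x hx => ‹M.Normal›.conj_mem x hx g
  -- the images of the generators
  set v := h v₁ with hv
  set v' := h v₂ with hv'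
  set a := h aa with ha
  set w := h ww with hw
  have hvv : v * v = 1 := by rw [hv, ← map_mul, v_sq.1.1, map_one]
  have hvv' : v' * v' = 1 := by rw [hv', ← map_mul, v_sq.2.1.1, map_one]
  have hvv3 : h v₃ * h v₃ = 1 := by rw [← map_mul, v_sq.2.2.1, map_one]
  have hww : w * w = 1 := by rw [hw, ← map_mul, ww_facts.1, map_one]
  have hwi : w⁻¹ = w := inv_eq_of_mul_eq_one_right hww
  have hvi : v⁻¹ = v := inv_eq_of_mul_eq_one_right hvv
  have ha3 : orderOf a = 3 := by rw [ha, hord]; exact orderOf_eq_prime aa_three.1 aa_three.2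
  have ha3' : a ^ 3 = 1 := ha3 ▸ pow_orderOf_eq_one a
  obtain ⟨c1, c1', c2, c2', c3, c3'⟩ := coset_three
  obtain ⟨q1, q2, q3⟩ := coset_sq
  have hshift : ∀ {u u' : A5}, u * u = 1 → u ≠ 1 → u' * u' = 1 → (u * aa) ^ 3 = 1 → u * aa ≠ 1 →
      u * aa * (u * aa) = u' * (aa * aa) → ∀ x ∈ fixedIn M (h u), x ∈ fixedIn M (h u') := by
    intro u u' hu hu1 hu' hua hua1 hsq x hx
    obtain ⟨k, hk3, hk1, huk⟩ := inverted u hu hu1
    exact hs.fix_shift (N := ⊤) (fun g _ => hnM g) φ hker hexp (t := ⟨h u, trivial⟩) (t' := ⟨h u', trivial⟩)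
      (k₀ := ⟨h k, trivial⟩) (b := ⟨a, trivial⟩) ha3
      (by rw [ha, ← map_mul, hord]; exact orderOf_eq_prime hua hua1)
      (by rw [← map_mul, hu, map_one]) (by rw [hord]; exact orderOf_eq_prime hk3 hk1)
      (by rw [← map_mul, ← map_mul, huk, map_inv])
      (by rw [hsecφ, hsecφ, hsecφ]; exact hsq) (by rw [← map_mul, hu', map_one]) hx
  have h12 : ∀ x ∈ fixedIn M v, x ∈ fixedIn M v' := fun x hx =>
    hshift v_sq.2.2.1 v_sq.2.2.2 v_sq.2.1.1 c3 c3' q3 x
      (hshift v_sq.1.1 v_sq.1.2 v_sq.2.2.1 c1 c1' q1 x hx)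
  -- conjugation by `a` preserves the fixed points
  have haZ : ∀ x ∈ fixedIn M v, a * x * a⁻¹ ∈ fixedIn M v := by
    intro x hx
    have h3 : x ∈ fixedIn M (h v₃) := hshift v_sq.1.1 v_sq.1.2 v_sq.2.2.1 c1 c1' q1 x hx
    have hp : aa * v₃ * aa⁻¹ = v₁ ∨ aa * v₂ * aa⁻¹ = v₁ := by decide +kernel
    have : ∀ {u : A5}, aa * u * aa⁻¹ = v₁ → x ∈ fixedIn M (h u) → a * x * a⁻¹ ∈ fixedIn M v := by
      intro u hu hxu
      have h1 := conj_mem_cjg (g := a) hxu
      rwa [cjg_fixedIn, cjg_eq_of_mem (hnM a), ha, ← map_inv, ← map_mul, ← map_mul, hu, map_inv] at h1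
    rcases hp with hp | hp
    · exact this hp h3
    · exact this hp (h12 x hx)
  -- fixed points meet their translate under `w` trivially
  have hdisj : ∀ x ∈ fixedIn M v, w * x * w ∈ fixedIn M v → x = 1 := by
    intro x hx hxw
    obtain ⟨hxM, hxv⟩ := mem_fixedIn.1 hx
    have h1 := (mem_fixedIn.1 hxw).2
    have hu : x * (w * v * w) = w * v * w * x := by
      calc x * (w * v * w) = (w * w) * x * (w * v * w) := by rw [hww, one_mul]
        _ = w * (w * x * w * v) * w := by group
        _ = w * (v * (w * x * w)) * w := by rw [h1]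
        _ = w * v * w * x * (w * w) := by group
        _ = _ := by rw [hww, mul_one]
    refine hs.fpf Nat.prime_three (by norm_num) (k := w * v * w * v) ?_ (pow_four_of_sq (hexp x hxM)) ?_
    · rw [hw, hv, ← map_mul, ← map_mul, ← map_mul, hord]
      exact orderOf_eq_prime ww_facts.2.2.2.2.1 ww_facts.2.2.2.2.2
    · exact ((show Commute x (w * v * w) from hu).mul_right hxv).symm
  -- the action of `v` on the translate
  have hvw : ∀ y ∈ fixedIn M v, v * (w * y * w) * v = w * y * w * y := by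
    intro y hy
    obtain ⟨hyM, hyv⟩ := mem_fixedIn.1 hy
    have hu : w * y * w ∈ M := by have := hconj w y hyM; rwa [hwi] at this
    set u := w * y * w with hu_def
    have hvu : v * u * v ∈ M := by have := hconj v u hu; rwa [hvi] at this
    set f := u * (v * u * v) with hf_def
    have hf : f ∈ fixedIn M v := by
      refine mem_fixedIn.2 ⟨M.mul_mem hu hvu, ?_⟩
      calc f * v = u * v * u * (v * v) := by rw [hf_def]; group
        _ = u * v * u := by rw [hvv, mul_one]
        _ = (v * v) * (u * v * u) := by rw [hvv, one_mul]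
        _ = v * ((v * u * v) * u) := by group
        _ = _ := by rw [commute_of_exp_two hexp hvu hu]
    have hwf : w * f * w ∈ M := by have := hconj w f (mem_fixedIn.1 hf).1; rwa [hwi] at this
    set f' := w * f * w with hf'_def
    have hvf' : v * f' * v ∈ M := by have := hconj v f' hwf; rwa [hvi] at this
    set g := f' * (v * f' * v) with hg_def
    have hg : g ∈ fixedIn M v := by
      refine mem_fixedIn.2 ⟨M.mul_mem hwf hvf', ?_⟩
      calc g * v = f' * v * f' * (v * v) := by rw [hg_def]; group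
        _ = f' * v * f' := by rw [hvv, mul_one]
        _ = (v * v) * (f' * v * f') := by rw [hvv, one_mul]
        _ = v * ((v * f' * v) * f') := by group
        _ = _ := by rw [commute_of_exp_two hexp hvf' hwf]
    have hk : orderOf (v * w) = 3 := by
      rw [hv, hw, ← map_mul, hord]; exact orderOf_eq_prime ww_facts.2.2.1 ww_facts.2.2.2.1
    have n := hs.norm_eq_one Nat.prime_three hk (hconj _) (fun z hz => pow_four_of_sq (hexp z hz))
      (by norm_num) hyM
    simp only [List.range_succ, List.range_zero, List.nil_append, List.cons_append, List.map_cons,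
      List.map_nil, List.prod_cons, List.prod_nil, mul_one, pow_zero, one_mul, inv_one, pow_one,
      pow_two] at n
    have e1 : v * w * y * (v * w)⁻¹ = u * f := by
      rw [mul_inv_rev, hwi, hvi, hf_def, ← mul_assoc u, hexp u hu, one_mul, hu_def]; group
    have e2 : v * w * (v * w) * y * (v * w * (v * w))⁻¹ = y * (f' * g) := by
      have hwu : w * u * w = y := by
        rw [hu_def]
        calc w * (w * y * w) * w = (w * w) * y * (w * w) := by group
          _ = y := by rw [hww, one_mul, mul_one]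
      have hyfix : v * y * v = y := by rw [← hyv, mul_assoc, hvv, mul_one]
      calc v * w * (v * w) * y * (v * w * (v * w))⁻¹
          = v * w * (v * w * y * (v * w)⁻¹) * (v * w)⁻¹ := by group
        _ = v * w * (u * f) * (v * w)⁻¹ := by rw [e1]
        _ = v * w * u * (w * w) * f * w * v := by rw [hww, mul_inv_rev, hwi, hvi]; group
        _ = v * (w * u * w) * (w * f * w) * v := by group
        _ = v * y * (v * v) * f' * v := by rw [hwu, ← hf'_def, hvv]; group
        _ = (v * y * v) * (v * f' * v) := by group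
        _ = y * (v * f' * v) := by rw [hyfix]
        _ = _ := by rw [hg_def, ← mul_assoc f', hexp f' hwf, one_mul]
    rw [e1, e2] at n
    let _ : CommGroup M := { (inferInstance : Group M) with
      mul_comm := fun a b => Subtype.ext (commute_of_exp_two hexp a.2 b.2) }
    have n' : (⟨y, hyM⟩ * (⟨u, hu⟩ * ⟨f, (mem_fixedIn.1 hf).1⟩ *
        (⟨y, hyM⟩ * (⟨f', hwf⟩ * ⟨g, (mem_fixedIn.1 hg).1⟩))) : M) = 1 := Subtype.ext n
    have n2 : ((⟨f, (mem_fixedIn.1 hf).1⟩ * ⟨g, (mem_fixedIn.1 hg).1⟩) * (⟨u, hu⟩ * ⟨f', hwf⟩) : M) = 1 := by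
      have hyy : (⟨y, hyM⟩ * ⟨y, hyM⟩ : M) = 1 := Subtype.ext (hexp y hyM)
      refine Eq.trans ?_ n'
      conv_lhs => rw [← one_mul ((⟨f, (mem_fixedIn.1 hf).1⟩ * ⟨g, (mem_fixedIn.1 hg).1⟩) * (⟨u, hu⟩ * ⟨f', hwf⟩) : M), ← hyy]
      ac_rfl
    have n3 : u * f' = f * g := by
      have := congrArg Subtype.val n2
      push_cast at this
      rw [eq_inv_of_mul_eq_one_right this]
      exact inv_eq_of_mul_eq_one_right (hexp _ (M.mul_mem (mem_fixedIn.1 hf).1 (mem_fixedIn.1 hg).1))
    have hyf : y * f = 1 := by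
      refine hdisj _ ((fixedIn M v).mul_mem hy hf) ?_
      rw [show w * (y * f) * w = u * f' by
        calc w * (y * f) * w = w * y * (w * w) * f * w := by rw [hww]; group
          _ = _ := by rw [hu_def, hf'_def]; group, n3]
      exact (fixedIn M v).mul_mem hf hg
    have hfy : f = y := (eq_inv_of_mul_eq_one_right hyf).trans (inv_eq_of_mul_eq_one_right (hexp y hyM))
    calc v * u * v = u * f := by rw [hf_def, ← mul_assoc u u, hexp u hu, one_mul]
      _ = _ := by rw [hfy]
  -- a vector fixed by `v`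
  obtain ⟨z, hz, hz1⟩ : ∃ z ∈ fixedIn M v, z ≠ 1 := by
    obtain ⟨k, hk3, hk1, hvk⟩ := inverted v₁ v_sq.1.1 v_sq.1.2
    have hc := hs.card_fixedIn hexp Nat.prime_three (by norm_num) (k := h k) (t := v)
      (by rw [hord]; exact orderOf_eq_prime hk3 hk1) hvv
      (by rw [hv, ← map_mul, ← map_mul, hvk, map_inv]) (hnM _) (hnM _)
    have hne : fixedIn M v ≠ ⊥ := fun hb => hM1 (Subgroup.card_eq_one.1 (by
      rw [← hc, hb, Subgroup.card_bot]))
    obtain ⟨z, hz, hz1⟩ := (fixedIn M v).bot_or_exists_ne_one.resolve_left hne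
    exact ⟨z, hz, hz1⟩
  have hzM := (mem_fixedIn.1 hz).1
  set z' := a * z * a⁻¹ with hz'_def
  have hz' : z' ∈ fixedIn M v := haZ z hz
  have hz'M := (mem_fixedIn.1 hz').1
  have hz'1 : z' ≠ 1 := fun e' => hz1 (conj_eq_one_iff.1 e')
  have hzz' : z' ≠ z := fun e' => hz1 (hs.fpf Nat.prime_three (by norm_num) ha3 (pow_four_of_sq (hexp z hzM))
    (mul_inv_eq_iff_eq_mul.1 e'))
  have haz' : a * z' * a⁻¹ = z * z' := by
    have n := hs.norm_eq_one Nat.prime_three ha3 (hconj a) (fun x hx => pow_four_of_sq (hexp x hx))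
      (by norm_num) hzM
    simp only [List.range_succ, List.range_zero, List.nil_append, List.cons_append, List.map_cons,
      List.map_nil, List.prod_cons, List.prod_nil, mul_one, pow_zero, one_mul, inv_one, pow_one,
      pow_two] at n
    rw [← mul_assoc, ← hz'_def] at n
    rw [show a * z' * a⁻¹ = a * a * z * (a * a)⁻¹ by rw [hz'_def]; group,
      eq_inv_of_mul_eq_one_right n,
      inv_eq_of_mul_eq_one_right (hexp _ (M.mul_mem hzM hz'M))]
  let ι : GF4 → G := fun α => match α with
    | .o => 1 | .l => z | .w => z' | .u => z * z'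
  have hιZ : ∀ α, ι α ∈ fixedIn M v := by
    intro α; cases α
    exacts [one_mem _, hz, hz', mul_mem hz hz']
  have hιM : ∀ α, ι α ∈ M := fun α => (mem_fixedIn.1 (hιZ α)).1
  have hzc : z' * z = z * z' := commute_of_exp_two hexp hz'M hzM
  have hι_add : ∀ α β, ι (α + β) = ι α * ι β := by
    intro α β
    have h1 := hexp z hzM
    have h2 := hexp z' hz'M
    cases α <;> cases β
    · exact (one_mul 1).symm
    · exact (one_mul _).symm
    · exact (one_mul _).symm
    · exact (one_mul _).symm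
    · exact (mul_one _).symm
    · exact h1.symm
    · rfl
    · show z' = z * (z * z'); rw [← mul_assoc, h1, one_mul]
    · exact (mul_one _).symm
    · exact hzc.symm
    · exact h2.symm
    · show z = z' * (z * z'); rw [hzc.symm, ← mul_assoc, h2, one_mul]
    · exact (mul_one _).symm
    · show z' = z * z' * z; rw [mul_assoc, hzc, ← mul_assoc, h1, one_mul]
    · show z = z * z' * z'; rw [mul_assoc, h2, mul_one]
    · show (1 : G) = z * z' * (z * z')
      exact (hexp _ (M.mul_mem hzM hz'M)).symm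
  have hι_one : ∀ α, ι α = 1 → α = 0 := by
    intro α hα
    cases α
    · rfl
    · exact absurd hα hz1
    · exact absurd hα hz'1
    · exact absurd ((eq_inv_of_mul_eq_one_right hα).trans (inv_eq_of_mul_eq_one_right (hexp z hzM))) hzz'
  have hι_conj : ∀ α, a * ι α * a⁻¹ = ι (GF4.w * α) := by
    intro α; cases α
    · show a * 1 * a⁻¹ = 1; rw [mul_one, mul_inv_cancel]
    · rfl
    · exact haz'
    · show a * (z * z') * a⁻¹ = z
      rw [show a * (z * z') * a⁻¹ = a * z * a⁻¹ * (a * z' * a⁻¹) by group, ← hz'_def, haz', hzc.symm,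
        ← mul_assoc, hexp z' hz'M, one_mul]
  have hwconj : ∀ x y, w * (x * y) * w = w * x * w * (w * y * w) := fun x y => by
    calc w * (x * y) * w = w * x * (w * w) * y * w := by rw [hww]; group
      _ = _ := by group
  have hwM : ∀ x ∈ M, w * x * w ∈ M := fun x hx => by have := hconj w x hx; rwa [hwi] at this
  let E : GF4 × GF4 → G := fun t => ι t.1 * (w * ι t.2 * w)
  have hEM : ∀ t, E t ∈ M := fun t => M.mul_mem (hιM _) (hwM _ (hιM _))
  have hE_add : ∀ s t, E (s + t) = E s * E t := by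
    intro s t
    show ι (s.1 + t.1) * (w * ι (s.2 + t.2) * w) = ι s.1 * (w * ι s.2 * w) * (ι t.1 * (w * ι t.2 * w))
    rw [hι_add, hι_add, hwconj, mul_assoc (ι s.1) (w * ι s.2 * w), ← mul_assoc (w * ι s.2 * w) (ι t.1),
      commute_of_exp_two hexp (hwM _ (hιM s.2)) (hιM t.1)]
    simp only [mul_assoc]
  have hE_one : ∀ t, E t = 1 → t = 0 := by
    intro t ht
    have h1 : w * ι t.2 * w = ι t.1 := by
      rw [eq_inv_of_mul_eq_one_right ht]
      exact inv_eq_of_mul_eq_one_right (hexp _ (hιM _))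
    have h2 := hdisj _ (hιZ t.2) (h1 ▸ hιZ t.1)
    have h3 : ι t.1 = 1 := by rw [← h1, h2, mul_one, hww]
    exact Prod.ext (hι_one _ h3) (hι_one _ h2)
  have hE0 : E 0 = 1 := by
    have := hE_add 0 0
    rw [add_zero] at this
    exact left_eq_mul.1 this
  -- pairs of an element and a matrix acting in the same way
  let Q : G → SL3F → Prop := fun g A => ∀ t, ∃ t', g * E t * g⁻¹ = E t' ∧ A * tr t = tr t' * A
  have hQmul : ∀ {g g' A A'}, Q g A → Q g' A' → Q (g * g') (A * A') := by
    intro g g' A A' h1 h2 t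
    obtain ⟨t', e1, e2⟩ := h2 t
    obtain ⟨t'', f1, f2⟩ := h1 t'
    exact ⟨t'', by rw [conj_mul_conj, e1, f1], by rw [mul_assoc, e2, ← mul_assoc, f2, mul_assoc]⟩
  have hQone : Q 1 1 := fun t => ⟨t, by rw [one_mul, inv_one, mul_one], by rw [one_mul, mul_one]⟩
  have hQv : Q v mV := fun t => ⟨(t.1 + t.2, t.2), by
    show v * (ι t.1 * (w * ι t.2 * w)) * v⁻¹ = ι (t.1 + t.2) * (w * ι t.2 * w)
    have h1 : v * ι t.1 * v⁻¹ = ι t.1 := by
      rw [← (mem_fixedIn.1 (hιZ t.1)).2, mul_inv_cancel_right]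
    have h2 : v * (w * ι t.2 * w) * v⁻¹ = w * ι t.2 * w * ι t.2 := by rw [hvi]; exact hvw _ (hιZ t.2)
    rw [hι_add, show v * (ι t.1 * (w * ι t.2 * w)) * v⁻¹ =
      v * ι t.1 * v⁻¹ * (v * (w * ι t.2 * w) * v⁻¹) by group, h1, h2,
      ← commute_of_exp_two hexp (hιM t.2) (hwM _ (hιM t.2)), ← mul_assoc (ι t.1)], mV_tr t.1 t.2⟩
  have hQw : Q w mW := fun t => ⟨(t.2, t.1), by
    show w * (ι t.1 * (w * ι t.2 * w)) * w⁻¹ = ι t.2 * (w * ι t.1 * w)
    rw [hwi, hwconj, show w * (w * ι t.2 * w) * w = ι t.2 by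
      calc w * (w * ι t.2 * w) * w = (w * w) * ι t.2 * (w * w) := by group
        _ = _ := by rw [hww, one_mul, mul_one],
      commute_of_exp_two hexp (hwM _ (hιM t.1)) (hιM t.2)], mW_tr t.1 t.2⟩
  have haw : w * a * w = a⁻¹ := by rw [hw, ha, ← map_mul, ← map_mul, ww_facts.2.1, map_inv]
  have hQa : Q a mA := fun t => ⟨(GF4.w * t.1, GF4.u * t.2), by
    show a * (ι t.1 * (w * ι t.2 * w)) * a⁻¹ = ι (GF4.w * t.1) * (w * ι (GF4.u * t.2) * w)
    have hu : GF4.u * t.2 = GF4.w * (GF4.w * t.2) := by rw [← mul_assoc]; rfl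
    rw [hu, ← hι_conj, ← hι_conj (GF4.w * t.2), ← hι_conj t.2,
      show a * (ι t.1 * (w * ι t.2 * w)) * a⁻¹ = a * ι t.1 * a⁻¹ * (a * (w * ι t.2 * w) * a⁻¹) by group]
    congr 1
    have hawi : a * w = w * a⁻¹ := by rw [← haw, ← mul_assoc, ← mul_assoc, hww, one_mul]
    have hwai : w * a⁻¹ = a * w := hawi.symm
    have ha2 : a * a = a⁻¹ := eq_inv_of_mul_eq_one_left (by rw [← pow_two, ← pow_succ, ha3'])
    calc a * (w * ι t.2 * w) * a⁻¹ = a * w * ι t.2 * (a * w)⁻¹ := by rw [mul_inv_rev, hwi]; group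
      _ = w * (a⁻¹ * ι t.2 * a) * w := by rw [hawi, mul_inv_rev, inv_inv, hwi]; group
      _ = _ := by
        have e : a⁻¹ * ι t.2 * a = a * a * ι t.2 * (a * a)⁻¹ := by rw [ha2, inv_inv]
        rw [e]; group, mA_tr t.1 t.2⟩
  -- the model
  have hrelT : ∀ r ∈ triRels, FreeGroup.lift ![mX, mY] r = 1 := by
    intro r hr
    simp only [triRels, Set.mem_insert_iff, Set.mem_singleton_iff] at hr
    rcases hr with rfl | rfl | rfl <;> simp only [map_pow, map_mul, FreeGroup.lift_apply_of] <;>
      simp only [Matrix.cons_val_zero, Matrix.cons_val_one]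
    · exact triangle.1
    · exact triangle.2.1
    · exact triangle.2.2
  let hT : A5 →* SL3F := (PresentedGroup.toGroup hrelT).comp q.symm.toMonoidHom
  have hQXY : ∀ p, Q (h p) (hT p) := by
    have hX' : Q (h a5X) (hT a5X) := by
      have e1 : hT a5X = mX := by
        show PresentedGroup.toGroup hrelT (q.symm a5X) = _
        rw [← hq0, MulEquiv.symm_apply_apply, PresentedGroup.toGroup.of]; rfl
      rw [e1, gen_words.1, map_mul, map_mul]
      exact hQmul (hQmul hQv hQa) hQa
    have hY' : Q (h a5Y) (hT a5Y) := by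
      have e1 : hT a5Y = mY := by
        show PresentedGroup.toGroup hrelT (q.symm a5Y) = _
        rw [← hq1, MulEquiv.symm_apply_apply, PresentedGroup.toGroup.of]; rfl
      rw [e1, gen_words.2]
      simp only [map_mul]
      exact hQmul (hQmul (hQmul (hQmul (hQmul hQv hQa) hQw) hQv) hQa) hQv
    have hpow : ∀ (g : G) (A : SL3F), Q g A → ∀ n : ℕ, Q (g ^ n) (A ^ n) := fun g A hg n => by
      induction n with
      | zero => rw [pow_zero, pow_zero]; exact hQone
      | succ n ih => rw [pow_succ, pow_succ]; exact hQmul ih hg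
    intro p
    obtain ⟨r, rfl⟩ := q.surjective p
    have hr : r ∈ Subgroup.closure (Set.range (PresentedGroup.of : Fin 2 → PresentedGroup triRels)) := by
      rw [PresentedGroup.closure_range_of]; trivial
    induction hr using Subgroup.closure_induction with
    | mem x hx =>
      obtain ⟨i, rfl⟩ := hx
      fin_cases i
      · show Q (h (q (PresentedGroup.of 0))) (hT (q (PresentedGroup.of 0)))
        rw [hq0]; exact hX'
      · show Q (h (q (PresentedGroup.of 1))) (hT (q (PresentedGroup.of 1)))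
        rw [hq1]; exact hY'
    | one => simp only [map_one]; exact hQone
    | mul x y _ _ ihx ihy => simp only [map_mul]; exact hQmul ihx ihy
    | inv x _ ih =>
      have e1 : (q x)⁻¹ = q x ^ (orderOf (q x) - 1) := (eq_inv_of_mul_eq_one_left
        (by rw [← pow_succ, Nat.sub_add_cancel (orderOf_pos (q x)), pow_orderOf_eq_one])).symm
      rw [map_inv q, e1, map_pow, map_pow]
      exact hpow _ _ ih _
  -- the subgroup generated is everything
  let H : Subgroup G :=
    { carrier := {g | ∃ t p, g = E t * h p}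
      one_mem' := ⟨0, 1, by rw [hE0, map_one, one_mul]⟩
      mul_mem' := by
        rintro _ _ ⟨t, p, rfl⟩ ⟨t', p', rfl⟩
        obtain ⟨t'', e1, -⟩ := hQXY p t'
        refine ⟨t + t'', p * p', ?_⟩
        rw [hE_add, map_mul, ← e1]; group
      inv_mem' := by
        rintro _ ⟨t, p, rfl⟩
        obtain ⟨t'', e1, -⟩ := hQXY p⁻¹ t
        refine ⟨t'', p⁻¹, ?_⟩
        rw [← e1, mul_inv_rev, map_inv,
          inv_eq_of_mul_eq_one_right (hexp _ (hEM t))]
        group }
  have hHtop : H = ⊤ := by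
    refine hcrit H ⟨E (0, 1) * v, ⟨(0, 1), v₁, rfl⟩, ?_⟩ fun p => ⟨h p, ⟨0, p, by rw [hE0, one_mul]⟩, hsec p⟩
    obtain ⟨t', e1, e2⟩ := hQv (0, 1)
    have ht' : t' = (0 + 1, 1) := by
      refine tr_injective (mul_right_cancel (b := mV) ?_)
      rw [← e2, mV_tr]
    have hsq : E (0, 1) * v * (E (0, 1) * v) = E (1, 0) := by
      calc E (0, 1) * v * (E (0, 1) * v) = E (0, 1) * (v * E (0, 1) * v⁻¹) * (v * v) := by group
        _ = E ((0, 1) + t') := by rw [e1, hvv, mul_one, hE_add]
        _ = _ := by rw [ht']; rfl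
    have h1 : E (1, 0) ≠ 1 := fun h' => by
      have : (1 : GF4) = 0 := congrArg Prod.fst (hE_one ((1 : GF4), (0 : GF4)) h')
      exact one_ne_zero this
    refine orderOf_eq_prime_pow (p := 2) (n := 1) ?_ ?_
    · rw [pow_one, pow_two, hsq]; exact h1
    · rw [pow_succ, pow_one, pow_mul, pow_two, pow_two, hsq]; exact hexp _ (hEM ((1 : GF4), (0 : GF4)))
  have hform : ∀ g : G, ∃ t p, g = E t * h p := fun g => (hHtop ▸ Subgroup.mem_top g : g ∈ H)
  have huniq : ∀ {t p t' p'}, E t * h p = E t' * h p' → t = t' ∧ p = p' := by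
    intro t p t' p' he
    have hp : p = p' := by
      have := congrArg φ₀ he
      rw [map_mul φ₀ (E t) (h p), map_mul φ₀ (E t') (h p'), hsec, hsec] at this
      have hM0 : ∀ s, φ₀ (E s) = 1 := fun s => by
        show e (QuotientGroup.mk' M (E s)) = 1
        rw [show QuotientGroup.mk' M (E s) = 1 from (QuotientGroup.eq_one_iff _).2 (hEM s), map_one]
      rwa [hM0, hM0, one_mul, one_mul] at this
    subst hp
    have h1 := mul_right_cancel he
    refine ⟨sub_eq_zero.1 ?_, rfl⟩
    refine hE_one _ ?_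
    have : E (t - t') * E t' = E t' := by rw [← hE_add, sub_add_cancel, h1]
    exact mul_eq_right.1 this
  choose tt pp htp using hform
  let θ : G →* SL3F := MonoidHom.mk' (fun g => tr (tt g) * hT (pp g)) fun g g' => by
    obtain ⟨t'', e1, e2⟩ := hQXY (pp g) (tt g')
    have hprod : g * g' = E (tt g + t'') * h (pp g * pp g') := by
      conv_lhs => rw [htp g, htp g']
      rw [hE_add, map_mul, ← e1]; group
    obtain ⟨h1, h2⟩ := huniq ((htp (g * g')).symm.trans hprod)
    show tr (tt (g * g')) * hT (pp (g * g')) = tr (tt g) * hT (pp g) * (tr (tt g') * hT (pp g'))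
    rw [h1, h2, tr_add, map_mul, mul_assoc (tr (tt g)) (hT (pp g)), ← mul_assoc (hT (pp g)) (tr (tt g')),
      e2]
    simp only [mul_assoc]
  -- only the identity of `A5` centralises `z`
  let K : Subgroup A5 :=
    { carrier := {p | ∀ t, h p * E t = E t * h p}
      one_mem' := fun t => by rw [map_one, one_mul, mul_one]
      mul_mem' := fun {p p'} hp hp' t => by
        rw [map_mul, mul_assoc, hp' t, ← mul_assoc, hp t, mul_assoc]
      inv_mem' := fun {p} hp t => by
        rw [map_inv, inv_mul_eq_iff_eq_mul, ← mul_assoc, hp t, mul_assoc, mul_inv_cancel, mul_one] }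
  have hK : K = ⊥ := by
    have : K.Normal := by
      refine ⟨fun p hp r t => ?_⟩
      obtain ⟨t', e1, -⟩ := hQXY r⁻¹ t
      rw [map_inv, inv_inv] at e1
      rw [map_mul, map_mul, map_inv]
      calc h r * h p * (h r)⁻¹ * E t = h r * (h p * ((h r)⁻¹ * E t * h r)) * (h r)⁻¹ := by group
        _ = h r * (h p * E t') * (h r)⁻¹ := by rw [e1]
        _ = h r * (E t' * h p) * (h r)⁻¹ := by rw [hp t']
        _ = h r * (((h r)⁻¹ * E t * h r) * h p) * (h r)⁻¹ := by rw [e1]
        _ = _ := by group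
    rcases this.eq_bot_or_eq_top with h' | h'
    · exact h'
    · exfalso
      have := (h' ▸ Subgroup.mem_top aa : aa ∈ K) (1, 0)
      have hE1 : E (1, 0) = z := by
        show z * (w * 1 * w) = z
        rw [mul_one, hww, mul_one]
      rw [hE1] at this
      exact hz1 (hs.fpf Nat.prime_three (by norm_num) ha3 (pow_four_of_sq (hexp z hzM)) this)
  have hθinj : Function.Injective θ := by
    rw [injective_iff_map_eq_one]
    intro g hg
    have hg' : tr (tt g) * hT (pp g) = 1 := hg
    have htr0 : tr 0 = 1 := by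
      have := tr_add 0 0
      rw [add_zero] at this
      exact left_eq_mul.1 this
    have hp : pp g = 1 := by
      refine Subgroup.mem_bot.1 (hK ▸ ?_ : pp g ∈ (⊥ : Subgroup A5))
      intro t
      obtain ⟨t', e1, e2⟩ := hQXY (pp g) t
      rw [eq_inv_of_mul_eq_one_right hg'] at e2
      have ht : t' = t := by
        refine tr_injective (mul_right_cancel (b := (tr (tt g))⁻¹) ?_)
        rw [← e2, eq_mul_inv_iff_mul_eq, mul_assoc, ← tr_add, inv_mul_eq_iff_eq_mul, ← tr_add,
          add_comm]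
      rw [ht] at e1
      exact mul_inv_eq_iff_eq_mul.1 e1
    rw [hp, map_one, mul_one, ← htr0] at hg'
    rw [htp g, hp, tr_injective hg', hE0, map_one, mul_one]
  have hrange : θ.range = affGroup := by
    have hle : θ.range ≤ affGroup := by
      rintro _ ⟨g, rfl⟩
      refine affGroup.mul_mem ?_ ?_
      · exact ⟨by simp [tr], by simp [tr], by simp [tr]⟩
      · suffices hsub : (⊤ : Subgroup (PresentedGroup triRels)) ≤
            affGroup.comap (PresentedGroup.toGroup hrelT) from hsub (Subgroup.mem_top (q.symm (pp g)))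
        rw [← PresentedGroup.closure_range_of, Subgroup.closure_le]
        rintro _ ⟨i, rfl⟩
        rw [SetLike.mem_coe, Subgroup.mem_comap, PresentedGroup.toGroup.of]
        fin_cases i
        · exact affGroup.mul_mem (affGroup.mul_mem ⟨rfl, rfl, rfl⟩ ⟨rfl, rfl, rfl⟩) ⟨rfl, rfl, rfl⟩
        · exact affGroup.mul_mem (affGroup.mul_mem (affGroup.mul_mem (affGroup.mul_mem
            (affGroup.mul_mem ⟨rfl, rfl, rfl⟩ ⟨rfl, rfl, rfl⟩) ⟨rfl, rfl, rfl⟩) ⟨rfl, rfl, rfl⟩)
            ⟨rfl, rfl, rfl⟩) ⟨rfl, rfl, rfl⟩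
    refine Subgroup.eq_of_le_of_card_ge hle (card_affGroup_le.trans ?_)
    rw [Nat.card_congr (MonoidHom.ofInjective hθinj).symm.toEquiv]
    let Φ : (GF4 × GF4) × A5 → G := fun x => E x.1 * h x.2
    have hΦ : Function.Injective Φ := fun x y hxy => by
      obtain ⟨h1, h2⟩ := huniq hxy
      exact Prod.ext h1 h2
    refine le_trans ?_ (Nat.card_le_card_of_injective Φ hΦ)
    rw [Nat.card_prod, card_A5, Nat.card_eq_fintype_card, Fintype.card_prod, GF4.card_eq]
  exact ⟨(MonoidHom.ofInjective hθinj).trans (MulEquiv.subgroupCongr hrange)⟩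

end Cfsg.Agent.Lib.RecogThree.OrdersFive
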