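import Mathlib

/-! Facts on the alternating group of degree five. -/

namespace Cfsg.Agent.Lib.RecogThree.OrdersFive

open Equiv

/-- the alternating group of degree 5 -/
abbrev A5 := ↥(alternatingGroup (Fin 5))

/-- a 3-cycle -/
def aa : A5 := ⟨c[1, 2, 3], Equiv.Perm.mem_alternatingGroup.2 (by decide)⟩

/-- the involutions of a four-group normalised by `aa` -/
def v₁ : A5 := ⟨c[0, 1] * c[2, 3], Equiv.Perm.mem_alternatingGroup.2 (by decide)⟩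
/-- second involution -/
def v₂ : A5 := ⟨c[0, 2] * c[1, 3], Equiv.Perm.mem_alternatingGroup.2 (by decide)⟩
/-- third involution -/
def v₃ : A5 := ⟨c[0, 3] * c[1, 2], Equiv.Perm.mem_alternatingGroup.2 (by decide)⟩
/-- a 5-cycle -/
def ff : A5 := ⟨c[0, 1, 2, 3, 4], Equiv.Perm.mem_alternatingGroup.2 (by decide)⟩

theorem aa_three : aa ^ 3 = 1 ∧ aa ≠ 1 := by decide +kernel

theorem ff_five : ff ^ 5 = 1 ∧ ff ≠ 1 := by decide +kernel

/-- the four-group -/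
def fourGroup : Subgroup A5 where
  carrier := {r | r = 1 ∨ r = v₁ ∨ r = v₂ ∨ r = v₃}
  one_mem' := Or.inl rfl
  mul_mem' := by
    rintro a b (rfl | rfl | rfl | rfl) (rfl | rfl | rfl | rfl) <;>
      simp only [Set.mem_ofPred_eq] <;> decide +kernel
  inv_mem' := by
    rintro a (rfl | rfl | rfl | rfl) <;> simp only [Set.mem_ofPred_eq] <;> decide +kernel

theorem mem_fourGroup {r : A5} : r ∈ fourGroup ↔ r = 1 ∨ r = v₁ ∨ r = v₂ ∨ r = v₃ := Iff.rfl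

theorem card_fourGroup : Nat.card fourGroup = 4 := by
  have hset : (fourGroup : Set A5) = ↑({1, v₁, v₂, v₃} : Finset A5) := by
    ext r; simp [mem_fourGroup]
  rw [← SetLike.coe_sort_coe, hset]
  simp only [SetLike.coe_sort_coe, Nat.card_eq_finsetCard]
  decide +kernel

theorem aa_fourGroup : ∀ r : A5, r = 1 ∨ r = v₁ ∨ r = v₂ ∨ r = v₃ →
    aa * r * aa⁻¹ = 1 ∨ aa * r * aa⁻¹ = v₁ ∨ aa * r * aa⁻¹ = v₂ ∨ aa * r * aa⁻¹ = v₃ := by
  decide +kernel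

theorem invert_three : ∀ x : A5, x ^ 3 = 1 →
    ∃ y : A5, y * y = 1 ∧ y ≠ 1 ∧ y * x * y = x⁻¹ := by
  decide +kernel

theorem inverted : ∀ y : A5, y * y = 1 → y ≠ 1 →
    ∃ x : A5, x ^ 3 = 1 ∧ x ≠ 1 ∧ y * x * y = x⁻¹ := by
  decide +kernel

theorem v_sq : (v₁ * v₁ = 1 ∧ v₁ ≠ 1) ∧ (v₂ * v₂ = 1 ∧ v₂ ≠ 1) ∧ (v₃ * v₃ = 1 ∧ v₃ ≠ 1) := by
  decide +kernel

theorem v_mul : v₁ * v₂ = v₃ ∧ v₂ * v₁ = v₃ ∧ v₁ * v₃ = v₂ ∧ v₃ * v₁ = v₂ := by
  decide +kernel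

theorem card_A5 : Nat.card A5 = 60 := by
  rw [Nat.card_eq_fintype_card]; decide +kernel

/-- The squares of the elements of the coset of `aa` modulo the four-group. -/
theorem coset_sq :
    v₁ * aa * (v₁ * aa) = v₃ * (aa * aa) ∧
    v₂ * aa * (v₂ * aa) = v₁ * (aa * aa) ∧
    v₃ * aa * (v₃ * aa) = v₂ * (aa * aa) := by
  decide +kernel

theorem coset_three :
    (v₁ * aa) ^ 3 = 1 ∧ v₁ * aa ≠ 1 ∧ (v₂ * aa) ^ 3 = 1 ∧ v₂ * aa ≠ 1 ∧
      (v₃ * aa) ^ 3 = 1 ∧ v₃ * aa ≠ 1 := by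
  decide +kernel

end Cfsg.Agent.Lib.RecogThree.OrdersFive
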