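import Mathlib

/-! Facts on the alternating group of degree six. -/

namespace Cfsg.Agent.Lib.RecogThree.OrdersFive

open Equiv

/-- the alternating group of degree 6 -/
abbrev A6 := ↥(alternatingGroup (Fin 6))

/-- the central involution -/
def zz : A6 := ⟨c[0, 1] * c[2, 3], Equiv.Perm.mem_alternatingGroup.2 (by decide)⟩
/-- an involution of the first four-group -/
def w₁ : A6 := ⟨c[0, 2] * c[1, 3], Equiv.Perm.mem_alternatingGroup.2 (by decide)⟩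
/-- an involution of the second four-group -/
def w₂ : A6 := ⟨c[0, 1] * c[4, 5], Equiv.Perm.mem_alternatingGroup.2 (by decide)⟩
/-- an element of order 3 normalising the first four-group -/
def kk : A6 := ⟨c[1, 2, 3], Equiv.Perm.mem_alternatingGroup.2 (by decide)⟩

theorem six_basic : zz * zz = 1 ∧ zz ≠ 1 ∧ w₁ * w₁ = 1 ∧ w₁ ≠ 1 ∧ w₂ * w₂ = 1 ∧ kk ^ 3 = 1 ∧ kk ≠ 1 ∧
    zz * w₁ = w₁ * zz ∧ zz * w₂ = w₂ * zz ∧ w₂ * w₁ * w₂ = zz * w₁ ∧ zz ≠ w₁ := by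
  decide +kernel

theorem six_perm : kk * zz * kk⁻¹ = w₁ ∧ kk * w₁ * kk⁻¹ = zz * w₁ := by decide +kernel

theorem six_centralizer : ∀ g : A6, g * zz = zz * g →
    g = 1 ∨ g = zz ∨ g = w₁ ∨ g = zz * w₁ ∨ g = w₂ ∨ g = zz * w₂ ∨ g = w₁ * w₂ ∨
      g = zz * (w₁ * w₂) := by
  decide +kernel

theorem six_involutions : ∀ g : A6, g * zz = zz * g → g * g = 1 →
    g = 1 ∨ g = zz ∨ g = w₁ ∨ g = zz * w₁ ∨ g = w₂ ∨ g = zz * w₂ := by
  decide +kernel

theorem six_centralizer_four : ∀ g : A6, g * zz = zz * g → g * w₁ = w₁ * g →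
    g = 1 ∨ g = zz ∨ g = w₁ ∨ g = zz * w₁ := by
  decide +kernel

theorem six_conj : ∀ v : A6, v * v = 1 → v ≠ 1 → ∃ g : A6, g * zz * g⁻¹ = v := by
  decide +kernel

end Cfsg.Agent.Lib.RecogThree.OrdersFive
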