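import Mathlib

/-! Groups all of whose elements have order at most five: first consequences. -/

set_option linter.unusedSectionVars false

namespace Cfsg.Agent.Lib.RecogThree.OrdersFive

variable {G : Type*} [Group G]

/-- every element has order at most 5 -/
def Small (G : Type*) [Monoid G] : Prop := ∀ g : G, orderOf g ≤ 5

theorem Small.subgroup (h : Small G) (H : Subgroup G) : Small H := fun x => by
  rw [← Subgroup.orderOf_coe]; exact h x

theorem Small.quotient [Finite G] (h : Small G) (N : Subgroup G) [N.Normal] : Small (G ⧸ N) := by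
  intro x
  obtain ⟨g, rfl⟩ := QuotientGroup.mk'_surjective N x
  exact (Nat.le_of_dvd (orderOf_pos g) (orderOf_map_dvd _ g)).trans (h g)

variable [Finite G]

theorem Small.dvd_cases (h : Small G) (g : G) :
    orderOf g = 1 ∨ orderOf g = 2 ∨ orderOf g = 3 ∨ orderOf g = 4 ∨ orderOf g = 5 := by
  have := h g
  have := orderOf_pos g
  omega

theorem Small.prime_cases (h : Small G) {p : ℕ} (hp : p.Prime) {g : G} (hg : p ∣ orderOf g) :
    p = 2 ∨ p = 3 ∨ p = 5 := by
  have h1 := Nat.le_of_dvd (orderOf_pos g) hg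
  have h2 := h g
  have h3 := hp.two_le
  have h4 : p ≠ 4 := fun e => by subst e; norm_num at hp
  omega

/-- the order of an element divisible by the prime `p` is a power of `p` -/
theorem Small.isPow (h : Small G) {p : ℕ} (hp : p.Prime) {g : G} (hg : p ∣ orderOf g) :
    ∃ k, orderOf g = p ^ k := by
  rcases h.dvd_cases g with e | e | e | e | e <;> rw [e] at hg ⊢
  · exact absurd (Nat.le_of_dvd one_pos hg) (Nat.not_le.2 hp.one_lt)
  · exact ⟨1, by rw [(Nat.prime_dvd_prime_iff_eq hp Nat.prime_two).1 hg, pow_one]⟩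
  · exact ⟨1, by rw [(Nat.prime_dvd_prime_iff_eq hp Nat.prime_three).1 hg, pow_one]⟩
  · have : p = 2 := (Nat.prime_dvd_prime_iff_eq hp Nat.prime_two).1 (hp.dvd_of_dvd_pow (show p ∣ 2 ^ 2 from hg))
    exact ⟨2, by rw [this]; rfl⟩
  · exact ⟨1, by rw [(Nat.prime_dvd_prime_iff_eq hp Nat.prime_five).1 hg, pow_one]⟩

/-- elements of coprime non-trivial orders do not commute -/
theorem Small.eq_one_of_commute (h : Small G) {x y : G} (hc : Commute x y)
    (hcop : (orderOf x).Coprime (orderOf y)) : x = 1 ∨ y = 1 := by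
  by_contra hne
  push Not at hne
  have hx : orderOf x ≠ 1 := mt orderOf_eq_one_iff.1 hne.1
  have hy : orderOf y ≠ 1 := mt orderOf_eq_one_iff.1 hne.2
  have h1 := hc.orderOf_mul_eq_mul_orderOf_of_coprime hcop
  have h2 := h (x * y)
  rw [h1] at h2
  have := orderOf_pos x
  have := orderOf_pos y
  by_cases e : orderOf x = 2 ∧ orderOf y = 2
  · rw [e.1, e.2] at hcop
    norm_num at hcop
  · have h6 : 6 ≤ orderOf x * orderOf y := by
      rcases Nat.lt_or_ge (orderOf x) 3 with hx3 | hx3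
      · have : 3 ≤ orderOf y := by omega
        have h22 : orderOf x = 2 := by omega
        rw [h22]; omega
      · calc 6 = 3 * 2 := rfl
          _ ≤ orderOf x * orderOf y := Nat.mul_le_mul hx3 (by omega)
    omega

/-- the centraliser of an element of order `p` is a `p`-group -/
theorem Small.isPGroup_centralizer (h : Small G) {p : ℕ} (hp : p.Prime) {x : G}
    (hx : p ∣ orderOf x) : IsPGroup p ↥(Subgroup.centralizer ({x} : Set G)) := by
  obtain ⟨k, hk⟩ := h.isPow hp hx
  intro ⟨y, hy⟩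
  obtain ⟨j, hj⟩ : ∃ j, orderOf y = p ^ j := by
    by_cases hy1 : y = 1
    · exact ⟨0, by simp [hy1]⟩
    obtain ⟨q, hq, hqd⟩ := Nat.exists_prime_and_dvd (mt orderOf_eq_one_iff.1 hy1)
    by_cases e : q = p
    · exact h.isPow hp (e ▸ hqd)
    exfalso
    obtain ⟨m, hm⟩ := h.isPow hq hqd
    have hcop : (orderOf x).Coprime (orderOf y) := by
      rw [hk, hm]
      exact Nat.Coprime.pow _ _ ((Nat.coprime_primes hp hq).2 (Ne.symm e))
    rcases h.eq_one_of_commute ((Subgroup.mem_centralizer_singleton_iff.1 hy).symm : Commute x y) hcop with h1 | h1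
    · rw [h1, orderOf_one] at hx
      exact hp.one_lt.ne' (Nat.dvd_one.1 hx)
    · exact hy1 h1
  exact ⟨j, Subtype.ext (by rw [SubgroupClass.coe_pow, Subgroup.coe_one, ← hj, pow_orderOf_eq_one])⟩

theorem Small.pow_four (h : Small G) {g : G} (hg : ∃ k, g ^ 2 ^ k = 1) : g ^ 4 = 1 := by
  obtain ⟨k, hk⟩ := hg
  obtain ⟨j, hj, e⟩ := (Nat.dvd_prime_pow Nat.prime_two).1 (orderOf_dvd_of_pow_eq_one hk)
  have h5 := h g
  rw [e] at h5
  have : j ≤ 2 := by
    by_contra hj3
    have : 2 ^ 3 ≤ 2 ^ j := Nat.pow_le_pow_right (by norm_num) (by omega)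
    omega
  refine orderOf_dvd_iff_pow_eq_one.1 ?_
  rw [e]
  exact (Nat.pow_dvd_pow 2 this : 2 ^ j ∣ 2 ^ 2)

theorem Small.pow_four_of_mem (h : Small G) {T : Subgroup G} (hT : IsPGroup 2 T) {g : G}
    (hg : g ∈ T) : g ^ 4 = 1 := by
  obtain ⟨k, hk⟩ := hT ⟨g, hg⟩
  exact h.pow_four ⟨k, by simpa using congrArg Subtype.val hk⟩

/-- an element of odd prime order does not centralise a non-trivial 2-element -/
theorem Small.fpf (h : Small G) {p : ℕ} (hp : p.Prime) (hp2 : p ≠ 2) {k x : G} (hk : orderOf k = p)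
    (hx : x ^ 4 = 1) (hc : Commute k x) : x = 1 := by
  refine (h.eq_one_of_commute hc ?_).resolve_left fun e => ?_
  · rw [hk]
    refine Nat.Coprime.coprime_dvd_right (orderOf_dvd_of_pow_eq_one hx) ?_
    exact Nat.Coprime.pow_right 2 ((Nat.coprime_primes hp Nat.prime_two).2 hp2)
  · rw [e, orderOf_one] at hk
    exact hp.one_lt.ne hk

/-- the product of the translates `x, k x k⁻¹, …` is trivial -/
theorem mul_pow_eq_prod {G : Type*} [Group G] (x k : G) (n : ℕ) :
    (x * k) ^ n = ((List.range n).map fun i => k ^ i * x * (k ^ i)⁻¹).prod * k ^ n := by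
  induction n with
  | zero => simp
  | succ n ih =>
    rw [pow_succ, ih, List.range_succ, List.map_append, List.prod_append]
    simp only [List.map_cons, List.map_nil, List.prod_cons, List.prod_nil, mul_one]
    rw [pow_succ k n]
    group

/-- an element outside `W` in the coset of an element of order `p` has order `p` -/
theorem Small.norm_eq_one (h : Small G) {p : ℕ} (hp : p.Prime) {W : Subgroup G} {x k : G}
    (hk : orderOf k = p) (hkW : ∀ y ∈ W, k * y * k⁻¹ ∈ W) (hW : ∀ y ∈ W, y ^ 4 = 1)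
    (hp2 : p ≠ 2) (hx : x ∈ W) : ((List.range p).map fun i => k ^ i * x * (k ^ i)⁻¹).prod = 1 := by
  have hkp : k ^ p = 1 := hk ▸ pow_orderOf_eq_one k
  have hmem : ∀ i : ℕ, ∀ y ∈ W, k ^ i * y * (k ^ i)⁻¹ ∈ W := by
    intro i
    induction i with
    | zero => intro y hy; simpa using hy
    | succ i ih =>
      intro y hy
      rw [show k ^ (i + 1) * y * (k ^ (i + 1))⁻¹ = k ^ i * (k * y * k⁻¹) * (k ^ i)⁻¹ by
        rw [pow_succ]; group]
      exact ih _ (hkW y hy)
  set z := ((List.range p).map fun i => k ^ i * x * (k ^ i)⁻¹).prod with hz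
  have hzW : z ∈ W := by
    refine W.list_prod_mem fun y hy => ?_
    obtain ⟨i, -, rfl⟩ := List.mem_map.1 hy
    exact hmem i x hx
  have hxk : (x * k) ^ p = z := by rw [mul_pow_eq_prod, hkp, mul_one]
  have hzc : Commute (x * k) z := hxk ▸ (Commute.refl _).pow_right p
  by_contra hne
  -- the order of `x * k` is a power of 2, so `x * k` is killed by `4`, hence `k ∈ W`
  have hdiv : 2 ∣ orderOf (x * k) := by
    have h1 : orderOf z ∣ 4 := orderOf_dvd_of_pow_eq_one (hW z hzW)
    have h2 : orderOf z ∣ orderOf (x * k) := hxk ▸ orderOf_pow_dvd p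
    obtain ⟨j, hj, e⟩ := (Nat.dvd_prime_pow Nat.prime_two (m := 2)).1 h1
    rcases j with _ | j
    · rw [pow_zero, orderOf_eq_one_iff] at e; exact absurd e hne
    · exact (dvd_pow_self 2 j.succ_ne_zero).trans (e ▸ h2)
  obtain ⟨j, hj⟩ := h.isPow Nat.prime_two hdiv
  have h4 : (x * k) ^ 4 = 1 := h.pow_four ⟨j, hj ▸ pow_orderOf_eq_one _⟩
  rw [mul_pow_eq_prod] at h4
  have hk4 : k ^ 4 ∈ W := by
    rw [eq_inv_of_mul_eq_one_right h4]
    refine W.inv_mem (W.list_prod_mem fun y hy => ?_)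
    obtain ⟨i, -, rfl⟩ := List.mem_map.1 hy
    exact hmem i x hx
  have hk41 : k ^ 4 ^ 2 = 1 := by rw [pow_two, pow_mul]; exact hW _ hk4
  have hd := orderOf_dvd_of_pow_eq_one hk41
  rw [hk] at hd
  exact hp2 ((Nat.prime_dvd_prime_iff_eq hp Nat.prime_two).1 (hp.dvd_of_dvd_pow (show p ∣ 2 ^ 4 from hd)))

end Cfsg.Agent.Lib.RecogThree.OrdersFive
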