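import Cfsg.Agent.Lib.RecogThree.OrdersFive.Local

/-! Consequences of the fusion of an involution of `R \ W` into `W`. -/

set_option linter.unusedSectionVars false

namespace Cfsg.Agent.Lib.RecogThree.OrdersFive

variable {G : Type*} [Group G] [Finite G] {W R Z : Subgroup G}

theorem cjg_cjg (a b : G) (H : Subgroup G) : cjg a (cjg b H) = cjg (a * b) H := by
  ext x
  rw [mem_cjg, mem_cjg, mem_cjg, show b⁻¹ * (a⁻¹ * x * a) * b = (a * b)⁻¹ * x * (a * b) by group]

theorem cjg_one (H : Subgroup G) : cjg 1 H = H := by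
  ext x; rw [mem_cjg, inv_one, one_mul, mul_one]

theorem mem_normalizer_cjg {g n : G} {H : Subgroup G} :
    n ∈ Subgroup.normalizer (cjg g H : Set G) ↔ g⁻¹ * n * g ∈ Subgroup.normalizer (H : Set G) := by
  constructor
  · intro h
    refine mem_normalizer_of_cjg ?_
    rw [← cjg_cjg, ← cjg_cjg, cjg_eq_of_mem h, cjg_cjg, inv_mul_cancel, cjg_one]
  · intro h
    refine mem_normalizer_of_cjg ?_
    rw [cjg_cjg, show n * g = g * (g⁻¹ * n * g) by group, ← cjg_cjg, cjg_eq_of_mem h]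

theorem cjg_fixedIn (g r : G) (H : Subgroup G) :
    cjg g (fixedIn H r) = fixedIn (cjg g H) (g * r * g⁻¹) := by
  ext x
  rw [mem_cjg, mem_fixedIn, mem_fixedIn, mem_cjg]
  refine and_congr_right fun _ => ⟨fun h => ?_, fun h => ?_⟩
  · calc x * (g * r * g⁻¹) = g * (g⁻¹ * x * g * r) * g⁻¹ := by group
      _ = g * (r * (g⁻¹ * x * g)) * g⁻¹ := by rw [h]
      _ = _ := by group
  · calc g⁻¹ * x * g * r = g⁻¹ * (x * (g * r * g⁻¹)) * g := by group
      _ = g⁻¹ * (g * r * g⁻¹ * x) * g := by rw [h]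
      _ = _ := by group

theorem Free.conj (h : Free W R Z) (g : G) : Free (cjg g W) (cjg g R) (cjg g Z) := by
  have back : ∀ {A B : Subgroup G}, cjg g A = cjg g B → A = B := fun e => by
    have := congrArg (cjg g⁻¹) e
    rwa [cjg_cjg, cjg_cjg, inv_mul_cancel, cjg_one, cjg_one] at this
  constructor
  · rintro _ ⟨a, ha, rfl⟩
    rw [← map_mul, h.exp a ha, map_one]
  · intro e
    refine h.ne (back ?_)
    rw [e]; exact (Subgroup.map_bot _).symm
  · exact cjg_mono g h.le
  · intro x hx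
    rw [mem_normalizer_cjg]
    exact h.norm (mem_cjg.1 hx)
  · exact isPGroup_cjg g h.pgroup
  · intro T hT hTn hWT
    obtain ⟨n, hn, hle⟩ := h.sylow (cjg g⁻¹ T) (isPGroup_cjg _ hT) (fun x hx => by
        have := mem_normalizer_cjg.1 (hTn (mem_cjg.1 hx))
        simpa [mul_assoc] using this)
      (by have := cjg_mono g⁻¹ hWT; rwa [cjg_cjg, inv_mul_cancel, cjg_one] at this)
    refine ⟨g * n * g⁻¹, mem_normalizer_cjg.2 (by simpa [mul_assoc] using hn), ?_⟩
    have := cjg_mono g hle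
    rwa [cjg_cjg, cjg_cjg] at this
  · intro r hr hrW
    have h1 := h.fix (g⁻¹ * r * g) (mem_cjg.1 hr) (fun e => hrW (mem_cjg.2 e))
    rw [← h1, cjg_fixedIn]
    congr 1
    group
  · rw [card_cjg, card_cjg]; exact h.sq
  · rw [card_cjg, card_cjg, card_cjg]; exact h.small
  · exact fun e => h.proper (back e)

/-- the number of fixed points of a 2-element outside `W` -/
theorem Free.card_fix (h : Free W R Z) {T : Subgroup G} (hT : IsPGroup 2 T)
    (hTn : T ≤ Subgroup.normalizer (W : Set G)) (hW : W ≤ T) {r : G} (hr : r ∈ T) (hrW : r ∉ W) :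
    Nat.card (fixedIn W r) = Nat.card Z := by
  obtain ⟨n, hn, hle⟩ := h.sylow T hT hTn hW
  have h1 := h.fix (n * r * n⁻¹) (hle (conj_mem_cjg hr))
    (fun e => hrW (((Subgroup.mem_normalizer_iff.1 hn) r).2 e))
  rw [← card_cjg n (fixedIn W r), cjg_fixedIn, cjg_eq_of_mem hn, h1]

/-- an elementary subgroup containing `Z` is normalised by `W` -/
theorem Free.le_normalizer_elementary (h : Free W R Z) {A : Subgroup G} (hA : ∀ a ∈ A, a * a = 1)
    (hAR : A ≤ R) (hZA : Z ≤ A) : W ≤ Subgroup.normalizer (A : Set G) := by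
  intro w hw
  refine mem_normalizer_of_cjg (Subgroup.eq_of_le_of_card_ge ?_ (card_cjg _ _).ge)
  rintro _ ⟨a, ha, rfl⟩
  show w * a * w⁻¹ ∈ A
  by_cases haW : a ∈ W
  · rw [commute_of_exp_two h.exp hw haW, mul_inv_cancel_right]; exact ha
  have hai : a⁻¹ = a := inv_eq_of_mul_eq_one_right (hA a ha)
  have hwi : w⁻¹ = w := inv_eq_of_mul_eq_one_right (h.exp w hw)
  have h1 : a * w * a⁻¹ ∈ W := ((Subgroup.mem_normalizer_iff.1 (h.norm (hAR ha))) w).1 hw
  have h2 : w * (a * w * a⁻¹) ∈ Z := by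
    rw [← h.fix a (hAR ha) haW]
    refine mem_fixedIn.2 ⟨W.mul_mem hw h1, ?_⟩
    calc w * (a * w * a⁻¹) * a = w * a * w := by group
      _ = a * (a * w * a⁻¹) * w := by
        rw [hai, ← mul_assoc a (a * w) a, ← mul_assoc a a w, hA a ha, one_mul]
      _ = a * ((a * w * a⁻¹) * w) := by group
      _ = _ := by rw [commute_of_exp_two h.exp h1 hw]
  have e : w * a * w⁻¹ = w * (a * w * a⁻¹) * a := by rw [hwi]; group
  rw [e]
  exact A.mul_mem (hZA h2) ha

theorem eq_of_subset_union {A B E : Subgroup G} (h : ∀ x ∈ E, x ∈ A ∨ x ∈ B) : E ≤ A ∨ E ≤ B := by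
  by_contra hne
  push Not at hne
  obtain ⟨x, hx, hxA⟩ := SetLike.not_le_iff_exists.1 hne.1
  obtain ⟨y, hy, hyB⟩ := SetLike.not_le_iff_exists.1 hne.2
  have hxB := (h x hx).resolve_left hxA
  have hyA := (h y hy).resolve_right hyB
  rcases h (x * y) (E.mul_mem hx hy) with hh | hh
  · exact hxA (by simpa using A.mul_mem hh (A.inv_mem hyA))
  · exact hyB (by simpa using B.mul_mem (B.inv_mem hxB) hh)

/-- Fusion of an involution `t ∈ R \ W` into `W` gives the size of `R` and a second elementary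
subgroup `A = C_R(t)`, normal in two different Sylow subgroups. -/
theorem Free.fusion_data (h : Free W R Z) (hs : Small G) {t g : G} (htR : t ∈ R) (htW : t ∉ W)
    (htt : t * t = 1) (hg : g * t * g⁻¹ ∈ W) :
    Nat.card R = Nat.card Z * Nat.card W ∧
      ∃ A T : Subgroup G, A ≤ R ∧ A ≤ T ∧ (∀ a ∈ A, a * a = 1) ∧ A ⊓ W = Z ∧
        Nat.card A = Nat.card W ∧ W ⊔ A = R ∧ R ≤ Subgroup.normalizer (A : Set G) ∧
        T ≤ Subgroup.normalizer (A : Set G) ∧ IsPGroup 2 T ∧ Nat.card T = Nat.card R ∧ R ⊓ T = A := by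
  have : Fact (Nat.Prime 2) := ⟨Nat.prime_two⟩
  set W' := cjg g⁻¹ W
  have h' : Free W' (cjg g⁻¹ R) (cjg g⁻¹ Z) := h.conj g⁻¹
  have htW' : t ∈ W' := mem_cjg.2 (by simpa using hg)
  have hne : W' ≠ W := fun e => htW (e ▸ htW')
  have ht2 : orderOf t = 2 := orderOf_eq_prime (by rw [pow_two, htt]) fun e => htW (e ▸ W.one_mem)
  have hCt := hs.isPGroup_centralizer Nat.prime_two (x := t) (ht2 ▸ dvd_rfl)
  set C := Subgroup.centralizer ({t} : Set G)
  have hW'C : W' ≤ C := fun x hx =>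
    Subgroup.mem_centralizer_singleton_iff.2 (commute_of_exp_two h'.exp hx htW')
  have hCn : C ≤ Subgroup.normalizer (W' : Set G) := h'.le_normalizer hs hCt hW'C
  have hZC : Z ≤ C := fun x hx => Subgroup.mem_centralizer_singleton_iff.2 (h.Z_comm hx htR)
  -- `Z` meets `W'` trivially
  have hint : Z ⊓ W' = ⊥ := by
    rw [Subgroup.eq_bot_iff_forall]
    rintro z ⟨hz, hzW'⟩
    by_contra hz1
    have hW'R : W' ≤ R := by
      rw [← h.centralizer_eq hs hz hz1]
      exact fun x hx => Subgroup.mem_centralizer_singleton_iff.2 (commute_of_exp_two h'.exp hx hzW')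
    obtain ⟨-, -, -, hsup, hinv⟩ := h.pair h.pgroup h.norm h.le hW'R h'.exp hne (card_cjg _ _)
    have htwo : ∀ E : Subgroup G, E ≤ R → (∀ x ∈ E, x * x = 1) → E ≤ W ∨ E ≤ W' := by
      intro E hE hexpE
      refine eq_of_subset_union fun x hx => ?_
      have hx' : x ∈ ((W ⊔ W' : Subgroup G) : Set G) := hsup.symm ▸ hE hx
      rw [Subgroup.coe_mul_of_right_le_normalizer_left W W' (hW'R.trans h.norm)] at hx'
      obtain ⟨a, ha, b, hb, rfl⟩ := Set.mem_mul.1 hx'
      rcases hinv a ha b hb (hexpE _ hx) with hh | hh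
      · exact Or.inr (W'.mul_mem hh hb)
      · exact Or.inl (W.mul_mem ha hh)
    obtain ⟨n, hn, hle⟩ := h'.sylow R h.pgroup (h'.le_normalizer hs h.pgroup hW'R) hW'R
    set m := g * n
    have hmR : cjg m R = R := by
      refine Subgroup.eq_of_le_of_card_ge ?_ (card_cjg m R).ge
      have := cjg_mono g hle
      rwa [cjg_cjg, cjg_cjg, mul_inv_cancel, cjg_one] at this
    have hmW' : cjg m W' = W := by
      rw [← cjg_cjg, cjg_eq_of_mem hn, cjg_cjg, mul_inv_cancel, cjg_one]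
    have hmW : cjg m W = W' := by
      rcases htwo (cjg m W) (hmR ▸ cjg_mono m h.le) (fun x hx => by
        obtain ⟨a, ha, rfl⟩ := hx
        rw [← map_mul, h.exp a ha, map_one]) with e | e
      · have e' := Subgroup.eq_of_le_of_card_ge e (card_cjg m W).ge
        refine absurd ?_ hne
        have := congrArg (cjg m⁻¹) (e'.trans hmW'.symm)
        rwa [cjg_cjg, cjg_cjg, inv_mul_cancel, cjg_one, cjg_one, eq_comm] at this
      · exact Subgroup.eq_of_le_of_card_ge e ((card_cjg m W).symm ▸ (card_cjg g⁻¹ W).le)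
    by_cases h4 : m ^ 4 = 1
    · have := h.mem_of_normalizing hs (mem_normalizer_of_cjg hmR) h4
      rw [cjg_eq_of_mem (h.norm this)] at hmW
      exact hne hmW.symm
    · have h35 : m ^ 3 = 1 ∨ m ^ 5 = 1 := by
        rcases hs.dvd_cases m with e | e | e | e | e
        · exact absurd (orderOf_dvd_iff_pow_eq_one.1 (e ▸ one_dvd 4)) h4
        · exact absurd (orderOf_dvd_iff_pow_eq_one.1 (by rw [e]; norm_num)) h4
        · exact Or.inl (e ▸ pow_orderOf_eq_one m)
        · exact absurd (orderOf_dvd_iff_pow_eq_one.1 (by rw [e])) h4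
        · exact Or.inr (e ▸ pow_orderOf_eq_one m)
      have h2 : cjg (m ^ 2) W = W := by rw [pow_two, ← cjg_cjg, hmW, hmW']
      rcases h35 with e | e
      · have : cjg (m ^ 3) W = W' := by rw [pow_succ', ← cjg_cjg, h2, hmW]
        rw [e, cjg_one] at this
        exact hne this.symm
      · have : cjg (m ^ 5) W = W' := by
          rw [show m ^ 5 = m * (m ^ 2 * m ^ 2) by rw [← pow_add, ← pow_succ'], ← cjg_cjg m, ← cjg_cjg (m ^ 2),
            h2, h2, hmW]
        rw [e, cjg_one] at this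
        exact hne this.symm
  have hZW' : Nat.card ↥(Z ⊓ W') = 1 := by rw [hint]; exact Subgroup.card_bot
  have hmul := card_mul_card_le hZC hW'C
  rw [hZW', one_mul, show Nat.card W' = Nat.card W from card_cjg _ _] at hmul
  obtain ⟨n, hn, hle⟩ := h'.sylow C hCt hCn hW'C
  have hCle : Nat.card C ≤ Nat.card R := by
    rw [← card_cjg n C, ← card_cjg g⁻¹ R]; exact Subgroup.card_le_of_le hle
  have hsmall := h.small
  have hcardR : Nat.card R = Nat.card Z * Nat.card W := by omega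
  refine ⟨hcardR, ?_⟩
  have hCR : Nat.card C = Nat.card R := by omega
  have hsupC : Z ⊔ W' = C := by
    refine Subgroup.eq_of_le_of_card_ge (sup_le hZC hW'C) ?_
    have := card_mul_card_le (le_sup_left : Z ≤ Z ⊔ W') (le_sup_right : W' ≤ Z ⊔ W')
    rw [hZW', one_mul, show Nat.card W' = Nat.card W from card_cjg _ _] at this
    omega
  have hCeq : cjg n C = cjg g⁻¹ R := Subgroup.eq_of_le_of_card_ge hle (by rw [card_cjg, card_cjg, hCR])
  obtain ⟨z, hz, hz1⟩ : ∃ z ∈ Z, z ≠ 1 := by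
    have := h.one_lt_card_Z
    obtain ⟨⟨z, hz⟩, hne⟩ := Subgroup.ne_bot_iff_exists_ne_one.1 ((Subgroup.one_lt_card_iff_ne_bot Z).1 this)
    exact ⟨z, hz, fun e => hne (Subtype.ext e)⟩
  have hzW' : z ∉ W' := fun e => hz1 (Subgroup.mem_bot.1 (hint ▸ (⟨hz, e⟩ : z ∈ Z ⊓ W')))
  have hCz := h.centralizer_eq hs hz hz1
  set A := R ⊓ C
  set F := fixedIn W' z
  have hFA : F ≤ A := fun x hx => by
    obtain ⟨hx1, hx2⟩ := mem_fixedIn.1 hx
    exact ⟨hCz ▸ Subgroup.mem_centralizer_singleton_iff.2 hx2, hW'C hx1⟩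
  have hZA : Z ≤ A := le_inf (fun x hx => h.le (h.Z_le hx)) hZC
  have hcardF : Nat.card F = Nat.card Z := by
    rw [h'.card_fix hCt hCn hW'C (hZC hz) hzW', card_cjg]
  have hmemA : ∀ x ∈ A, ∃ a ∈ Z, ∃ b ∈ F, x = a * b := by
    rintro x ⟨hxR, hxC⟩
    have hxC' : x ∈ ((Z ⊔ W' : Subgroup G) : Set G) := hsupC.symm ▸ hxC
    rw [Subgroup.coe_mul_of_left_le_normalizer_right Z W' (hZC.trans hCn)] at hxC'
    obtain ⟨a, ha, b, hb, rfl⟩ := Set.mem_mul.1 hxC'
    refine ⟨a, ha, b, mem_fixedIn.2 ⟨hb, ?_⟩, rfl⟩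
    have hbR : b ∈ R := by simpa using R.mul_mem (R.inv_mem (h.le (h.Z_le ha))) hxR
    exact (h.Z_comm hz hbR).symm
  have hA : ∀ x ∈ A, x * x = 1 := by
    intro x hx
    obtain ⟨a, ha, b, hb, rfl⟩ := hmemA x hx
    calc a * b * (a * b) = a * (b * a) * b := by group
      _ = a * (a * b) * b := by rw [← h.Z_comm ha (hFA hb).1]
      _ = (a * a) * (b * b) := by group
      _ = 1 := by rw [h.exp a (h.Z_le ha), h'.exp b (mem_fixedIn.1 hb).1, mul_one]
  have hAW : A ⊓ W = Z := by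
    refine le_antisymm (fun x hx => ?_) (le_inf hZA h.Z_le)
    rw [← h.fix t htR htW]
    exact mem_fixedIn.2 ⟨hx.2, Subgroup.mem_centralizer_singleton_iff.1 hx.1.2⟩
  have hcardA : Nat.card A = Nat.card W := by
    have hsupA : Z ⊔ F = A := le_antisymm (sup_le hZA hFA) fun x hx => by
      obtain ⟨a, ha, b, hb, rfl⟩ := hmemA x hx
      exact Subgroup.mul_mem_sup ha hb
    have hle2 : Nat.card A ≤ Nat.card Z * Nat.card F := by
      let f : Z × F → A := fun p => ⟨p.1 * p.2, A.mul_mem (hZA p.1.2) (hFA p.2.2)⟩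
      have hf : Function.Surjective f := fun x => by
        obtain ⟨a, ha, b, hb, e⟩ := hmemA x x.2
        exact ⟨(⟨a, ha⟩, ⟨b, hb⟩), Subtype.ext e.symm⟩
      exact (Nat.card_le_card_of_surjective f hf).trans (Nat.card_prod _ _).le
    have hge := card_mul_card_le hZA hFA
    have : Nat.card ↥(Z ⊓ F) = 1 := by
      rw [Subgroup.card_eq_one, eq_bot_iff, ← hint]
      exact inf_le_inf_left _ inf_le_left
    rw [this, one_mul, hcardF] at hge
    rw [hcardF] at hle2
    rw [← h.sq]; omega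
  have hWA : W ⊔ A = R := by
    refine Subgroup.eq_of_le_of_card_ge (sup_le h.le inf_le_left) ?_
    have h1 := card_mul_card_le (le_sup_left : W ≤ W ⊔ A) (le_sup_right : A ≤ W ⊔ A)
    rw [inf_comm, hAW, hcardA] at h1
    refine Nat.le_of_mul_le_mul_left ?_ (show 0 < Nat.card Z from Nat.card_pos)
    rw [hcardR, ← mul_assoc, h.sq]; exact h1
  have hRn : R ≤ Subgroup.normalizer (A : Set G) :=
    hWA.symm.le.trans (sup_le (h.le_normalizer_elementary hA inf_le_left hZA) Subgroup.le_normalizer)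
  have hCn' : C ≤ Subgroup.normalizer (A : Set G) := by
    have h'' := h'.conj n⁻¹
    rw [cjg_eq_of_mem (Subgroup.inv_mem _ hn), ← hCeq, cjg_cjg n⁻¹ n, inv_mul_cancel, cjg_one] at h''
    refine hsupC.symm.le.trans (sup_le (hZA.trans Subgroup.le_normalizer) ?_)
    refine h''.le_normalizer_elementary hA inf_le_right ?_
    rw [← h''.fix z (hZC hz) hzW']
    exact hFA
  refine ⟨A, C, inf_le_left, inf_le_right, hA, hAW, hcardA, hWA, hRn, hCn', hCt, hCR, rfl⟩

end Cfsg.Agent.Lib.RecogThree.OrdersFive
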