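import Cfsg.Agent.Lib.RecogThree.OrdersFive.Fused
import Cfsg.Agent.Lib.Coprime.Generation

/-! Lifting elements from `H ⧸ K` for a normal p-subgroup `K`. -/

set_option linter.unusedSectionVars false

namespace Cfsg.Agent.Lib.RecogThree.OrdersFive

variable {H : Type*} [Group H] [Finite H]

theorem Small.lift_order (h : Small H) (K : Subgroup H) [K.Normal] {p : ℕ} (hp : p.Prime)
    (hp2 : p ≠ 2) {a : H ⧸ K} (ha : orderOf a = p) {k : H} (hk : QuotientGroup.mk' K k = a) :
    orderOf k = p := by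
  have hd : p ∣ orderOf k := ha ▸ hk ▸ orderOf_map_dvd _ k
  have h5 := h k
  have hpos := orderOf_pos k
  obtain ⟨j, hj⟩ := hd
  have h3 : 3 ≤ p := by have := hp.two_le; omega
  have hj1 : j = 1 := by
    rcases j with _ | _ | j
    · omega
    · rfl
    · exfalso
      have : p * 2 ≤ p * (j + 1 + 1) := Nat.mul_le_mul_left _ (by omega)
      omega
  rw [hj, hj1, mul_one]

/-- the conjugates of an element acting fixed-point-freely fill its coset -/
theorem exists_conj_eq_mul {K : Subgroup H} {k : H}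
    (hk : k ∈ Subgroup.normalizer (K : Set H))
    (hfpf : ∀ x ∈ K, Commute k x → x = 1) {d : H} (hd : d ∈ K) :
    ∃ x ∈ K, x * k * x⁻¹ = d * k := by
  have hconj : ∀ x ∈ K, k * x * k⁻¹ ∈ K := fun x hx => ((Subgroup.mem_normalizer_iff.1 hk) x).1 hx
  let f : K → K := fun x => ⟨x * (k * (x : H)⁻¹ * k⁻¹), K.mul_mem x.2 (hconj _ (K.inv_mem x.2))⟩
  have hf : Function.Injective f := by
    intro x y hxy
    have e : (x : H) * (k * (x : H)⁻¹ * k⁻¹) = y * (k * (y : H)⁻¹ * k⁻¹) := congrArg Subtype.val hxy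
    have h1 : Commute k ((y : H)⁻¹ * x) := by
      have : (y : H)⁻¹ * x * k = k * ((y : H)⁻¹ * x) := by
        calc (y : H)⁻¹ * x * k = (y : H)⁻¹ * (x * (k * (x : H)⁻¹ * k⁻¹)) * (k * x) := by group
          _ = (y : H)⁻¹ * (y * (k * (y : H)⁻¹ * k⁻¹)) * (k * x) := by rw [e]
          _ = _ := by group
      exact this.symm
    exact Subtype.ext (inv_mul_eq_one.1 (hfpf _ (K.mul_mem (K.inv_mem y.2) x.2) h1)).symm
  obtain ⟨x, hx⟩ := (Finite.injective_iff_surjective.1 hf) ⟨d, hd⟩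
  refine ⟨x, x.2, ?_⟩
  have e : (x : H) * (k * (x : H)⁻¹ * k⁻¹) = d := congrArg Subtype.val hx
  rw [← e]; group

/-- an involution of the quotient inverting `k` lifts to an involution inverting `k` -/
theorem Small.lift_inverting (h : Small H) (K : Subgroup H) [hKn : K.Normal] (hK : IsPGroup 2 K)
    {p : ℕ} (hp : p.Prime) (hp2 : p ≠ 2) {k : H} (hk : orderOf k = p) {s : H}
    (hs : s * s ∈ K) (hsk : s * k * s⁻¹ * k ∈ K) :
    ∃ x ∈ K, x * s * (x * s) = 1 ∧ x * s * k * (x * s) = k⁻¹ := by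
  have hfix : ∀ x ∈ K, Commute k x → x = 1 := fun x hx hc =>
    h.fpf hp hp2 hk (h.pow_four_of_mem hK hx) hc
  have hk' : orderOf k⁻¹ = p := by rw [orderOf_inv, hk]
  obtain ⟨x, hx, hxe⟩ := exists_conj_eq_mul (K := K) (k := k⁻¹)
    (by rw [Subgroup.normalizer_eq_top_iff.2 hKn]; trivial)
    (fun x hx hc => hfix x hx (by simpa using hc.inv_left)) hsk
  have e : x * k⁻¹ * x⁻¹ = s * k * s⁻¹ := by rw [hxe]; group
  refine ⟨x⁻¹, K.inv_mem hx, ?_⟩
  set g := x⁻¹ * s
  have hg : g * k * g⁻¹ = k⁻¹ := by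
    calc g * k * g⁻¹ = x⁻¹ * (s * k * s⁻¹) * x := by simp only [g]; group
      _ = k⁻¹ := by rw [← e]; group
  have hgK : g * g ∈ K := by
    have e1 : g * g = x⁻¹ * (s * x⁻¹ * s⁻¹) * (s * s) := by simp only [g]; group
    rw [e1]
    exact K.mul_mem (K.mul_mem (K.inv_mem hx) (hKn.conj_mem _ (K.inv_mem hx) s)) hs
  have hgc : Commute k (g * g) := by
    have h2 : (g * g) * k * (g * g)⁻¹ = k := by
      calc (g * g) * k * (g * g)⁻¹ = g * (g * k * g⁻¹) * g⁻¹ := by group
        _ = (g * k * g⁻¹)⁻¹ := by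
          conv_lhs => rw [hg]
          group
        _ = k := by rw [hg, inv_inv]
    exact (mul_inv_eq_iff_eq_mul.1 h2).symm
  have hg2 : g * g = 1 := hfix _ hgK hgc
  refine ⟨hg2, ?_⟩
  calc g * k * g = g * k * g⁻¹ * (g * g) := by group
    _ = k⁻¹ := by rw [hg, hg2, mul_one]

/-- a non-cyclic abelian q-group cannot act on a normal p-subgroup without fixed points -/
theorem Small.no_noncyclic_quotient (h : Small H) (K : Subgroup H) [K.Normal] {p q : ℕ}
    (hp : p.Prime) (hq : q.Prime) (hpq : p ≠ q) (hK : IsPGroup p K) (hK1 : K ≠ ⊥)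
    {A : Subgroup (H ⧸ K)} (hA : IsPGroup q A) (hcomm : ∀ a ∈ A, ∀ b ∈ A, a * b = b * a)
    (hnc : ¬ IsCyclic A) : False := by
  have := Fact.mk hp
  have := Fact.mk hq
  obtain ⟨S⟩ : Nonempty (Sylow q ↥(A.comap (QuotientGroup.mk' K))) := inferInstance
  let P0 : Subgroup H := (S : Subgroup _).map (A.comap (QuotientGroup.mk' K)).subtype
  have hP0 : IsPGroup q P0 := S.isPGroup'.map _
  have hdisj : ∀ x ∈ P0, x ∈ K → x = 1 := by
    intro x hx hxK
    exact Subgroup.mem_bot.1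
      ((IsPGroup.disjoint_of_ne q p (Ne.symm hpq) P0 K hP0 hK).eq_bot.le ⟨hx, hxK⟩)
  let f : P0 →* A := ((QuotientGroup.mk' K).comp P0.subtype).codRestrict A fun x => by
    obtain ⟨y, -, hy⟩ := x.2
    show QuotientGroup.mk' K (x : H) ∈ A
    rw [← hy]; exact y.2
  have hinj : Function.Injective f := by
    rw [injective_iff_map_eq_one]
    intro x hx
    exact Subtype.ext (hdisj x x.2 ((QuotientGroup.eq_one_iff _).1 (congrArg Subtype.val hx)))
  have hcard : Nat.card A ≤ Nat.card P0 := by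
    have h1 : Nat.card P0 = q ^ (Nat.card ↥(A.comap (QuotientGroup.mk' K))).factorization q := by
      rw [Subgroup.card_map_of_injective (Subgroup.subtype_injective _)]
      exact S.card_eq_multiplicity
    obtain ⟨n, hn⟩ := hA.exists_card_eq
    have h2 : Nat.card A ∣ Nat.card ↥(A.comap (QuotientGroup.mk' K)) := by
      let g : ↥(A.comap (QuotientGroup.mk' K)) →* A :=
        ((QuotientGroup.mk' K).comp (Subgroup.subtype _)).codRestrict A fun x => x.2
      refine Subgroup.card_dvd_of_surjective g fun a => ?_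
      obtain ⟨x, hx⟩ := QuotientGroup.mk'_surjective K a
      exact ⟨⟨x, show QuotientGroup.mk' K x ∈ A from hx ▸ a.2⟩, Subtype.ext hx⟩
    rw [h1, hn] at *
    exact Nat.pow_le_pow_right hq.pos ((hq.pow_dvd_iff_le_factorization Nat.card_pos.ne').1 h2)
  have hbij : Function.Bijective f :=
    (Nat.bijective_iff_injective_and_card f).2
      ⟨hinj, le_antisymm (Nat.card_le_card_of_injective f hinj) hcard⟩
  have : IsMulCommutative P0 := ⟨⟨fun a b => hinj (by
    rw [map_mul, map_mul]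
    exact Subtype.ext (hcomm _ (f a).2 _ (f b).2))⟩⟩
  have hnc' : ¬ IsCyclic P0 := fun hc => hnc
    (isCyclic_of_surjective f hbij.2)
  have hcop : (Nat.card P0).Coprime (Nat.card K) := by
    obtain ⟨n, hn⟩ := hP0.exists_card_eq
    obtain ⟨m, hm⟩ := hK.exists_card_eq
    rw [hn, hm]
    exact Nat.Coprime.pow _ _ ((Nat.coprime_primes hq hp).2 (Ne.symm hpq))
  have hnorm : P0 ≤ Subgroup.normalizer (K : Set H) := by
    rw [Subgroup.normalizer_eq_top_iff.2 inferInstance]; exact le_top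
  have hgen := Lib.Coprime.iSup_centralizer_eq hnc' hnorm hcop
  refine hK1 ?_
  rw [← hgen, eq_bot_iff]
  refine iSup₂_le fun a ha => ?_
  rintro x ⟨hxK, hxa⟩
  obtain ⟨n, hn⟩ := IsPGroup.iff_orderOf.1 hP0 ⟨a, ha.1⟩
  obtain ⟨m, hm⟩ := IsPGroup.iff_orderOf.1 hK ⟨x, hxK⟩
  rw [Subgroup.orderOf_mk] at hn hm
  rcases h.eq_one_of_commute (show Commute a x from (Subgroup.mem_centralizer_singleton_iff.1 hxa).symm)
    (by rw [hn, hm]; exact Nat.Coprime.pow _ _ ((Nat.coprime_primes hq hp).2 (Ne.symm hpq))) with e | e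
  · exact absurd e ha.2
  · exact Subgroup.mem_bot.2 e

end Cfsg.Agent.Lib.RecogThree.OrdersFive
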