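import Cfsg.Agent.Lib.RecogThree.OrdersFive.Module
import Cfsg.Agent.Lib.Involutions.Basic

/-! A free elementary abelian subgroup `W` with Sylow 2-subgroup `R` of its normaliser: `R` is a
Sylow 2-subgroup, and some involution of `R \ W` is fused into `W`, forcing `|Z|² ≤ 16`. -/

set_option linter.unusedSectionVars false

namespace Cfsg.Agent.Lib.RecogThree.OrdersFive

variable {G : Type*} [Group G] [Finite G]

/-- conjugate subgroup -/
def cjg (g : G) (H : Subgroup G) : Subgroup G := H.map (MulAut.conj g).toMonoidHom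

theorem mem_cjg {g x : G} {H : Subgroup G} : x ∈ cjg g H ↔ g⁻¹ * x * g ∈ H := by
  constructor
  · rintro ⟨y, hy, rfl⟩; simpa [mul_assoc] using hy
  · intro h; exact ⟨_, h, by simp [mul_assoc]⟩

theorem conj_mem_cjg {g x : G} {H : Subgroup G} (hx : x ∈ H) : g * x * g⁻¹ ∈ cjg g H :=
  ⟨x, hx, rfl⟩

theorem card_cjg (g : G) (H : Subgroup G) : Nat.card (cjg g H) = Nat.card H :=
  Subgroup.card_map_of_injective (MulAut.conj g).injective

theorem cjg_mono (g : G) {H K : Subgroup G} (h : H ≤ K) : cjg g H ≤ cjg g K := Subgroup.map_mono h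

theorem mem_normalizer_of_cjg {g : G} {H : Subgroup G} (h : cjg g H = H) :
    g ∈ Subgroup.normalizer (H : Set G) := by
  rw [Subgroup.mem_normalizer_iff]
  intro x
  rw [show g * x * g⁻¹ ∈ H ↔ g * x * g⁻¹ ∈ cjg g H by rw [h], mem_cjg]
  simp [mul_assoc]

theorem cjg_eq_of_mem {g : G} {H : Subgroup G} (h : g ∈ Subgroup.normalizer (H : Set G)) :
    cjg g H = H := by
  ext x
  rw [mem_cjg]
  have := (Subgroup.mem_normalizer_iff.1 h) (g⁻¹ * x * g)
  rw [this]
  simp [mul_assoc]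

theorem isPGroup_cjg {p : ℕ} (g : G) {H : Subgroup G} (h : IsPGroup p H) : IsPGroup p (cjg g H) :=
  h.map _

/-- in a finite 2-group, a proper subgroup is normalised by an outside element squaring into it -/
theorem exists_normalizing {T H : Subgroup G} (hT : IsPGroup 2 T) (hle : H ≤ T) (hne : H ≠ T) :
    ∃ y ∈ T, y ∈ Subgroup.normalizer (H : Set G) ∧ y ∉ H ∧ y * y ∈ H := by
  have : Fact (Nat.Prime 2) := ⟨Nat.prime_two⟩
  have : Group.IsNilpotent T := hT.isNilpotent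
  have hlt : H.subgroupOf T < ⊤ := lt_top_iff_ne_top.2 fun h => hne
    (le_antisymm hle (Subgroup.subgroupOf_eq_top.1 h))
  obtain ⟨z, hzN, hzH⟩ := SetLike.exists_of_lt (Group.normalizerCondition_of_isNilpotent _ hlt)
  have hzN' : (z : G) ∈ Subgroup.normalizer (H : Set G) := by
    refine mem_normalizer_of_cjg (Subgroup.eq_of_le_of_card_ge ?_ (card_cjg _ _).ge)
    rintro _ ⟨x, hx, rfl⟩
    exact ((Subgroup.mem_normalizer_iff.1 hzN) ⟨x, hle hx⟩).1 hx
  classical
  have hex : ∃ n : ℕ, (z : G) ^ 2 ^ n ∈ H := by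
    obtain ⟨n, hn⟩ := hT z
    exact ⟨n, by rw [show (z : G) ^ 2 ^ n = 1 by simpa using congrArg Subtype.val hn]; exact H.one_mem⟩
  have hspec := Nat.find_spec hex
  rcases hn : Nat.find hex with _ | n
  · rw [hn, pow_zero, pow_one] at hspec
    exact absurd hspec hzH
  · rw [hn, pow_succ, pow_mul, pow_two] at hspec
    exact ⟨(z : G) ^ 2 ^ n, T.pow_mem z.2 _, Subgroup.pow_mem _ hzN' _,
      Nat.find_min hex (hn ▸ Nat.lt_succ_self n), hspec⟩

/-- card of a product of two subgroups -/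
theorem card_mul_card_le {H K L : Subgroup G} (hH : H ≤ L) (hK : K ≤ L) :
    Nat.card H * Nat.card K ≤ Nat.card ↥(H ⊓ K) * Nat.card L := by
  have h1 : H.relIndex K ≤ H.relIndex L :=
    Subgroup.relIndex_le_of_le_right hK Subgroup.index_ne_zero_of_finite
  have h2 := Subgroup.relIndex_mul_relIndex (⊥ : Subgroup G) (H ⊓ K) K bot_le inf_le_right
  rw [Subgroup.relIndex_bot_left, Subgroup.relIndex_bot_left, Subgroup.inf_relIndex_right] at h2
  have h3 := Subgroup.relIndex_mul_relIndex (⊥ : Subgroup G) H L bot_le hH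
  rw [Subgroup.relIndex_bot_left, Subgroup.relIndex_bot_left] at h3
  calc Nat.card H * Nat.card K = Nat.card ↥(H ⊓ K) * (Nat.card H * H.relIndex K) := by rw [← h2]; ring
    _ ≤ Nat.card ↥(H ⊓ K) * (Nat.card H * H.relIndex L) :=
        Nat.mul_le_mul_left _ (Nat.mul_le_mul_left _ h1)
    _ = _ := by rw [h3]

/-- A 2-group does not contain two free elementary subgroups `W`, `W'` exchanged by an element. -/
theorem eq_of_swap {W W' : Subgroup G} {y : G} (hWW : cjg y W = W') (hW'W : cjg y W' = W)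
    (hnW : W' ≤ Subgroup.normalizer (W : Set G)) (hnW' : W ≤ Subgroup.normalizer (W' : Set G))
    (hexp : ∀ x ∈ W, x * x = 1)
    (hinv : ∀ a ∈ W, ∀ b ∈ W', a * b * (a * b) = 1 → a ∈ W' ∨ b ∈ W)
    (hy : ∃ u ∈ W, ∃ v ∈ W', y * y = u * v)
    (hfour : ∀ w ∈ W, (w * y) ^ 4 = 1) : W ≤ W' := by
  obtain ⟨u, hu, v, hv, hyy⟩ := hy
  have hexp' : ∀ x ∈ W', x * x = 1 := by
    intro x hx
    rw [← hWW] at hx
    obtain ⟨a, ha, rfl⟩ := hx
    rw [← map_mul, hexp a ha, map_one]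
  have hφ : ∀ x ∈ W, y * x * y⁻¹ ∈ W' := fun x hx => hWW ▸ conj_mem_cjg hx
  have hφ' : ∀ x ∈ W', y * x * y⁻¹ ∈ W := fun x hx => hW'W ▸ conj_mem_cjg hx
  -- commutators lie in the intersection
  have hcW : ∀ b ∈ W', ∀ a ∈ W, a⁻¹ * b * a * b⁻¹ ∈ W := fun b hb a ha => by
    rw [show a⁻¹ * b * a * b⁻¹ = a⁻¹ * (b * a * b⁻¹) by group]
    exact W.mul_mem (W.inv_mem ha) (((Subgroup.mem_normalizer_iff.1 (hnW hb)) a).1 ha)
  have hcW' : ∀ b ∈ W', ∀ a ∈ W, a⁻¹ * b * a * b⁻¹ ∈ W' := fun b hb a ha => by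
    have h1 := ((Subgroup.mem_normalizer_iff.1 (hnW' (W.inv_mem ha))) b).1 hb
    rw [inv_inv] at h1
    exact W'.mul_mem h1 (W'.inv_mem hb)
  have hinW : ∀ a ∈ W, y * a * y⁻¹ ∈ W → a ∈ W' := fun a _ h => by
    rw [← hW'W, mem_cjg] at h
    simpa [mul_assoc] using h
  -- the components of `y²`
  have huv : (y * u * y⁻¹) * v⁻¹ ∈ W := by
    have e : u * v = (y * u * y⁻¹) * (y * v * y⁻¹) := by
      calc u * v = y * (y * y) * y⁻¹ := by rw [← hyy]; group
        _ = _ := by rw [hyy]; group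
    set f := y * u * y⁻¹
    set f' := y * v * y⁻¹
    have hd : f'⁻¹ * f * f' * f⁻¹ ∈ W := hcW f (hφ u hu) f' (hφ' v hv)
    have e2 : f * v⁻¹ = (f' * (f'⁻¹ * f * f' * f⁻¹))⁻¹ * u := by
      have : f = (f' * (f'⁻¹ * f * f' * f⁻¹))⁻¹ * (u * v) := by rw [e]; group
      conv_lhs => rw [this]
      group
    rw [e2]
    exact W.mul_mem (W.inv_mem (W.mul_mem (hφ' v hv) hd)) hu
  have key : ∀ w ∈ W, w * u ∈ W' := by
    intro w hw
    set fw := y * w * y⁻¹
    have hd1 := hcW fw (hφ w hw) u hu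
    have hd2 := hcW' fw (hφ w hw) u hu
    set d := u⁻¹ * fw * u * fw⁻¹
    have e1 : w * y * (w * y) = (w * u * d) * (fw * v) := by
      calc w * y * (w * y) = w * (y * w * y⁻¹) * (y * y) := by group
        _ = _ := by rw [hyy]; simp only [d, fw]; group
    have h4 : (w * u * d) * (fw * v) * ((w * u * d) * (fw * v)) = 1 := by
      rw [← e1, ← pow_two, ← pow_two, ← pow_mul]
      exact hfour w hw
    rcases hinv _ (W.mul_mem (W.mul_mem hw hu) hd1) _ (W'.mul_mem (hφ w hw) hv) h4 with hh | hh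
    · have := W'.mul_mem hh (W'.inv_mem hd2)
      rwa [mul_inv_cancel_right] at this
    · refine hinW _ (W.mul_mem hw hu) ?_
      have hvv : v⁻¹ = v := inv_eq_of_mul_eq_one_right (hexp' v hv)
      have h1 := W.mul_mem hh (W.inv_mem huv)
      rw [mul_inv_rev, inv_inv] at h1
      have h2 : fw * v * (v * (y * u * y⁻¹)⁻¹) = y * w * y⁻¹ * (y * u * y⁻¹)⁻¹ := by
        rw [← mul_assoc, mul_assoc fw, hexp' v hv, mul_one]
      rw [h2] at h1
      rw [show y * (w * u) * y⁻¹ = y * w * y⁻¹ * (y * u * y⁻¹) by group]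
      rwa [inv_eq_of_mul_eq_one_right (hexp' _ (hφ u hu))] at h1
  intro w hw
  have h1 := key 1 W.one_mem
  rw [one_mul] at h1
  have h2 := W'.mul_mem (key w hw) (W'.inv_mem h1)
  rwa [mul_inv_cancel_right] at h2

/-- a free elementary abelian 2-subgroup `W`, a Sylow 2-subgroup `R` of its normaliser and the
common fixed points `Z` of the elements of `R \ W` -/
structure Free (W R Z : Subgroup G) : Prop where
  exp : ∀ x ∈ W, x * x = 1
  ne : W ≠ ⊥
  le : W ≤ R
  norm : R ≤ Subgroup.normalizer (W : Set G)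
  pgroup : IsPGroup 2 R
  sylow : ∀ T : Subgroup G, IsPGroup 2 T → T ≤ Subgroup.normalizer (W : Set G) → W ≤ T →
    ∃ n ∈ Subgroup.normalizer (W : Set G), cjg n T ≤ R
  fix : ∀ r ∈ R, r ∉ W → fixedIn W r = Z
  sq : Nat.card Z * Nat.card Z = Nat.card W
  small : Nat.card R ≤ Nat.card Z * Nat.card W
  proper : W ≠ R

variable {W R Z : Subgroup G}

theorem Free.Z_le (h : Free W R Z) : Z ≤ W := by
  obtain ⟨r, hr, hr'⟩ := SetLike.exists_of_lt (lt_of_le_of_ne h.le h.proper)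
  rw [← h.fix r hr hr']
  exact inf_le_left

theorem Free.Z_comm (h : Free W R Z) {z r : G} (hz : z ∈ Z) (hr : r ∈ R) : z * r = r * z := by
  by_cases hrW : r ∈ W
  · exact commute_of_exp_two h.exp (h.Z_le hz) hrW
  · rw [← h.fix r hr hrW] at hz
    exact (mem_fixedIn.1 hz).2

theorem Free.one_lt_card_Z (h : Free W R Z) : 1 < Nat.card Z := by
  have hW : 1 < Nat.card W := (Subgroup.one_lt_card_iff_ne_bot W).2 h.ne
  rw [← h.sq] at hW
  by_contra hle
  have : Nat.card Z = 1 := le_antisymm (not_lt.1 hle) Nat.card_pos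
  rw [this] at hW
  omega

/-- two elementary abelian normal free subgroups of a 2-group `T0 ≤ N(W)` -/
theorem Free.pair (h : Free W R Z) {T0 W' : Subgroup G} (hT0 : IsPGroup 2 T0)
    (hT0n : T0 ≤ Subgroup.normalizer (W : Set G)) (hW : W ≤ T0) (hW' : W' ≤ T0)
    (hexp' : ∀ x ∈ W', x * x = 1) (hne : W' ≠ W) (hcard : Nat.card W' = Nat.card W) :
    Nat.card T0 = Nat.card R ∧ Nat.card R = Nat.card Z * Nat.card W ∧
      Nat.card ↥(W ⊓ W') = Nat.card Z ∧ W ⊔ W' = T0 ∧
      (∀ a ∈ W, ∀ b ∈ W', a * b * (a * b) = 1 → a ∈ W' ∨ b ∈ W) := by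
  obtain ⟨n, hn, hnT⟩ := h.sylow T0 hT0 hT0n hW
  have hT0R : Nat.card T0 ≤ Nat.card R := by
    rw [← card_cjg n T0]; exact Subgroup.card_le_of_le hnT
  have hfixb : ∀ b ∈ W', b ∉ W → W ⊓ W' ≤ fixedIn W b ∧ Nat.card (fixedIn W b) = Nat.card Z := by
    intro b hb hbW
    refine ⟨fun x hx => mem_fixedIn.2 ⟨hx.1, commute_of_exp_two hexp' hx.2 hb⟩, ?_⟩
    have hnb : n * b * n⁻¹ ∈ R := hnT (conj_mem_cjg (hW' hb))
    have hnb' : n * b * n⁻¹ ∉ W := fun hh => hbW (((Subgroup.mem_normalizer_iff.1 hn) b).2 hh)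
    have e : cjg n (fixedIn W b) = fixedIn W (n * b * n⁻¹) := by
      ext x
      have hxn : n⁻¹ * x * n ∈ W ↔ n * (n⁻¹ * x * n) * n⁻¹ ∈ W :=
        (Subgroup.mem_normalizer_iff.1 hn) _
      rw [mem_cjg, mem_fixedIn, mem_fixedIn, hxn]
      constructor
      · rintro ⟨h1, h2⟩
        refine ⟨by simpa [mul_assoc] using h1, ?_⟩
        calc x * (n * b * n⁻¹) = n * (n⁻¹ * x * n * b) * n⁻¹ := by group
          _ = n * (b * (n⁻¹ * x * n)) * n⁻¹ := by rw [h2]
          _ = _ := by group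
      · rintro ⟨h1, h2⟩
        refine ⟨by simpa [mul_assoc] using h1, ?_⟩
        calc n⁻¹ * x * n * b = n⁻¹ * (x * (n * b * n⁻¹)) * n := by group
          _ = n⁻¹ * (n * b * n⁻¹ * x) * n := by rw [h2]
          _ = _ := by group
    rw [← card_cjg n, e, h.fix _ hnb hnb']
  obtain ⟨b, hb, hbW⟩ : ∃ b ∈ W', b ∉ W := by
    by_contra hcon
    push Not at hcon
    exact hne (Subgroup.eq_of_le_of_card_ge hcon hcard.ge)
  obtain ⟨h1, h2⟩ := hfixb b hb hbW
  have hI : Nat.card ↥(W ⊓ W') ≤ Nat.card Z := h2 ▸ Subgroup.card_le_of_le h1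
  have hsup : W ⊔ W' ≤ T0 := sup_le hW hW'
  have h4 := card_mul_card_le (le_sup_left : W ≤ W ⊔ W') (le_sup_right : W' ≤ W ⊔ W')
  rw [hcard] at h4
  have h5 : Nat.card ↥(W ⊔ W') ≤ Nat.card T0 := Subgroup.card_le_of_le hsup
  have hZpos := h.one_lt_card_Z
  have hWpos : 0 < Nat.card W := Nat.card_pos
  have h6 : Nat.card W * Nat.card W ≤ Nat.card Z * Nat.card ↥(W ⊔ W') :=
    h4.trans (Nat.mul_le_mul_right _ hI)
  have h7 : Nat.card Z * Nat.card W ≤ Nat.card ↥(W ⊔ W') := by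
    refine Nat.le_of_mul_le_mul_left ?_ (show 0 < Nat.card Z by omega)
    rw [← mul_assoc, h.sq]
    exact h6
  have h8 := h.small
  have hsupT : Nat.card ↥(W ⊔ W') = Nat.card Z * Nat.card W := by omega
  have hIeq : Nat.card ↥(W ⊓ W') = Nat.card Z := by
    refine le_antisymm hI (Nat.le_of_mul_le_mul_right ?_ (show 0 < Nat.card Z * Nat.card W from
      Nat.mul_pos (by omega) hWpos))
    rw [← mul_assoc, h.sq]
    rwa [hsupT] at h4
  refine ⟨by omega, by omega, hIeq, Subgroup.eq_of_le_of_card_ge hsup (by omega), ?_⟩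
  intro a ha b' hb' hab
  by_cases hb'W : b' ∈ W
  · exact Or.inr hb'W
  left
  obtain ⟨h1', h2'⟩ := hfixb b' hb' hb'W
  have heq : W ⊓ W' = fixedIn W b' := Subgroup.eq_of_le_of_card_ge h1' (by omega)
  have : a ∈ fixedIn W b' := by
    refine mem_fixedIn.2 ⟨ha, ?_⟩
    have e1 := inv_eq_of_mul_eq_one_right hab
    rw [mul_inv_rev, inv_eq_of_mul_eq_one_right (h.exp a ha), inv_eq_of_mul_eq_one_right (hexp' b' hb')] at e1
    exact e1.symm
  exact (heq.symm ▸ this : a ∈ W ⊓ W').2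

theorem Free.le_normalizer (h : Free W R Z) (hs : Small G) {T : Subgroup G} (hT : IsPGroup 2 T)
    (hW : W ≤ T) : T ≤ Subgroup.normalizer (W : Set G) := by
  by_contra hnle
  set T0 := T ⊓ Subgroup.normalizer (W : Set G)
  obtain ⟨y, hyT, hyN, hyT0, hyy⟩ := exists_normalizing hT (inf_le_left : T0 ≤ T)
    (fun e => hnle (e ▸ inf_le_right))
  have hWT0 : W ≤ T0 := le_inf hW Subgroup.le_normalizer
  have hW'T0 : cjg y W ≤ T0 := (cjg_mono y hWT0).trans (cjg_eq_of_mem hyN).le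
  have hne : cjg y W ≠ W := fun e => hyT0 ⟨hyT, mem_normalizer_of_cjg e⟩
  have hexp' : ∀ x ∈ cjg y W, x * x = 1 := by
    rintro _ ⟨a, ha, rfl⟩
    rw [← map_mul, h.exp a ha, map_one]
  obtain ⟨-, -, -, hsup, hinv⟩ := h.pair (hT.to_le inf_le_left) inf_le_right hWT0 hW'T0 hexp' hne (card_cjg _ _)
  have hback : cjg y (cjg y W) = W := by
    rw [cjg, cjg, Subgroup.map_map]
    refine Eq.trans ?_ (cjg_eq_of_mem (hyy.2 : y * y ∈ Subgroup.normalizer (W : Set G)))
    rw [cjg]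
    congr 1
    ext a
    simp [mul_assoc]
  have hnW' : W ≤ Subgroup.normalizer (cjg y W : Set G) := by
    intro a ha
    have h1 : y⁻¹ * a * y ∈ T0 := by
      have := ((Subgroup.mem_normalizer_iff.1 (Subgroup.inv_mem _ hyN)) a).1 (hWT0 ha)
      rwa [inv_inv] at this
    refine mem_normalizer_of_cjg ?_
    ext x
    rw [mem_cjg, mem_cjg, mem_cjg, (Subgroup.mem_normalizer_iff.1 h1.2) (y⁻¹ * (a⁻¹ * x * a) * y)]
    simp [mul_assoc]
  have hmem : ∀ x ∈ T0, ∃ u ∈ W, ∃ v ∈ cjg y W, x = u * v := by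
    intro x hx
    have hx' : x ∈ ((W ⊔ cjg y W : Subgroup G) : Set G) := by
      rw [hsup]; exact hx
    rw [Subgroup.coe_mul_of_right_le_normalizer_left W (cjg y W) (hW'T0.trans inf_le_right)] at hx'
    obtain ⟨u, hu, v, hv, e⟩ := Set.mem_mul.1 hx'
    exact ⟨u, hu, v, hv, e.symm⟩
  refine hne (Subgroup.eq_of_le_of_card_ge ?_ (card_cjg y W).le).symm
  exact eq_of_swap rfl hback (hW'T0.trans inf_le_right) hnW' h.exp hinv (hmem _ hyy)
    fun w hw => hs.pow_four_of_mem hT (T.mul_mem (hW hw) hyT)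

/-- `R` is a Sylow 2-subgroup of the whole group -/
theorem Free.eq_of_le (h : Free W R Z) (hs : Small G) {T : Subgroup G} (hT : IsPGroup 2 T)
    (hR : R ≤ T) : T = R := by
  obtain ⟨n, -, hn⟩ := h.sylow T hT (h.le_normalizer hs hT (h.le.trans hR)) (h.le.trans hR)
  exact (Subgroup.eq_of_le_of_card_ge hR ((card_cjg n T).symm.le.trans (Subgroup.card_le_of_le hn))).symm

/-- every 2-subgroup lies in a conjugate of `R` -/
theorem Free.exists_cjg (h : Free W R Z) (hs : Small G) {T : Subgroup G} (hT : IsPGroup 2 T) :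
    ∃ g, T ≤ cjg g R := by
  have : Fact (Nat.Prime 2) := ⟨Nat.prime_two⟩
  obtain ⟨S, hS⟩ := h.pgroup.exists_le_sylow
  obtain ⟨S', hS'⟩ := hT.exists_le_sylow
  have e := h.eq_of_le hs S.isPGroup' hS
  obtain ⟨g, hg⟩ := MulAction.exists_smul_eq G S S'
  refine ⟨g, hS'.trans (le_of_eq ?_)⟩
  rw [← hg, Sylow.coe_subgroup_smul, ← e]
  rfl

/-- the centraliser of a non-trivial element of `Z` is `R` -/
theorem Free.centralizer_eq (h : Free W R Z) (hs : Small G) {z : G} (hz : z ∈ Z) (hz1 : z ≠ 1) :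
    Subgroup.centralizer ({z} : Set G) = R := by
  have hz2 : orderOf z = 2 := orderOf_eq_prime (by rw [pow_two]; exact h.exp z (h.Z_le hz)) hz1
  refine h.eq_of_le hs (hs.isPGroup_centralizer Nat.prime_two (hz2 ▸ dvd_rfl)) fun r hr => ?_
  exact Subgroup.mem_centralizer_singleton_iff.2 (h.Z_comm hz hr).symm

/-- a 2-element normalising `R` lies in `R` -/
theorem Free.mem_of_normalizing (h : Free W R Z) (hs : Small G) {n : G}
    (hn : n ∈ Subgroup.normalizer (R : Set G)) (h4 : n ^ 4 = 1) : n ∈ R := by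
  have : Fact (Nat.Prime 2) := ⟨Nat.prime_two⟩
  have hz : IsPGroup 2 (Subgroup.zpowers n) := by
    obtain ⟨j, -, hj⟩ := (Nat.dvd_prime_pow Nat.prime_two (m := 2)).1 (orderOf_dvd_of_pow_eq_one h4)
    exact IsPGroup.of_card (n := j) (by rw [Nat.card_zpowers, hj])
  have hsup : IsPGroup 2 ↥(R ⊔ Subgroup.zpowers n) := by
    have := IsPGroup.to_sup_of_normal_right' hz h.pgroup (Subgroup.zpowers_le.2 hn)
    rwa [sup_comm]
  rw [← h.eq_of_le hs hsup le_sup_left]
  exact Subgroup.mem_sup_right (Subgroup.mem_zpowers n)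

theorem Free.normalizes_of_mem_Z (h : Free W R Z) (hs : Small G) {n z : G} (hz : z ∈ Z) (hz1 : z ≠ 1)
    (hn : n * z * n⁻¹ ∈ Z) : n ∈ Subgroup.normalizer (R : Set G) := by
  have h2 : n * z * n⁻¹ ≠ 1 := fun e => hz1 (conj_eq_one_iff.1 e)
  refine mem_normalizer_of_cjg ?_
  have e1 := h.centralizer_eq hs hz hz1
  have e2 := h.centralizer_eq hs hn h2
  ext x
  rw [mem_cjg]
  conv_lhs => rw [← e1]
  conv_rhs => rw [← e2]
  rw [Subgroup.mem_centralizer_singleton_iff, Subgroup.mem_centralizer_singleton_iff]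
  constructor
  · intro hc
    calc x * (n * z * n⁻¹) = n * (n⁻¹ * x * n * z) * n⁻¹ := by group
      _ = n * (z * (n⁻¹ * x * n)) * n⁻¹ := by rw [hc]
      _ = _ := by group
  · intro hc
    calc n⁻¹ * x * n * z = n⁻¹ * (x * (n * z * n⁻¹)) * n := by group
      _ = n⁻¹ * (n * z * n⁻¹ * x) * n := by rw [hc]
      _ = _ := by group

/-- Some involution of `R \ W` is conjugate to an element of `W`. -/
theorem Free.fused (h : Free W R Z) (hs : Small G) [IsSimpleGroup G]
    (hinvo : ∃ t ∈ R, t ∉ W ∧ t * t = 1) :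
    ∃ t ∈ R, t ∉ W ∧ t * t = 1 ∧ ∃ g : G, g * t * g⁻¹ ∈ W := by
  by_contra hcon
  push Not at hcon
  obtain ⟨t, htR, htW, htt⟩ := hinvo
  -- a conjugate of `w` in `R` lies in `W`
  have hclosed : ∀ x ∈ R, x * x = 1 → ∀ g : G, g * x * g⁻¹ ∈ W → x ∈ W := fun x hx hxx g hg =>
    by_contra fun hxW => hcon x hx hxW hxx g hg
  obtain ⟨z, hz, hz1⟩ : ∃ z ∈ Z, z ≠ 1 := by
    have := h.one_lt_card_Z
    obtain ⟨⟨z, hz⟩, hne⟩ := Subgroup.ne_bot_iff_exists_ne_one.1 ((Subgroup.one_lt_card_iff_ne_bot Z).1 this)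
    exact ⟨z, hz, fun e => hne (Subtype.ext e)⟩
  have ht2 : orderOf t = 2 := orderOf_eq_prime (by rw [pow_two, htt]) fun e => htW (e ▸ W.one_mem)
  have hCt := hs.isPGroup_centralizer Nat.prime_two (x := t) (ht2 ▸ dvd_rfl)
  have htC : ∀ x ∈ Z, x ∈ Subgroup.centralizer ({t} : Set G) := fun x hx =>
    Subgroup.mem_centralizer_singleton_iff.2 (h.Z_comm hx htR)
  -- `C(t) ≤ R`
  have hCR : Subgroup.centralizer ({t} : Set G) ≤ R := by
    by_contra hnle
    obtain ⟨n, hnC, hnN, hnnot, -⟩ := exists_normalizing hCt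
      (inf_le_left : Subgroup.centralizer ({t} : Set G) ⊓ R ≤ _) (fun e => hnle (e ▸ inf_le_right))
    have h1 := ((Subgroup.mem_normalizer_iff.1 hnN) z).1 ⟨htC z hz, h.le (h.Z_le hz)⟩
    have hzz : n * z * n⁻¹ * (n * z * n⁻¹) = 1 := by
      rw [show n * z * n⁻¹ * (n * z * n⁻¹) = n * (z * z) * n⁻¹ by group, h.exp z (h.Z_le hz)]; group
    have h2 : n * z * n⁻¹ ∈ W := hclosed _ h1.2 hzz n⁻¹ (by simpa [mul_assoc] using h.Z_le hz)
    have h3 : n * z * n⁻¹ ∈ Z := by
      rw [← h.fix t htR htW]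
      exact mem_fixedIn.2 ⟨h2, Subgroup.mem_centralizer_singleton_iff.1 h1.1⟩
    exact hnnot ⟨hnC, h.mem_of_normalizing hs (h.normalizes_of_mem_Z hs hz hz1 h3)
      (hs.pow_four_of_mem hCt hnC)⟩
  -- every conjugate of `z` lies in `W`
  have hall : ∀ g : G, g * z * g⁻¹ ∈ W := by
    intro g
    set w := g * z * g⁻¹ with hw
    have hz2 : orderOf z = 2 := orderOf_eq_prime (by rw [pow_two]; exact h.exp z (h.Z_le hz)) hz1
    have hw2 : orderOf w = 2 := by rw [hw, Lib.Involutions.Basic.orderOf_conj_eq, hz2]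
    have hww : w * w = 1 := Lib.Involutions.Basic.invol_mul_self hw2
    have hti : t⁻¹ = t := Lib.Involutions.Basic.invol_inv ht2
    have hwi : w⁻¹ = w := Lib.Involutions.Basic.invol_inv hw2
    -- an involution commuting with both
    obtain ⟨v, hv2, hvt, hvw⟩ : ∃ v, orderOf v = 2 ∧ v * t = t * v ∧ v * w = w * v := by
      have hev : 2 ∣ orderOf (t * w) := by
        by_contra hodd
        obtain ⟨j, hj⟩ : Odd (orderOf (t * w)) := Nat.odd_iff.2 (by omega)
        -- then `t` and `w` are conjugate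
        have hinvj := Lib.Involutions.Basic.invert_comm htt (Lib.Involutions.Basic.invert_mul htt hww) (j : ℤ)
        rw [zpow_natCast, zpow_neg, zpow_natCast] at hinvj
        have hpow : ((t * w) ^ j)⁻¹ * ((t * w) ^ j)⁻¹ = t * w := by
          have h1 : (t * w) ^ j * (t * w) ^ j * (t * w) = 1 := by
            rw [← pow_add, ← pow_succ, ← two_mul, ← hj, pow_orderOf_eq_one]
          rw [← mul_inv_rev]
          exact inv_eq_of_mul_eq_one_right h1
        have hconj : (t * w) ^ j * t * ((t * w) ^ j)⁻¹ = w := by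
          rw [hinvj, mul_assoc, hpow, ← mul_assoc, htt, one_mul]
        refine hcon t htR htW htt (g⁻¹ * (t * w) ^ j) ?_
        rw [show g⁻¹ * (t * w) ^ j * t * (g⁻¹ * (t * w) ^ j)⁻¹ =
          g⁻¹ * ((t * w) ^ j * t * ((t * w) ^ j)⁻¹) * g by group, hconj,
          show g⁻¹ * w * g = z by rw [hw]; group]
        exact h.Z_le hz
      obtain ⟨j, hj⟩ := hev
      have hord : orderOf ((t * w) ^ j) = 2 := by
        have := orderOf_pos (t * w)
        rw [orderOf_pow_of_dvd (by omega) (Dvd.intro_left _ hj.symm), hj,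
          Nat.mul_div_cancel _ (by omega : 0 < j)]
      refine ⟨_, hord, ?_, ?_⟩
      · have := Lib.Involutions.Basic.invert_comm htt (Lib.Involutions.Basic.invert_mul htt hww) (j : ℤ)
        rw [zpow_natCast, zpow_neg, zpow_natCast, Lib.Involutions.Basic.invol_inv hord] at this
        exact this
      · have := Lib.Involutions.Basic.invert_comm htt (Lib.Involutions.Basic.invert_mul htt hww) (j : ℤ)
        rw [zpow_natCast, zpow_neg, zpow_natCast, Lib.Involutions.Basic.invol_inv hord] at this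
        have hc : Commute ((t * w) ^ j) (t * w) := (Commute.refl _).pow_left j
        have hct : Commute ((t * w) ^ j) t := this
        have := (hct.mul_right hc).eq
        rwa [← mul_assoc t t w, htt, one_mul] at this
    obtain ⟨k, hk⟩ := h.exists_cjg hs (hs.isPGroup_centralizer Nat.prime_two (x := v) (hv2 ▸ dvd_rfl))
    have htk : k⁻¹ * t * k ∈ R := mem_cjg.1 (hk (Subgroup.mem_centralizer_singleton_iff.2 hvt.symm))
    have hwk : k⁻¹ * w * k ∈ R := mem_cjg.1 (hk (Subgroup.mem_centralizer_singleton_iff.2 hvw.symm))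
    have hvk : k⁻¹ * v * k ∈ R := mem_cjg.1 (hk (Subgroup.mem_centralizer_singleton_iff.2 rfl))
    have hwW : k⁻¹ * w * k ∈ W := hclosed _ hwk
      (by rw [show k⁻¹ * w * k * (k⁻¹ * w * k) = k⁻¹ * (w * w) * k by group, hww]; group)
      (g⁻¹ * k) (by rw [show g⁻¹ * k * (k⁻¹ * w * k) * (g⁻¹ * k)⁻¹ = z by rw [hw]; group]; exact h.Z_le hz)
    have htW' : k⁻¹ * t * k ∉ W := fun hh => hcon t htR htW htt k⁻¹ (by simpa using hh)
    have hcomm : ∀ {a b : G}, a * b = b * a → k⁻¹ * a * k * (k⁻¹ * b * k) = k⁻¹ * b * k * (k⁻¹ * a * k) :=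
      fun {a b} e => by
        calc k⁻¹ * a * k * (k⁻¹ * b * k) = k⁻¹ * (a * b) * k := by group
          _ = k⁻¹ * (b * a) * k := by rw [e]
          _ = _ := by group
    -- a non-trivial element of `Z` commuting with `k⁻¹ t k`
    obtain ⟨x, hxZ, hx1⟩ : ∃ x ∈ Z, x ≠ 1 := by
      by_cases hvW : k⁻¹ * v * k ∈ W
      · refine ⟨k⁻¹ * v * k, ?_, ?_⟩
        · rw [← h.fix _ htk htW']
          exact mem_fixedIn.2 ⟨hvW, hcomm hvt⟩
        · intro e
          apply Lib.Involutions.Basic.invol_ne_one hv2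
          calc v = k * (k⁻¹ * v * k) * k⁻¹ := by group
            _ = 1 := by rw [e]; group
      · refine ⟨k⁻¹ * w * k, ?_, ?_⟩
        · rw [← h.fix _ hvk hvW]
          exact mem_fixedIn.2 ⟨hwW, hcomm hvw.symm⟩
        · intro e
          apply Lib.Involutions.Basic.invol_ne_one hw2
          calc w = k * (k⁻¹ * w * k) * k⁻¹ := by group
            _ = 1 := by rw [e]; group
    -- hence `k` normalises `R`
    have hxt : k * x * k⁻¹ ∈ Subgroup.centralizer ({t} : Set G) := by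
      rw [Subgroup.mem_centralizer_singleton_iff]
      have := h.Z_comm hxZ htk
      calc k * x * k⁻¹ * t = k * (x * (k⁻¹ * t * k)) * k⁻¹ := by group
        _ = k * (k⁻¹ * t * k * x) * k⁻¹ := by rw [this]
        _ = _ := by group
    have hxx : k * x * k⁻¹ * (k * x * k⁻¹) = 1 := by
      rw [show k * x * k⁻¹ * (k * x * k⁻¹) = k * (x * x) * k⁻¹ by group, h.exp x (h.Z_le hxZ)]; group
    have hxW : k * x * k⁻¹ ∈ W := hclosed _ (hCR hxt) hxx k⁻¹ (by simpa [mul_assoc] using h.Z_le hxZ)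
    have hxZ' : k * x * k⁻¹ ∈ Z := by
      rw [← h.fix t htR htW]
      exact mem_fixedIn.2 ⟨hxW, Subgroup.mem_centralizer_singleton_iff.1 hxt⟩
    have hkN := h.normalizes_of_mem_Z hs hxZ hx1 hxZ'
    have hwR : w ∈ R := by
      have := ((Subgroup.mem_normalizer_iff.1 hkN) _).1 hwk
      simpa [mul_assoc] using this
    exact hclosed w hwR hww g⁻¹ (by simpa [hw, mul_assoc] using h.Z_le hz)
  -- so the normal closure of `z` is proper
  rcases (Subgroup.normalClosure_normal (s := ({z} : Set G))).eq_bot_or_eq_top with hb | ht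
  · exact hz1 (Subgroup.mem_bot.1 (hb ▸ Subgroup.subset_normalClosure (Set.mem_singleton z)))
  · refine htW (?_ : t ∈ W)
    have hle : Subgroup.normalClosure ({z} : Set G) ≤ W := (Subgroup.closure_le _).2 fun x hx => by
      obtain ⟨a, ha, hax⟩ := Group.mem_conjugatesOfSet_iff.1 hx
      rw [Set.mem_singleton_iff] at ha
      subst ha
      obtain ⟨g, rfl⟩ := isConj_iff.1 hax
      exact hall g
    exact hle (ht ▸ Subgroup.mem_top t)

end Cfsg.Agent.Lib.RecogThree.OrdersFive
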