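import Cfsg.Agent.Lib.RecogThree.OrdersFive.Simple
import Cfsg.Agent.Lib.RecogThree.OrdersFive.AltSix
import Cfsg.Agent.S0494
import Cfsg.Agent.S0497

/-! Finite non-solvable groups with element orders at most five. -/

set_option linter.unusedSectionVars false

namespace Cfsg.Agent.Lib.RecogThree.OrdersFive

variable {G : Type*} [Group G] [Finite G]

/-- a four-group in `A5` or `A6` -/
theorem Concl.exists_four {Q : Type*} [Group Q] [Finite Q] (h : Concl Q) (hs : Small Q) :
    ∃ A : Subgroup Q, IsPGroup 2 A ∧ (∀ a ∈ A, ∀ b ∈ A, a * b = b * a) ∧ ¬ IsCyclic A := by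
  rcases h with ⟨hsimple, hcard, -⟩ | ⟨M, hM, hexp, ⟨e⟩⟩
  · obtain ⟨e⟩ := S0497.result (G := Q) hcard
    obtain ⟨hz, hz1, hw, hw1, -, -, -, hc, -, -, hne⟩ := six_basic
    set z := e.symm zz
    set w := e.symm w₁
    have hzw : z * w = w * z := by simp only [z, w, ← map_mul, hc]
    have hzz : z * z = 1 := by simp only [z, ← map_mul, hz, map_one]
    have hww : w * w = 1 := by simp only [w, ← map_mul, hw, map_one]
    refine ⟨Subgroup.closure {z, w}, ?_⟩
    have hab := Subgroup.isMulCommutative_closure (k := ({z, w} : Set Q))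
      (by rintro a (rfl | rfl) b (rfl | rfl) <;> first | rfl | exact hzw | exact hzw.symm)
    have hcomm : ∀ a ∈ Subgroup.closure ({z, w} : Set Q), ∀ b ∈ Subgroup.closure ({z, w} : Set Q),
        a * b = b * a := fun a ha b hb => congrArg Subtype.val (hab.is_comm.comm ⟨a, ha⟩ ⟨b, hb⟩)
    have hsq : ∀ a ∈ Subgroup.closure ({z, w} : Set Q), a * a = 1 := by
      intro a ha
      induction ha using Subgroup.closure_induction with
      | mem x hx => rcases hx with rfl | rfl <;> assumption
      | one => exact mul_one 1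
      | mul x y hx hy ihx ihy =>
        calc x * y * (x * y) = x * (y * x) * y := by group
          _ = x * (x * y) * y := by rw [hcomm y hy x hx]
          _ = (x * x) * (y * y) := by group
          _ = 1 := by rw [ihx, ihy, mul_one]
      | inv x _ ihx => rw [← mul_inv_rev, ihx, inv_one]
    refine ⟨isPGroup_of_sq hsq, hcomm, fun hcyc => ?_⟩
    obtain ⟨⟨g, hg⟩, hgen⟩ := hcyc.exists_generator
    have hg2 : g ^ (2 : ℤ) = 1 := by rw [zpow_two]; exact hsq g hg
    have hval : ∀ x ∈ Subgroup.closure ({z, w} : Set Q), x = 1 ∨ x = g := by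
      intro x hx
      obtain ⟨i, hi⟩ := Subgroup.mem_zpowers_iff.1 (hgen ⟨x, hx⟩)
      have hi' : g ^ i = x := by simpa using congrArg Subtype.val hi
      rw [← hi', ← Int.emod_add_mul_ediv i 2, zpow_add, zpow_mul, hg2, one_zpow, mul_one]
      rcases (show i % 2 = 0 ∨ i % 2 = 1 by omega) with h | h <;> rw [h]
      · exact Or.inl (zpow_zero g)
      · exact Or.inr (zpow_one g)
    have hz1' : z ≠ 1 := fun h => hz1 (by simpa [z] using h)
    have hw1' : w ≠ 1 := fun h => hw1 (by simpa [w] using h)
    exact hne (e.symm.injective (((hval z (Subgroup.subset_closure (by simp))).resolve_left hz1').trans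
      ((hval w (Subgroup.subset_closure (by simp))).resolve_left hw1').symm))
  · by_cases hM1 : M = ⊥
    · subst hM1
      let f : Q ≃* A5 := (QuotientGroup.quotientBot (G := Q)).symm.trans e
      let A : Subgroup Q := fourGroup.map f.symm.toMonoidHom
      have hA4 : Nat.card A = 4 := by
        rw [Subgroup.card_map_of_injective f.symm.injective, card_fourGroup]
      have hsq : ∀ a ∈ A, a * a = 1 := by
        rintro _ ⟨a, ha, rfl⟩
        rw [← map_mul]
        obtain ⟨⟨h1, -⟩, ⟨h2, -⟩, ⟨h3, -⟩⟩ := v_sq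
        rcases mem_fourGroup.1 ha with rfl | rfl | rfl | rfl
        · rw [mul_one, map_one]
        all_goals simp [h1, h2, h3]
      refine ⟨A, isPGroup_of_sq hsq, fun a ha b hb => commute_of_exp_two hsq ha hb, fun hcyc => ?_⟩
      obtain ⟨⟨g, hg⟩, hgen⟩ := hcyc.exists_generator
      have := orderOf_eq_card_of_forall_mem_zpowers hgen
      rw [hA4, Subgroup.orderOf_mk] at this
      have h2 := orderOf_dvd_of_pow_eq_one (show g ^ 2 = 1 by rw [pow_two]; exact hsq g hg)
      rw [this] at h2; norm_num at h2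
    · refine ⟨M, isPGroup_of_sq hexp, fun a ha b hb => commute_of_exp_two hexp ha hb, fun hcyc => ?_⟩
      obtain ⟨⟨g, hg⟩, hgen⟩ := hcyc.exists_generator
      have hg1 : g ≠ 1 := fun h => hM1 (by
        rw [Subgroup.eq_bot_iff_forall]
        intro x hx
        obtain ⟨i, hi⟩ := Subgroup.mem_zpowers_iff.1 (hgen ⟨x, hx⟩)
        have := congrArg Subtype.val hi
        simp [h] at this
        exact this.symm)
      have hall : ∀ x ∈ M, x = 1 ∨ x = g := by
        intro x hx
        obtain ⟨i, hi⟩ := Subgroup.mem_zpowers_iff.1 (hgen ⟨x, hx⟩)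
        have hi' : g ^ i = x := by simpa using congrArg Subtype.val hi
        have hg2 : g ^ (2 : ℤ) = 1 := by rw [zpow_two]; exact hexp g hg
        rw [← hi', ← Int.emod_add_mul_ediv i 2, zpow_add, zpow_mul, hg2, one_zpow, mul_one]
        rcases (show i % 2 = 0 ∨ i % 2 = 1 by omega) with h | h <;> rw [h]
        · exact Or.inl (zpow_zero g)
        · exact Or.inr (zpow_one g)
      -- `g` is central, but some element has order 3
      have := Fact.mk Nat.prime_three
      obtain ⟨y, hy⟩ := exists_prime_orderOf_dvd_card' (G := Q) 3 (by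
        have hd : 3 ∣ Nat.card (Q ⧸ M) := by rw [Nat.card_congr e.toEquiv, card_A5]; norm_num
        exact hd.trans (Subgroup.card_quotient_dvd_card M))
      refine hg1 (hs.fpf Nat.prime_three (by norm_num) hy (pow_four_of_sq (hexp g hg)) ?_)
      rcases hall _ (hM.conj_mem g hg y) with h | h
      · exact absurd (conj_eq_one_iff.1 h) hg1
      · exact mul_inv_eq_iff_eq_mul.1 h

theorem Concl.not_solvable {Q : Type*} [Group Q] [Finite Q] (h : Concl Q) : ¬ Group.IsSolvable Q := by
  intro hsol
  rcases h with ⟨hsimple, hcard, -⟩ | ⟨M, hM, -, ⟨e⟩⟩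
  · obtain ⟨e⟩ := S0497.result (G := Q) hcard
    have : IsSimpleGroup A6 := e.isSimpleGroup_congr.1 hsimple
    have : Group.IsSolvable A6 := Group.isSolvable_of_surjective (f := e.toMonoidHom) e.surjective
    have h2 : commutator A6 = ⊤ := by
      rcases (commutator_def A6 ▸ inferInstance : (commutator A6).Normal).eq_bot_or_eq_top with h' | h'
      · exfalso
        have hc : ∀ a b : A6, a * b = b * a := fun a b => by
          have := Subgroup.commutator_mem_commutator (Subgroup.mem_top a) (Subgroup.mem_top b)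
          rw [← commutator_def, h', Subgroup.mem_bot] at this
          exact commutatorElement_eq_one_iff_mul_comm.1 this
        obtain ⟨-, -, -, -, hw2, -, -, -, -, hne, hne'⟩ := six_basic
        rw [hc w₂ w₁, mul_assoc, hw2, mul_one] at hne
        exact absurd (mul_eq_right.1 hne.symm) (fun h => by simpa using six_basic.2.1 h)
      · exact h'
    exact (Group.IsSolvable.commutator_lt_top_of_nontrivial A6).ne h2
  · have h5 : Group.IsSolvable A5 :=
      Group.isSolvable_of_surjective (f := e.toMonoidHom.comp (QuotientGroup.mk' M))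
        (e.surjective.comp (QuotientGroup.mk'_surjective M))
    have h2 : commutator A5 = ⊤ := by
      rcases (commutator_def A5 ▸ inferInstance : (commutator A5).Normal).eq_bot_or_eq_top with h' | h'
      · exfalso
        have hc : ∀ a b : A5, a * b = b * a := fun a b => by
          have := Subgroup.commutator_mem_commutator (Subgroup.mem_top a) (Subgroup.mem_top b)
          rw [← commutator_def, h', Subgroup.mem_bot] at this
          exact commutatorElement_eq_one_iff_mul_comm.1 this
        obtain ⟨x, hx3, hx1, hvx⟩ := inverted v₁ v_sq.1.1 v_sq.1.2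
        rw [hc v₁ x, mul_assoc, v_sq.1.1, mul_one] at hvx
        have : x ^ 2 = 1 := by rw [pow_two]; exact mul_eq_one_iff_eq_inv.2 hvx
        exact hx1 (by rwa [pow_succ, this, one_mul] at hx3)
      · exact h'
    exact (Group.IsSolvable.commutator_lt_top_of_nontrivial A5).ne h2

/-- the preimage of the 2-part -/
theorem Small.extension (h : Small G) {F : Subgroup G} [F.Normal] (hF : IsPGroup 2 F) (hF1 : F ≠ ⊥)
    (hC : Concl (G ⧸ F)) : Concl G := by
  have := Fact.mk Nat.prime_two
  have := Fact.mk Nat.prime_three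
  rcases hC with ⟨hsimple, hcard, -⟩ | ⟨M, hMn, hMexp, ⟨e⟩⟩
  · exfalso
    obtain ⟨P, hP⟩ := Sylow.exists_subgroup_card_pow_prime 3 (n := 2) (G := G ⧸ F) (by rw [hcard]; norm_num)
    have : Fact (Nat.Prime 3) := ⟨Nat.prime_three⟩
    refine h.no_noncyclic_quotient F Nat.prime_two Nat.prime_three (by norm_num) hF hF1
      (IsPGroup.of_card hP) (fun a ha b hb => ?_) fun hc => ?_
    · have := IsPGroup.isMulCommutative_of_card_eq_prime_sq hP
      exact congrArg Subtype.val (this.is_comm.comm ⟨a, ha⟩ ⟨b, hb⟩)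
    · obtain ⟨⟨g, hg⟩, hgen⟩ := hc.exists_generator
      have := orderOf_eq_card_of_forall_mem_zpowers hgen
      rw [hP, Subgroup.orderOf_mk] at this
      have h5 := h.quotient F g
      omega
  right
  set M' := M.comap (QuotientGroup.mk' F) with hM'
  let φ₀ : G →* A5 := e.toMonoidHom.comp ((QuotientGroup.mk' M).comp (QuotientGroup.mk' F))
  have hφ₀ : Function.Surjective φ₀ := e.surjective.comp
    ((QuotientGroup.mk'_surjective M).comp (QuotientGroup.mk'_surjective F))
  have hker₀ : φ₀.ker = M' := by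
    ext x; simp [φ₀, M']
  have hM'2 : IsPGroup 2 M' :=
    (isPGroup_of_sq hMexp).comap_of_ker_isPGroup _ (by rw [QuotientGroup.ker_mk']; exact hF)
  let φ : ↥(⊤ : Subgroup G) →* A5 := φ₀.comp (Subgroup.subtype _)
  have hφ : Function.Surjective φ := fun y => by
    obtain ⟨x, rfl⟩ := hφ₀ y
    exact ⟨⟨x, trivial⟩, rfl⟩
  have hker : φ.ker = M'.subgroupOf ⊤ := by
    ext x
    rw [Subgroup.mem_subgroupOf, ← hker₀]
    exact Iff.rfl
  obtain ⟨x, hx3, hx1, hvx⟩ := inverted v₁ v_sq.1.1 v_sq.1.2
  obtain ⟨k, rfl⟩ := hφ x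
  have hk3 : orderOf (φ k) = 3 := orderOf_eq_prime hx3 hx1
  obtain ⟨t, -, htt, htk⟩ :=
    h.exists_lift_inverting φ hker hM'2 Nat.prime_three (by norm_num) hk3 v_sq.1.1 hvx hφ
  have hn : M'.Normal := hMn.comap _
  have hexp := h.elementary hM'2 Nat.prime_three (by norm_num)
    (h.order_of_map φ Nat.prime_three (by norm_num) hk3) htt htk
    (by rw [Subgroup.normalizer_eq_top_iff.2 hn]; trivial)
    (by rw [Subgroup.normalizer_eq_top_iff.2 hn]; trivial)
  exact ⟨M', hn, hexp, ⟨(QuotientGroup.quotientMulEquivOfEq hker₀.symm).trans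
    (QuotientGroup.quotientKerEquivOfSurjective φ₀ hφ₀)⟩⟩

theorem Small.extension_five (h : Small G) {M : Subgroup G} [M.Normal] (hc : Nat.card M = 60)
    (hsimple : IsSimpleGroup M) : M = ⊤ := by
  have := Fact.mk Nat.prime_two
  have := Fact.mk Nat.prime_three
  have := Fact.mk Nat.prime_five
  have key : ∀ p : ℕ, p.Prime → p ∣ 60 → ¬ p ^ 2 ∣ 60 →
      ∃ x : G, x ∈ M ∧ orderOf x = p ∧ (∀ g : G, ∃ m ∈ M,
        m * g ∈ Subgroup.normalizer (Subgroup.zpowers x : Set G)) ∧
      ∃ j, Nat.card (Subgroup.normalizer (Subgroup.zpowers x : Set G)) ∣ (p - 1) * p ^ j := by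
    intro p hp hd hd2
    have := Fact.mk hp
    obtain ⟨P⟩ : Nonempty (Sylow p M) := inferInstance
    have hPc : Nat.card P = p := by
      rw [P.card_eq_multiplicity, hc]
      have h1 := (hp.pow_dvd_iff_le_factorization (show 60 ≠ 0 by norm_num)).1 (show p ^ 1 ∣ 60 by rwa [pow_one])
      have h2 : ¬ 2 ≤ Nat.factorization 60 p := fun hh =>
        hd2 ((hp.pow_dvd_iff_le_factorization (show 60 ≠ 0 by norm_num)).2 hh)
      rw [show Nat.factorization 60 p = 1 by omega, pow_one]
    obtain ⟨⟨y, hyP⟩, hy⟩ := exists_prime_orderOf_dvd_card' (G := P) p (by rw [hPc])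
    rw [Subgroup.orderOf_mk] at hy
    have hPy : (P : Subgroup M).map M.subtype = Subgroup.zpowers (y : G) := by
      rw [show (P : Subgroup M) = Subgroup.zpowers y from (Subgroup.eq_of_le_of_card_ge
        (Subgroup.zpowers_le.2 hyP) (by rw [Nat.card_zpowers, hy]; exact hPc.le)).symm,
        MonoidHom.map_zpowers]
      rfl
    refine ⟨y, y.2, by rw [Subgroup.orderOf_coe, hy], fun g => ?_, ?_⟩
    · have htop := Sylow.normalizer_sup_eq_top P
      rw [hPy] at htop
      have hg : g ∈ ((M ⊔ Subgroup.normalizer (Subgroup.zpowers (y : G) : Set G) : Subgroup G) : Set G) := by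
        rw [sup_comm, htop]; trivial
      rw [Subgroup.normal_mul] at hg
      obtain ⟨m, hm, n, hn, rfl⟩ := Set.mem_mul.1 hg
      exact ⟨m⁻¹, M.inv_mem hm, by simpa using hn⟩
    · set N := Subgroup.normalizer (Subgroup.zpowers (y : G) : Set G)
      let f : N →* MulAut (Subgroup.zpowers (y : G)) := Subgroup.normalizerMonoidHom _
      have hyo : orderOf (y : G) = p := by rw [Subgroup.orderOf_coe, hy]
      have hker : IsPGroup p f.ker := by
        have hC' := h.isPGroup_centralizer hp (x := (y : G)) (by rw [hyo])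
        refine (hC'.comap_of_injective N.subtype N.subtype_injective).to_le fun n hn => ?_
        refine Subgroup.mem_centralizer_singleton_iff.2 ?_
        have := congrArg Subtype.val (DFunLike.congr_fun (MonoidHom.mem_ker.1 hn)
          ⟨(y : G), Subgroup.mem_zpowers _⟩)
        exact mul_inv_eq_iff_eq_mul.1 (show (n : G) * y * (n : G)⁻¹ = y from this)
      obtain ⟨j, hj⟩ := hker.exists_card_eq
      refine ⟨j, ?_⟩
      rw [← f.ker.card_mul_index, Subgroup.index_ker, hj, mul_comm]
      refine Nat.mul_dvd_mul_right ?_ _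
      refine (Subgroup.card_subgroup_dvd_card f.range).trans ?_
      rw [IsCyclic.card_mulAut, Nat.card_zpowers, hyo, Nat.totient_prime hp]
  obtain ⟨x, hxM, hx3, hx, j, hxN⟩ := key 3 Nat.prime_three (by norm_num) (by norm_num)
  obtain ⟨y, hyM, hy5, hy, j', hyN⟩ := key 5 Nat.prime_five (by norm_num) (by norm_num)
  have hdiv : ∀ {u : G}, (∀ g : G, ∃ m ∈ M, m * g ∈ Subgroup.normalizer (Subgroup.zpowers u : Set G)) →
      Nat.card (G ⧸ M) ∣ Nat.card (Subgroup.normalizer (Subgroup.zpowers u : Set G)) := by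
    intro u hu
    refine Subgroup.card_dvd_of_surjective ((QuotientGroup.mk' M).comp (Subgroup.subtype _)) fun q => ?_
    obtain ⟨g, rfl⟩ := QuotientGroup.mk'_surjective M q
    obtain ⟨m, hm, hmg⟩ := hu g
    refine ⟨⟨_, hmg⟩, ?_⟩
    show QuotientGroup.mk' M (m * g) = _
    rw [map_mul, show QuotientGroup.mk' M m = 1 from (QuotientGroup.eq_one_iff m).2 hm, one_mul]
  have h2 : Nat.card (G ⧸ M) ∣ 2 := by
    have h3 := (hdiv hx).trans hxN
    have h5 := (hdiv hy).trans hyN
    have c1 : (Nat.card (G ⧸ M)).Coprime (3 ^ j) := by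
      refine Nat.Coprime.pow_right _ ((Nat.coprime_primes Nat.prime_three Nat.prime_five).2 (by norm_num) |> fun hc35 => ?_)
      refine Nat.Coprime.coprime_dvd_left h5 (Nat.Coprime.mul_left (by norm_num) ?_)
      exact (Nat.Coprime.pow_right _ hc35).symm
    exact c1.dvd_of_dvd_mul_right h3
  -- the centraliser of `x` lies in `M`, hence `|N(⟨x⟩)| ≤ 6`
  obtain ⟨e⟩ := S0494.result (G := M) hc
  have hCM : Subgroup.centralizer ({x} : Set G) ≤ M := by
    intro c hcx
    have hp3 := h.isPGroup_centralizer Nat.prime_three (x := x) (by rw [hx3])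
    obtain ⟨i, hi⟩ := hp3 ⟨c, hcx⟩
    have hci : c ^ 3 ^ i = 1 := by simpa using congrArg Subtype.val hi
    refine (QuotientGroup.eq_one_iff c).1 (orderOf_eq_one_iff.1 (Nat.dvd_one.1 ?_))
    have d1 : orderOf (c : G ⧸ M) ∣ 3 ^ i := orderOf_dvd_of_pow_eq_one (by
      rw [← QuotientGroup.mk_pow, hci, QuotientGroup.mk_one])
    have d2 : orderOf (c : G ⧸ M) ∣ 2 := (orderOf_dvd_natCard _).trans h2
    have := Nat.dvd_gcd d1 d2
    rwa [(Nat.Coprime.pow_left i (by norm_num : Nat.Coprime 3 2)).gcd_eq_one] at this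
  have hCx : ∀ c : G, c * x = x * c → c ∈ Subgroup.zpowers x := by
    intro c hcx
    set C := Subgroup.centralizer ({x} : Set G)
    obtain ⟨i, hi⟩ := (h.isPGroup_centralizer Nat.prime_three (x := x) (by rw [hx3])).exists_card_eq
    have hdvd : 3 ^ i ∣ 60 := hi ▸ hc ▸ Subgroup.card_dvd_of_le hCM
    have hi1 : i ≤ 1 := by
      have h1 := (Nat.Prime.pow_dvd_iff_le_factorization Nat.prime_three (show 60 ≠ 0 by norm_num)).1 hdvd
      have h2' : ¬ 2 ≤ Nat.factorization 60 3 := fun hh => by
        have := (Nat.Prime.pow_dvd_iff_le_factorization Nat.prime_three (show 60 ≠ 0 by norm_num)).2 hh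
        norm_num at this
      omega
    have hxC : Subgroup.zpowers x ≤ C :=
      Subgroup.zpowers_le.2 (Subgroup.mem_centralizer_singleton_iff.2 rfl)
    have := Subgroup.eq_of_le_of_card_ge hxC (by
      rw [Nat.card_zpowers, hx3, hi]
      exact (Nat.pow_le_pow_right (by norm_num) hi1).trans (pow_one 3).le)
    rw [this]
    exact Subgroup.mem_centralizer_singleton_iff.2 hcx
  rw [eq_top_iff]
  intro g _
  obtain ⟨m, hm, hmg⟩ := hx g
  suffices hmgM : m * g ∈ M by simpa using M.mul_mem (M.inv_mem hm) hmgM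
  have hxx : m * g * x * (m * g)⁻¹ ∈ Subgroup.zpowers x :=
    ((Subgroup.mem_normalizer_iff.1 hmg) x).1 (Subgroup.mem_zpowers x)
  obtain ⟨s, hss, -, hsx⟩ := invert_three (e ⟨x, hxM⟩) (by
    rw [← map_pow, show (⟨x, hxM⟩ : M) ^ 3 = 1 from
      Subtype.ext (by simpa using hx3 ▸ pow_orderOf_eq_one x), map_one])
  have hsx' : (e.symm s : G) * x * (e.symm s : G) = x⁻¹ := by
    have := congrArg (fun v => ((e.symm v : M) : G)) hsx
    simpa using this
  obtain ⟨i, hi⟩ := Subgroup.mem_zpowers_iff.1 hxx
  have hi' : x ^ (i % 3) = x ^ i := by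
    conv_rhs => rw [← Int.emod_add_mul_ediv i 3, zpow_add, zpow_mul]
    rw [show x ^ (3 : ℤ) = 1 by
      rw [show (3 : ℤ) = ((3 : ℕ) : ℤ) from rfl, zpow_natCast, ← hx3, pow_orderOf_eq_one],
      one_zpow, mul_one]
  rw [← hi'] at hi
  rcases (show i % 3 = 0 ∨ i % 3 = 1 ∨ i % 3 = 2 by omega) with e0 | e0 | e0 <;> rw [e0] at hi
  · exfalso
    rw [zpow_zero] at hi
    have := conj_eq_one_iff.1 hi.symm
    rw [this, orderOf_one] at hx3; norm_num at hx3
  · rw [zpow_one] at hi
    exact Subgroup.zpowers_le.2 hxM (hCx _ (mul_inv_eq_iff_eq_mul.1 hi.symm))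
  · have hx2 : x ^ (2 : ℤ) = x⁻¹ := by
      refine eq_inv_of_mul_eq_one_left ?_
      rw [← zpow_add_one, show (2 : ℤ) + 1 = ((3 : ℕ) : ℤ) from rfl, zpow_natCast, ← hx3,
        pow_orderOf_eq_one]
    rw [hx2] at hi
    set u := (e.symm s : G)
    have huM : u ∈ M := (e.symm s).2
    have huu : u * u = 1 := by
      have := congrArg (fun v => ((e.symm v : M) : G)) hss
      simpa using this
    have huc : u * (m * g) * x = x * (u * (m * g)) := by
      calc u * (m * g) * x = u * (m * g * x * (m * g)⁻¹) * (m * g) := by group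
        _ = u * x⁻¹ * (m * g) := by rw [← hi]
        _ = u * (u * x * u) * (m * g) := by rw [hsx']
        _ = (u * u) * x * (u * (m * g)) := by group
        _ = _ := by rw [huu, one_mul]
    have := Subgroup.zpowers_le.2 hxM (hCx _ huc)
    simpa using M.mul_mem (M.inv_mem huM) this

theorem Small.extension_six (h : Small G) {M : Subgroup G} [M.Normal] (hc : Nat.card M = 360)
    (hsimple : IsSimpleGroup M) : M = ⊤ := by
  classical
  have := Fact.mk Nat.prime_two
  obtain ⟨e⟩ := S0497.result (G := M) hc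
  obtain ⟨hzz, hz1, hww, hw1, hbb, hk, hk1, hzw, hzb, hbwb, hzne⟩ := six_basic
  let ι : A6 →* G := M.subtype.comp e.symm.toMonoidHom
  have hι : Function.Injective ι := Subtype.val_injective.comp e.symm.injective
  have hιM : ∀ a, ι a ∈ M := fun a => (e.symm a).2
  have hιs : ∀ g ∈ M, ∃ a, ι a = g := fun g hg => ⟨e ⟨g, hg⟩, by simp [ι]⟩
  set z := ι zz
  have hz2 : orderOf z = 2 := by
    rw [orderOf_injective ι hι]; exact orderOf_eq_prime (by rw [pow_two, hzz]) hz1
  have hCz := h.isPGroup_centralizer Nat.prime_two (x := z) (by rw [hz2])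
  set C := Subgroup.centralizer ({z} : Set G) with hC
  -- `G = M C(z)`
  have hGC : ∀ g : G, ∃ m ∈ M, m * g ∈ C := by
    intro g
    obtain ⟨a, ha⟩ := hιs (g * z * g⁻¹) (‹M.Normal›.conj_mem z (hιM zz) g)
    have ha2 : a * a = 1 := hι (by
      rw [map_mul, ha, map_one, show g * z * g⁻¹ * (g * z * g⁻¹) = g * (z * z) * g⁻¹ by group,
        show z * z = 1 by rw [← pow_two, ← hz2, pow_orderOf_eq_one]]
      group)
    have ha1 : a ≠ 1 := fun e1 => by
      rw [e1, map_one] at ha
      exact Lib.Involutions.Basic.invol_ne_one hz2 (conj_eq_one_iff.1 ha.symm)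
    obtain ⟨b, hb⟩ := six_conj a ha2 ha1
    refine ⟨(ι b)⁻¹, M.inv_mem (hιM b), Subgroup.mem_centralizer_singleton_iff.2 ?_⟩
    have e2 : ι b * z * (ι b)⁻¹ = g * z * g⁻¹ := by rw [← ha, ← hb, map_mul, map_mul, map_inv]
    calc (ι b)⁻¹ * g * z = (ι b)⁻¹ * (g * z * g⁻¹) * g := by group
      _ = (ι b)⁻¹ * (ι b * z * (ι b)⁻¹) * g := by rw [e2]
      _ = _ := by group
  by_contra hne
  set S := C ⊓ M
  have hSne : S ≠ C := fun hSC => hne (by
    rw [eq_top_iff]
    intro g _
    obtain ⟨m, hm, hmg⟩ := hGC g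
    rw [← hSC] at hmg
    simpa using M.mul_mem (M.inv_mem hm) hmg.2)
  obtain ⟨y, hyC, hyN, hyS, hyy⟩ := exists_normalizing hCz (inf_le_left : S ≤ C) hSne
  have hyM : y ∉ M := fun hh => hyS ⟨hyC, hh⟩
  have hyz : y * z = z * y := Subgroup.mem_centralizer_singleton_iff.1 hyC
  set a := ι w₁
  set b := ι w₂
  set k := ι kk
  have haz : z * a = a * z := by simp only [z, a, ← map_mul, hzw]
  have hbz : z * b = b * z := by simp only [z, b, ← map_mul, hzb]
  have hk3 : orderOf k = 3 := by
    rw [orderOf_injective ι hι]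
    have := Fact.mk Nat.prime_three
    exact orderOf_eq_prime hk hk1
  have hkz : k * z * k⁻¹ = a := by simp only [z, a, k, ← map_inv, ← map_mul, six_perm.1]
  have hka : k * a * k⁻¹ = z * a := by simp only [z, a, k, ← map_inv, ← map_mul, six_perm.2]
  have haa : a * a = 1 := by simp only [a, ← map_mul, hww, map_one]
  have hzz' : z * z = 1 := by simp only [z, ← map_mul, hzz, map_one]
  have hbb' : b * b = 1 := by simp only [b, ← map_mul, hbb, map_one]
  -- an element outside `M` centralising `z` and `a`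
  have hnoc : ∀ c : G, c * z = z * c → c * a = a * c → c ∈ M := by
    intro c hcz hca
    have hmem : c * k * c⁻¹ * k⁻¹ ∈ M :=
      M.mul_mem (‹M.Normal›.conj_mem k (hιM kk) c) (M.inv_mem (hιM kk))
    set d := c * k * c⁻¹ * k⁻¹ with hd
    have hcza : c * (z * a) = z * a * c := by rw [← mul_assoc, hcz, mul_assoc, hca, mul_assoc]
    have hinv : ∀ {u v : G}, k * u * k⁻¹ = v → c * u = u * c → c * v = v * c → d * v = v * d := by
      intro u v huv hcu hcv
      have h1 : k⁻¹ * v * k = u := by rw [← huv]; group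
      have h2 : c⁻¹ * u * c = u := by rw [mul_assoc, ← hcu, inv_mul_cancel_left]
      have h3 : d * v * d⁻¹ = v := by
        calc d * v * d⁻¹ = c * (k * (c⁻¹ * (k⁻¹ * v * k) * c) * k⁻¹) * c⁻¹ := by simp only [d]; group
          _ = c * (k * u * k⁻¹) * c⁻¹ := by rw [h1, h2]
          _ = v := by rw [huv, hcv, mul_inv_cancel_right]
      exact mul_inv_eq_iff_eq_mul.1 h3
    have hda : d * a = a * d := hinv hkz hcz hca
    have hdza : d * (z * a) = z * a * d := hinv hka hca hcza
    have hdz : d * z = z * d := by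
      have h1 : d * (z * a) * a = z * a * d * a := by rw [hdza]
      rw [mul_assoc d, mul_assoc z a a, haa, mul_one, mul_assoc _ d a, hda, mul_assoc z a,
        ← mul_assoc a a d, haa, one_mul] at h1
      exact h1
    obtain ⟨d', hd'⟩ := hιs d hmem
    have hd4 := six_centralizer_four d' (hι (by rw [map_mul, map_mul, hd']; exact hdz))
      (hι (by rw [map_mul, map_mul, hd']; exact hda))
    set W := Subgroup.closure ({z, a} : Set G)
    have hdW : d ∈ W := by
      rw [← hd']
      rcases hd4 with e | e | e | e <;> rw [e]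
      · rw [map_one]; exact W.one_mem
      · exact Subgroup.subset_closure (by simp [z])
      · exact Subgroup.subset_closure (by simp [a])
      · rw [map_mul]; exact W.mul_mem (Subgroup.subset_closure (by simp [z])) (Subgroup.subset_closure (by simp [a]))
    have hkW : k ∈ Subgroup.normalizer (W : Set G) := by
      refine mem_normalizer_of_cjg (Subgroup.eq_of_le_of_card_ge ?_ (card_cjg _ _).ge)
      rw [cjg, MonoidHom.map_closure]
      refine (Subgroup.closure_le _).2 ?_
      rintro _ ⟨v, hv, rfl⟩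
      rcases hv with rfl | rfl
      · show k * z * k⁻¹ ∈ W
        rw [hkz]; exact Subgroup.subset_closure (by simp)
      · show k * a * k⁻¹ ∈ W
        rw [hka]; exact W.mul_mem (Subgroup.subset_closure (by simp)) (Subgroup.subset_closure (by simp))
    have hWC : ∀ v ∈ W, v * z = z * v := by
      intro v hv
      have : W ≤ C := (Subgroup.closure_le _).2 fun v hv => by
        rcases hv with rfl | rfl
        · exact Subgroup.mem_centralizer_singleton_iff.2 rfl
        · exact Subgroup.mem_centralizer_singleton_iff.2 haz.symm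
      exact Subgroup.mem_centralizer_singleton_iff.1 (this hv)
    have hWM : W ≤ M := (Subgroup.closure_le _).2 fun v hv => by
      rcases hv with rfl | rfl
      · exact hιM _
      · exact hιM _
    obtain ⟨v, hv, hve⟩ := exists_conj_eq_mul (K := W) (k := k) hkW (fun u hu hcu =>
      h.fpf Nat.prime_three (by norm_num) hk3 (h.pow_four_of_mem hCz
        (Subgroup.mem_centralizer_singleton_iff.2 (hWC u hu))) hcu) hdW
    have hcom : Commute k (v⁻¹ * c) := by
      have h1 : v⁻¹ * c * k * (v⁻¹ * c)⁻¹ = k := by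
        calc v⁻¹ * c * k * (v⁻¹ * c)⁻¹ = v⁻¹ * (d * k) * v := by simp only [d]; group
          _ = v⁻¹ * (v * k * v⁻¹) * v := by rw [hve]
          _ = k := by group
      exact (mul_inv_eq_iff_eq_mul.1 h1).symm
    have hvc : v⁻¹ * c ∈ C := C.mul_mem (C.inv_mem (Subgroup.mem_centralizer_singleton_iff.2 (hWC v hv)))
      (Subgroup.mem_centralizer_singleton_iff.2 hcz)
    have := h.fpf Nat.prime_three (by norm_num) hk3 (h.pow_four_of_mem hCz hvc) hcom
    rw [inv_mul_eq_one] at this
    rw [← this]; exact hWM hv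
  -- the images of `a` under `y`
  have himg : ∀ u : A6, u * zz = zz * u → u * u = 1 →
      ∃ u', ι u' = y * ι u * y⁻¹ ∧ u' * zz = zz * u' ∧ u' * u' = 1 := by
    intro u huz huu
    obtain ⟨u', hu'⟩ := hιs _ (‹M.Normal›.conj_mem _ (hιM u) y)
    refine ⟨u', hu', hι ?_, hι ?_⟩
    · have hu : ι u * z = z * ι u := by simp only [z, ← map_mul, huz]
      have hzy : z = y * z * y⁻¹ := by rw [hyz]; group
      rw [map_mul, map_mul, hu']
      calc y * ι u * y⁻¹ * z = y * ι u * y⁻¹ * (y * z * y⁻¹) := by rw [← hzy]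
        _ = y * (ι u * z) * y⁻¹ := by group
        _ = y * (z * ι u) * y⁻¹ := by rw [hu]
        _ = (y * z * y⁻¹) * (y * ι u * y⁻¹) := by group
        _ = _ := by rw [← hzy]
    · rw [map_mul, hu', show y * ι u * y⁻¹ * (y * ι u * y⁻¹) = y * (ι u * ι u) * y⁻¹ by group,
        ← map_mul, huu, map_one]
      group
  obtain ⟨a', ha', ha'z, ha'2⟩ := himg w₁ hzw.symm hww
  rcases six_involutions a' ha'z ha'2 with rfl | rfl | rfl | rfl | hswap
  · rw [map_one] at ha'
    exact hw1 (hι (by rw [conj_eq_one_iff.1 ha'.symm, map_one]))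
  · refine hzne (hι ?_)
    have : y * z * y⁻¹ = y * ι w₁ * y⁻¹ := by rw [← ha', hyz, mul_inv_cancel_right]
    exact mul_left_cancel (mul_right_cancel this)
  · exact hyM (hnoc y hyz (mul_inv_eq_iff_eq_mul.1 ha'.symm))
  · -- `y b` centralises `a`
    have hba : b * a * b⁻¹ = z * a := by
      rw [inv_eq_of_mul_eq_one_right hbb']
      simp only [a, b, z, ← map_mul, hbwb]
    refine hyM ?_
    have hy' := hnoc (b⁻¹ * y) ?_ ?_
    · have := M.mul_mem (hιM w₂) hy'
      rwa [show ι w₂ = b from rfl, ← mul_assoc, mul_inv_cancel, one_mul] at this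
    · rw [mul_assoc, hyz, ← mul_assoc, show b⁻¹ * z = z * b⁻¹ by
        rw [eq_mul_inv_iff_mul_eq, mul_assoc, hbz, inv_mul_cancel_left], mul_assoc]
    · have : y * a * y⁻¹ = b * a * b⁻¹ := by rw [hba, ← ha', map_mul]
      calc b⁻¹ * y * a = b⁻¹ * (y * a * y⁻¹) * y := by group
        _ = b⁻¹ * (b * a * b⁻¹) * y := by rw [this]
        _ = _ := by group
  -- `y` exchanges the two four-groups
  set W := Subgroup.closure ({z, a} : Set G) with hW
  set W' := cjg y W with hW'
  have hexp : ∀ u ∈ W, u * u = 1 := by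
    intro u hu
    have hab := Subgroup.isMulCommutative_closure (k := ({z, a} : Set G))
      (by rintro p (rfl | rfl) q (rfl | rfl) <;> first | rfl | exact haz | exact haz.symm)
    induction hu using Subgroup.closure_induction with
    | mem p hp => rcases hp with rfl | rfl <;> assumption
    | one => exact mul_one 1
    | mul p q hp hq ihp ihq =>
      have : q * p = p * q := congrArg Subtype.val (hab.is_comm.comm ⟨q, hq⟩ ⟨p, hp⟩)
      calc p * q * (p * q) = p * (q * p) * q := by group
        _ = p * (p * q) * q := by rw [this]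
        _ = (p * p) * (q * q) := by group
        _ = 1 := by rw [ihp, ihq, mul_one]
    | inv p _ ihp => rw [← mul_inv_rev, ihp, inv_one]
  have hzW : z ∈ W := Subgroup.subset_closure (by simp)
  have haW : a ∈ W := Subgroup.subset_closure (by simp)
  have hzW' : z ∈ W' := by
    have := conj_mem_cjg (g := y) hzW
    rwa [hyz, mul_inv_cancel_right] at this
  have hbW' : b ∈ W' := by
    have h1 := conj_mem_cjg (g := y) haW
    rw [← ha'] at h1
    rcases hswap with rfl | rfl
    · exact h1
    · rw [map_mul] at h1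
      have := W'.mul_mem hzW' h1
      rwa [← mul_assoc, hzz', one_mul] at this
  have hWle : W ≤ S := (Subgroup.closure_le _).2 fun u hu => by
    rcases hu with rfl | rfl
    · exact ⟨Subgroup.mem_centralizer_singleton_iff.2 rfl, hιM _⟩
    · exact ⟨Subgroup.mem_centralizer_singleton_iff.2 haz.symm, hιM _⟩
  have hW'le : W' ≤ S := (cjg_mono y hWle).trans (cjg_eq_of_mem hyN).le
  have hS8 : ∀ u ∈ S, ∃ p ∈ W, ∃ q ∈ W', u = p * q := by
    rintro u ⟨huC, huM⟩
    obtain ⟨u', rfl⟩ := hιs u huM
    rcases six_centralizer u' (hι (by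
      rw [map_mul, map_mul]; exact Subgroup.mem_centralizer_singleton_iff.1 huC)) with
      e | e | e | e | e | e | e | e <;> subst e
    · exact ⟨1, W.one_mem, 1, W'.one_mem, by rw [map_one, mul_one]⟩
    · exact ⟨z, hzW, 1, W'.one_mem, (mul_one _).symm⟩
    · exact ⟨a, haW, 1, W'.one_mem, (mul_one _).symm⟩
    · exact ⟨z * a, W.mul_mem hzW haW, 1, W'.one_mem, by rw [map_mul, mul_one]⟩
    · exact ⟨1, W.one_mem, b, hbW', (one_mul _).symm⟩
    · exact ⟨z, hzW, b, hbW', by rw [map_mul]⟩
    · exact ⟨a, haW, b, hbW', by rw [map_mul]⟩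
    · exact ⟨z * a, W.mul_mem hzW haW, b, hbW', by rw [map_mul, map_mul, ← mul_assoc]⟩
  have hWn : S ≤ Subgroup.normalizer (W : Set G) := by
    intro u hu
    obtain ⟨p, hp, q, hq, rfl⟩ := hS8 u hu
    refine Subgroup.mul_mem _ (Subgroup.le_normalizer hp) ?_
    -- `b` normalises `W`
    have hbn : b ∈ Subgroup.normalizer (W : Set G) := by
      refine mem_normalizer_of_cjg (Subgroup.eq_of_le_of_card_ge ?_ (card_cjg _ _).ge)
      rw [cjg, hW, MonoidHom.map_closure]
      refine (Subgroup.closure_le _).2 ?_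
      rintro _ ⟨v, hv, rfl⟩
      rcases hv with rfl | rfl
      · show b * z * b⁻¹ ∈ W
        rw [← hbz, mul_inv_cancel_right]; exact hzW
      · show b * a * b⁻¹ ∈ W
        rw [inv_eq_of_mul_eq_one_right hbb']
        have : b * a * b = z * a := by simp only [a, b, z, ← map_mul, hbwb]
        rw [this]; exact W.mul_mem hzW haW
    have hW'sub : W' ≤ Subgroup.normalizer (W : Set G) := by
      intro v hv
      obtain ⟨v', rfl⟩ := hιs v (hW'le hv).2
      have hvv : v' * v' = 1 := hι (by
        rw [map_mul, map_one]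
        obtain ⟨o, ho, hoe⟩ := hv
        rw [← hoe, ← map_mul, hexp o ho, map_one])
      rcases six_involutions v' (hι (by
        rw [map_mul, map_mul]; exact Subgroup.mem_centralizer_singleton_iff.1 (hW'le hv).1)) hvv with
        e | e | e | e | e | e <;> subst e
      · rw [map_one]; exact Subgroup.one_mem _
      · exact Subgroup.le_normalizer hzW
      · exact Subgroup.le_normalizer haW
      · rw [map_mul]; exact Subgroup.le_normalizer (W.mul_mem hzW haW)
      · exact hbn
      · rw [map_mul]; exact Subgroup.mul_mem _ (Subgroup.le_normalizer hzW) hbn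
    exact hW'sub hq
  have hW'n : S ≤ Subgroup.normalizer (W' : Set G) := by
    intro u hu
    rw [hW', mem_normalizer_cjg]
    refine hWn ?_
    have := ((Subgroup.mem_normalizer_iff.1 (Subgroup.inv_mem _ hyN)) u).1 hu
    rwa [inv_inv] at this
  have hinv : ∀ p ∈ W, ∀ q ∈ W', p * q * (p * q) = 1 → p ∈ W' ∨ q ∈ W := by
    intro p hp q hq hpq
    have hpq' : p * q ∈ S := S.mul_mem (hWle hp) (hW'le hq)
    obtain ⟨r, hr⟩ := hιs _ hpq'.2
    rcases six_involutions r
      (hι (by rw [map_mul, map_mul, hr]; exact Subgroup.mem_centralizer_singleton_iff.1 hpq'.1))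
      (hι (by rw [map_mul, hr, hpq, map_one])) with e | e | e | e | e | e <;> subst e
    · rw [map_one] at hr
      exact Or.inl (by rw [eq_inv_of_mul_eq_one_left hr.symm]; exact W'.inv_mem hq)
    · exact Or.inl (by
        have := W'.mul_mem (hr ▸ hzW' : p * q ∈ W') (W'.inv_mem hq)
        rwa [mul_inv_cancel_right] at this)
    · exact Or.inr (by
        have := W.mul_mem (W.inv_mem hp) (hr ▸ haW : p * q ∈ W)
        rwa [inv_mul_cancel_left] at this)
    · exact Or.inr (by
        rw [map_mul] at hr
        have := W.mul_mem (W.inv_mem hp) (hr ▸ W.mul_mem hzW haW : p * q ∈ W)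
        rwa [inv_mul_cancel_left] at this)
    · exact Or.inl (by
        have := W'.mul_mem (hr ▸ hbW' : p * q ∈ W') (W'.inv_mem hq)
        rwa [mul_inv_cancel_right] at this)
    · exact Or.inl (by
        rw [map_mul] at hr
        have := W'.mul_mem (hr ▸ W'.mul_mem hzW' hbW' : p * q ∈ W') (W'.inv_mem hq)
        rwa [mul_inv_cancel_right] at this)
  have hback : cjg y W' = W := by
    rw [hW', cjg_cjg]
    exact cjg_eq_of_mem (hWn hyy)
  have hle := eq_of_swap hW'.symm hback (hW'le.trans hWn) (hWle.trans hW'n) hexp hinv (hS8 _ hyy)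
    fun w hw => h.pow_four_of_mem hCz (C.mul_mem (hWle hw).1 hyC)
  -- so `a` and `b` commute
  have hexp' : ∀ u ∈ W', u * u = 1 := by
    rintro _ ⟨u, hu, rfl⟩
    rw [← map_mul, hexp u hu, map_one]
  have hab : b * a = a * b := commute_of_exp_two hexp' hbW' (hle haW)
  have hbab : b * a * b = z * a := by simp only [a, b, z, ← map_mul, hbwb]
  rw [hab, mul_assoc, hbb', mul_one] at hbab
  exact hz1 (hι (by
    rw [map_one]
    show z = 1
    exact mul_eq_right.1 hbab.symm))

/-- non-solvable groups with element orders at most five -/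
theorem Small.classify : ∀ (n : ℕ) {G : Type*} [Group G] [Finite G], Nat.card G = n → Small G →
    ¬ Group.IsSolvable G → Concl G := by
  intro n
  induction n using Nat.strong_induction_on with
  | _ n ih =>
    intro G _ _ hn h hns
    have hsub : ∀ H : Subgroup G, H ≠ ⊤ → ¬ Group.IsSolvable H → Concl H := fun H hH hHs => by
      refine ih _ ?_ rfl (h.subgroup H) hHs
      rw [← hn]
      exact lt_of_le_of_ne (Subgroup.card_le_card_group H) fun e => hH (Subgroup.eq_top_of_card_eq H e)
    by_cases hR : ∃ F : Subgroup G, F.Normal ∧ F ≠ ⊥ ∧ Group.IsSolvable F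
    · obtain ⟨F, ⟨hFn, hF1, hFs⟩, hmin⟩ := wellFounded_lt.has_min
        {F : Subgroup G | F.Normal ∧ F ≠ ⊥ ∧ Group.IsSolvable F} hR
      -- `F` is abelian
      have hab : ∀ a ∈ F, ∀ b ∈ F, a * b = b * a := by
        have : Nontrivial F := (Subgroup.nontrivial_iff_ne_bot F).2 hF1
        have hlt : ⁅F, F⁆ < F := by
          refine lt_of_le_of_ne (Subgroup.commutator_le_right F F) fun e => ?_
          have h1 := (Group.IsSolvable.commutator_lt_top_of_nontrivial F).ne
          refine h1 (Subgroup.map_injective F.subtype_injective ?_)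
          rw [Subgroup.map_subtype_commutator, e, ← MonoidHom.range_eq_map, Subgroup.range_subtype]
        have hbot : ⁅F, F⁆ = ⊥ := by
          by_contra hne
          refine hmin _ ⟨Subgroup.commutator_normal F F, hne, ?_⟩ hlt
          exact Group.isSolvable_of_isSolvable_injective (Subgroup.inclusion_injective hlt.le)
        intro a ha b hb
        have h1 := Subgroup.commutator_mem_commutator ha hb
        rw [hbot, Subgroup.mem_bot] at h1
        exact commutatorElement_eq_one_iff_mul_comm.1 h1
      obtain ⟨p, hp, hpd⟩ := Nat.exists_prime_and_dvd (fun e => hF1 (Subgroup.card_eq_one.1 e))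
      have := Fact.mk hp
      obtain ⟨x, hx⟩ := exists_prime_orderOf_dvd_card' (G := F) p hpd
      let F0 : Subgroup G :=
        { carrier := {g | g ∈ F ∧ g ^ p = 1}
          mul_mem' := fun {a b} ha hb => ⟨F.mul_mem ha.1 hb.1, by
            rw [Commute.mul_pow (hab a ha.1 b hb.1), ha.2, hb.2, one_mul]⟩
          one_mem' := ⟨F.one_mem, one_pow p⟩
          inv_mem' := fun {a} ha => ⟨F.inv_mem ha.1, by rw [inv_pow, ha.2, inv_one]⟩ }
      have hF0 : F0 = F := by
        have hle : F0 ≤ F := fun g hg => hg.1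
        refine (eq_or_lt_of_le hle).resolve_right fun hlt => hmin F0 ⟨?_, ?_, ?_⟩ hlt
        · exact ⟨fun g hg u => ⟨hFn.conj_mem g hg.1 u, by rw [conj_pow, hg.2, mul_one, mul_inv_cancel]⟩⟩
        · intro e
          have hxF0 : (x : G) ∈ F0 := ⟨x.2, by rw [← hx, ← SubgroupClass.coe_pow, pow_orderOf_eq_one]; rfl⟩
          rw [e, Subgroup.mem_bot] at hxF0
          rw [show x = 1 from Subtype.ext hxF0, orderOf_one] at hx
          exact hp.ne_one hx.symm
        · exact Group.isSolvable_of_isSolvable_injective (Subgroup.inclusion_injective hle)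
      have hFp : IsPGroup p F := fun g => ⟨1, Subtype.ext (by
        have := (hF0.symm ▸ g.2 : (g : G) ∈ F0).2
        simpa using this)⟩
      have hquot : Concl (G ⧸ F) := by
        refine ih _ ?_ rfl (h.quotient F) fun hq => hns ?_
        · rw [← hn, Subgroup.card_eq_card_quotient_mul_card_subgroup F]
          exact lt_mul_of_one_lt_right Nat.card_pos ((Subgroup.one_lt_card_iff_ne_bot F).2 hF1)
        · exact Group.isSolvable_of_ker_le_range F.subtype (QuotientGroup.mk' F)
            (by rw [QuotientGroup.ker_mk', Subgroup.range_subtype])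
      by_cases hp2 : p = 2
      · subst hp2
        exact h.extension hFp hF1 hquot
      · exfalso
        obtain ⟨A, hA, hAab, hAc⟩ := hquot.exists_four (h.quotient F)
        exact h.no_noncyclic_quotient F hp Nat.prime_two hp2 hFp hF1 hA hAab hAc
    · push Not at hR
      by_cases hsimple : IsSimpleGroup G
      · rcases h.simple_cases hns hsub with h60 | h360
        · obtain ⟨e⟩ := S0494.result (G := G) h60
          exact Or.inr ⟨⊥, inferInstance, fun x hx => by rw [Subgroup.mem_bot.1 hx, mul_one],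
            ⟨(QuotientGroup.quotientBot (G := G)).trans e⟩⟩
        · exact Or.inl ⟨hsimple, h360⟩
      exfalso
      have hnt : Nontrivial G := by
        by_contra hn'
        have : Subsingleton G := not_nontrivial_iff_subsingleton.1 hn'
        exact hns inferInstance
      obtain ⟨M, hMn, hM1, hMt⟩ : ∃ M : Subgroup G, M.Normal ∧ M ≠ ⊥ ∧ M ≠ ⊤ := by
        by_contra hcon
        push Not at hcon
        exact hsimple ⟨fun N hN => or_iff_not_imp_left.2 (hcon N hN)⟩
      have hMs := hR M hMn hM1
      rcases hsub M hMt hMs with ⟨hs', hc, -⟩ | ⟨M', hM'n, hM'exp, ⟨e⟩⟩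
      · exact hMt (h.extension_six hc hs')
      have hM'1 : M' = ⊥ := by
        set K := M'.map M.subtype
        have hK : K.Normal := by
          refine ⟨?_⟩
          rintro _ ⟨x, hx, rfl⟩ g
          let σ : M ≃* M := MulAut.conjNormal g
          have hn2 : (M'.map σ.toMonoidHom).Normal := hM'n.map _ σ.surjective
          have hp2 : IsPGroup 2 (M'.map σ.toMonoidHom) := (isPGroup_of_sq hM'exp).map _
          let ψ : M →* A5 := e.toMonoidHom.comp (QuotientGroup.mk' M')
          have hψ : Function.Surjective ψ := e.surjective.comp (QuotientGroup.mk'_surjective M')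
          refine ⟨σ x, ?_, by simp [σ]⟩
          rcases (hn2.map ψ hψ).eq_bot_or_eq_top with h' | h'
          · have : ψ (σ x) = 1 := Subgroup.mem_bot.1 (h' ▸ ⟨σ x, ⟨x, hx, rfl⟩, rfl⟩)
            simpa [ψ] using this
          · exfalso
            obtain ⟨i, hi⟩ := (h' ▸ hp2.map ψ : IsPGroup 2 (⊤ : Subgroup A5)).exists_card_eq
            rw [Subgroup.card_top, card_A5] at hi
            have := Nat.Prime.dvd_of_dvd_pow Nat.prime_three (hi ▸ (by norm_num : 3 ∣ 60))
            norm_num at this
        have hKs : Group.IsSolvable K := by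
          have hK2 : IsPGroup 2 K := (isPGroup_of_sq hM'exp).map _
          have := Fact.mk Nat.prime_two
          have : Group.IsNilpotent K := hK2.isNilpotent
          infer_instance
        by_contra hne
        exact hR K hK (fun e' => hne (Subgroup.map_injective M.subtype_injective
          (e'.trans (Subgroup.map_bot _).symm))) hKs
      subst hM'1
      let f : M ≃* A5 := (QuotientGroup.quotientBot (G := M)).symm.trans e
      have hMc : Nat.card M = 60 := by rw [Nat.card_congr f.toEquiv, card_A5]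
      have hMsimple : IsSimpleGroup M := by
        have : Nontrivial M := (Subgroup.nontrivial_iff_ne_bot M).2 hM1
        exact IsSimpleGroup.isSimpleGroup_of_surjective f.symm.toMonoidHom f.symm.surjective
      exact hMt (h.extension_five hMc hMsimple)

end Cfsg.Agent.Lib.RecogThree.OrdersFive
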