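import Cfsg.Agent.Lib.RecogThree.OrdersFive.Basic

/-! Normal 2-subgroups of local subgroups in groups with element orders at most five:
they are elementary abelian and free for the inverting involutions. -/

set_option linter.unusedSectionVars false

namespace Cfsg.Agent.Lib.RecogThree.OrdersFive

/-- A 2-group with automorphisms `σ`, `τ` such that the translates under `σ` of any element multiply
to one and `(x · σⁱτ x)² = 1` has exponent two. -/
theorem exponent_two : ∀ (n : ℕ) {W : Type*} [Group W] [Finite W], Nat.card W = n → IsPGroup 2 W →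
    ∀ (p : ℕ), Odd p → ∀ σ τ : W ≃* W,
    (∀ x, ((List.range p).map fun i => (⇑σ)^[i] x).prod = 1) →
    (∀ i x, (x * (⇑σ)^[i] (τ x)) * (x * (⇑σ)^[i] (τ x)) = 1) → ∀ x : W, x * x = 1 := by
  intro n
  induction n using Nat.strong_induction_on with
  | _ n ih =>
    intro W _ _ hn hW p hp σ τ hσ hτ x
    rcases subsingleton_or_nontrivial W with hs | hnt
    · exact Subsingleton.elim _ _
    have : Fact (Nat.Prime 2) := ⟨Nat.prime_two⟩
    set Z := Subgroup.center W
    have hZσ : ∀ e : W ≃* W, Z.map e.toMonoidHom = Z := fun e =>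
      Subgroup.characteristic_iff_map_eq.1 inferInstance e
    have hlt : Nat.card (W ⧸ Z) < n := by
      have hz := hW.center_nontrivial
      have h1 : 1 < Nat.card Z := Finite.one_lt_card
      rw [← hn, Subgroup.card_eq_card_quotient_mul_card_subgroup Z]
      exact lt_mul_of_one_lt_right Nat.card_pos h1
    let σ' : W ⧸ Z ≃* W ⧸ Z := QuotientGroup.congr Z Z σ (hZσ σ)
    let τ' : W ⧸ Z ≃* W ⧸ Z := QuotientGroup.congr Z Z τ (hZσ τ)
    have hmk : ∀ i y, (⇑σ')^[i] (QuotientGroup.mk' Z y) = QuotientGroup.mk' Z ((⇑σ)^[i] y) := by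
      intro i
      induction i with
      | zero => intro y; rfl
      | succ i ihi =>
        intro y
        rw [Function.iterate_succ_apply', Function.iterate_succ_apply', ihi]
        rfl
    have hquot : ∀ y : W ⧸ Z, y * y = 1 := by
      refine ih _ hlt rfl (hW.to_quotient Z) p hp σ' τ' ?_ ?_
      · intro y
        obtain ⟨y, rfl⟩ := QuotientGroup.mk'_surjective Z y
        simp only [hmk]
        rw [show (fun i => QuotientGroup.mk' Z ((⇑σ)^[i] y)) =
          (QuotientGroup.mk' Z) ∘ (fun i => (⇑σ)^[i] y) from rfl, ← List.map_map, ← map_list_prod,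
          hσ, map_one]
      · intro i y
        obtain ⟨y, rfl⟩ := QuotientGroup.mk'_surjective Z y
        have : τ' (QuotientGroup.mk' Z y) = QuotientGroup.mk' Z (τ y) := rfl
        rw [this, hmk, ← map_mul, ← map_mul, hτ, map_one]
    have hsqZ : ∀ u : W, u * u ∈ Z := fun u => (QuotientGroup.eq_one_iff _).1 (hquot (u : W ⧸ Z))
    have hab : ∀ u v : W ⧸ Z, u * v = v * u := by
      intro u v
      have hinv : ∀ w : W ⧸ Z, w⁻¹ = w := fun w => inv_eq_of_mul_eq_one_right (hquot w)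
      calc u * v = (u * v)⁻¹ := (hinv _).symm
        _ = v * u := by rw [mul_inv_rev, hinv, hinv]
    have hcZ : ∀ u : W, x⁻¹ * u * x * u⁻¹ ∈ Z := fun u => by
      refine (QuotientGroup.eq_one_iff _).1 ?_
      rw [QuotientGroup.mk_mul, QuotientGroup.mk_mul, QuotientGroup.mk_mul, QuotientGroup.mk_inv,
        QuotientGroup.mk_inv, mul_assoc _ _ (x : W ⧸ Z), hab (u : W ⧸ Z)]
      group
    have hcentral : ∀ {z : W}, z ∈ Z → ∀ v, v * z = z * v := fun hz v => Subgroup.mem_center_iff.1 hz v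
    let ψ : W →* Z := MonoidHom.mk' (fun u => ⟨x⁻¹ * u * x * u⁻¹, hcZ u⟩) fun u v => Subtype.ext <| by
      show x⁻¹ * (u * v) * x * (u * v)⁻¹ = x⁻¹ * u * x * u⁻¹ * (x⁻¹ * v * x * v⁻¹)
      calc x⁻¹ * (u * v) * x * (u * v)⁻¹ = x⁻¹ * u * x * (x⁻¹ * v * x * v⁻¹) * u⁻¹ := by group
        _ = x⁻¹ * u * x * u⁻¹ * (x⁻¹ * v * x * v⁻¹) := by rw [mul_assoc _ _ u⁻¹, ← hcentral (hcZ v) u⁻¹]; group
    let a : Z := ⟨x * x, hsqZ x⟩
    let u : ℕ → W := fun i => (⇑σ)^[i] (τ x)
    let b : ℕ → Z := fun i => ⟨u i * u i, hsqZ _⟩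
    have hterm : ∀ i, a * ψ (u i) * b i = 1 := fun i => Subtype.ext <| by
      show x * x * (x⁻¹ * u i * x * (u i)⁻¹) * (u i * u i) = 1
      calc x * x * (x⁻¹ * u i * x * (u i)⁻¹) * (u i * u i) = x * u i * (x * u i) := by group
        _ = 1 := hτ i x
    have hcomm : ∀ c d : Z, c * d = d * c := fun c d => Subtype.ext (hcentral d.2 c.1)
    let _ : CommGroup Z := { (inferInstance : Group Z) with mul_comm := hcomm }
    have h1 : ((List.range p).map fun i => a * ψ (u i) * b i).prod = 1 :=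
      List.prod_eq_one fun y hy => by
        obtain ⟨i, -, rfl⟩ := List.mem_map.1 hy
        exact hterm i
    rw [List.prod_map_mul, List.prod_map_mul, List.map_const', List.prod_replicate, List.length_range] at h1
    have h2 : ((List.range p).map fun i => ψ (u i)).prod = 1 := by
      rw [show (fun i => ψ (u i)) = ψ ∘ u from rfl, ← List.map_map, ← map_list_prod, hσ, map_one]
    have hit : ∀ i (y : W), (⇑σ)^[i] (y * y) = (⇑σ)^[i] y * (⇑σ)^[i] y := by
      intro i
      induction i with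
      | zero => intro y; rfl
      | succ i ihi =>
        intro y
        rw [Function.iterate_succ_apply', Function.iterate_succ_apply', ihi, map_mul]
    have h3 : ((List.range p).map fun i => b i).prod = 1 := by
      apply Subtype.ext
      have : (((List.range p).map fun i => b i).prod : W) =
          ((List.range p).map fun i => (⇑σ)^[i] (τ x * τ x)).prod := by
        rw [Subgroup.val_list_prod, List.map_map]
        exact congrArg List.prod (List.map_congr_left fun i _ => (hit i _).symm)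
      rw [this, hσ]; rfl
    rw [h2, h3, mul_one, mul_one] at h1
    have hap : (x * x) ^ p = 1 := by simpa [a] using congrArg Subtype.val h1
    obtain ⟨j, hj⟩ := hW (x * x)
    have hcop : Nat.Coprime p (2 ^ j) := Nat.Coprime.pow_right _ (Nat.coprime_two_right.2 hp)
    have := pow_gcd_eq_one.2 (⟨hap, hj⟩ : (x * x) ^ p = 1 ∧ (x * x) ^ 2 ^ j = 1)
    rwa [hcop.gcd_eq_one, pow_one] at this

variable {G : Type*} [Group G] [Finite G]

theorem pow_four_of_sq {G : Type*} [Monoid G] {z : G} (hz : z * z = 1) : z ^ 4 = 1 := by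
  rw [show (4 : ℕ) = 2 + 2 from rfl, pow_add, pow_two, hz, one_mul]

theorem Small.elementary (h : Small G) {W : Subgroup G} (hW : IsPGroup 2 W) {p : ℕ} (hp : p.Prime)
    (hp2 : p ≠ 2) {k t : G} (hk : orderOf k = p) (ht : t * t = 1) (hkt : t * k * t = k⁻¹)
    (hkW : k ∈ Subgroup.normalizer (W : Set G)) (htW : t ∈ Subgroup.normalizer (W : Set G)) :
    ∀ x ∈ W, x * x = 1 := by
  have hconj : ∀ {g : G}, g ∈ Subgroup.normalizer (W : Set G) → ∀ y ∈ W, g * y * g⁻¹ ∈ W :=
    fun hg y hy => ((Subgroup.mem_normalizer_iff.1 hg) y).1 hy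
  let aut : Subgroup.normalizer (W : Set G) →* MulAut W := Subgroup.normalizerMonoidHom W
  let σ : W ≃* W := aut ⟨k, hkW⟩
  let τ : W ≃* W := aut ⟨t, htW⟩
  have hσ : ∀ (i : ℕ) (y : W), (((⇑σ)^[i] y : W) : G) = k ^ i * y * (k ^ i)⁻¹ := by
    intro i
    induction i with
    | zero => intro y; simp
    | succ i ih =>
      intro y
      rw [Function.iterate_succ_apply']
      show k * (((⇑σ)^[i] y : W) : G) * k⁻¹ = _
      rw [ih, pow_succ' k i]
      group
  have key := exponent_two (Nat.card W) rfl hW p (hp.odd_of_ne_two hp2) σ τ (fun y => ?_) (fun i y => ?_)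
  · exact fun x hx => congrArg Subtype.val (key ⟨x, hx⟩)
  · apply Subtype.ext
    rw [Subgroup.val_list_prod, List.map_map]
    refine Eq.trans ?_ (h.norm_eq_one hp hk (hconj hkW) (fun z hz => h.pow_four_of_mem hW hz) hp2 y.2)
    exact congrArg List.prod (List.map_congr_left fun i _ => hσ i y)
  · apply Subtype.ext
    show ((y : G) * _) * ((y : G) * _) = 1
    rw [hσ]
    show ((y : G) * (k ^ i * (t * y * t⁻¹) * (k ^ i)⁻¹)) * ((y : G) * (k ^ i * (t * y * t⁻¹) * (k ^ i)⁻¹)) = 1
    have hti : t⁻¹ = t := inv_eq_of_mul_eq_one_right ht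
    have hki : k ^ i * t * (k ^ i * t) = 1 := by
      have : t * k ^ i * t⁻¹ = (k ^ i)⁻¹ := by
        rw [← conj_pow, hti, hkt, inv_pow]
      calc k ^ i * t * (k ^ i * t) = k ^ i * (t * k ^ i * t⁻¹) * (t * t) := by group
        _ = 1 := by rw [this, ht]; group
    have hTi : (k ^ i * t)⁻¹ = k ^ i * t := inv_eq_of_mul_eq_one_right hki
    set T := k ^ i * t
    have e : (y : G) * (k ^ i * (t * y * t⁻¹) * (k ^ i)⁻¹) = (y * T) ^ 2 := by
      rw [pow_two]
      calc (y : G) * (k ^ i * (t * y * t⁻¹) * (k ^ i)⁻¹) = y * (T * y * T⁻¹) := by simp only [T]; group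
        _ = y * T * (y * T) := by rw [hTi]; group
    rw [e]
    have hmem : ((y : G) * T) ^ 2 ∈ W := by
      rw [← e]
      exact W.mul_mem y.2 (hconj (Subgroup.pow_mem _ hkW i) _ (hconj htW _ y.2))
    obtain ⟨j, hj⟩ := hW ⟨_, hmem⟩
    have h4 : ((y : G) * T) ^ 4 = 1 := h.pow_four ⟨j + 1, by
      rw [pow_succ' 2 j, pow_mul]; exact congrArg Subtype.val hj⟩
    rw [← pow_add, show 2 + 2 = 4 from rfl, h4]

/-- a subgroup of exponent two is commutative -/
theorem commute_of_exp_two {W : Subgroup G} (hW : ∀ x ∈ W, x * x = 1) {x y : G} (hx : x ∈ W)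
    (hy : y ∈ W) : x * y = y * x := by
  have hinv : ∀ {z}, z ∈ W → z⁻¹ = z := fun hz => inv_eq_of_mul_eq_one_right (hW _ hz)
  calc x * y = (x * y)⁻¹ := (hinv (W.mul_mem hx hy)).symm
    _ = y * x := by rw [mul_inv_rev, hinv hx, hinv hy]

/-- `x ↦ x · t x t` maps `W` onto the fixed points of the inverting involution -/
theorem Small.exists_preimage (h : Small G) {W : Subgroup G} (hW : ∀ x ∈ W, x * x = 1) {p : ℕ}
    (hp : p.Prime) (hp2 : p ≠ 2) {k t : G} (hk : orderOf k = p) (ht : t * t = 1)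
    (hkt : t * k * t = k⁻¹) (hkW : k ∈ Subgroup.normalizer (W : Set G)) {x : G} (hx : x ∈ W)
    (hfix : t * x * t = x) : ∃ y ∈ W, y * (t * y * t) = x := by
  have hconj : ∀ y ∈ W, k * y * k⁻¹ ∈ W := fun y hy => ((Subgroup.mem_normalizer_iff.1 hkW) y).1 hy
  have hn := h.norm_eq_one hp hk hconj (fun z hz => pow_four_of_sq (hW z hz)) hp2 hx
  have hxi : x⁻¹ = x := inv_eq_of_mul_eq_one_right (hW x hx)
  have hp35 : p = 3 ∨ p = 5 :=
    (h.prime_cases hp (g := k) (by rw [hk])).resolve_left hp2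
  have hkp : k ^ p = 1 := hk ▸ pow_orderOf_eq_one k
  have hti : t⁻¹ = t := inv_eq_of_mul_eq_one_right ht
  have hswap : ∀ i j : ℕ, i + j = p → t * (k ^ i * x * (k ^ i)⁻¹) * t = k ^ j * x * (k ^ j)⁻¹ := by
    intro i j hij
    have e1 : t * k ^ i * t⁻¹ = k ^ j := by
      rw [← conj_pow, hti, hkt, inv_pow]
      exact inv_eq_of_mul_eq_one_right (by rw [← pow_add, hij, hkp])
    calc t * (k ^ i * x * (k ^ i)⁻¹) * t
        = (t * k ^ i * t⁻¹) * (t * x * t⁻¹) * (t * k ^ i * t⁻¹)⁻¹ * (t * t) := by group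
      _ = _ := by rw [e1, hti, hfix, ht, mul_one]
  have hm : ∀ i : ℕ, k ^ i * x * (k ^ i)⁻¹ ∈ W := fun i =>
    ((Subgroup.mem_normalizer_iff.1 (Subgroup.pow_mem _ hkW i)) x).1 hx
  rcases hp35 with rfl | rfl
  · simp only [List.range_succ, List.range_zero, List.nil_append, List.cons_append, List.map_cons,
      List.map_nil, List.prod_cons, List.prod_nil, mul_one, pow_zero, one_mul, inv_one] at hn
    refine ⟨_, hm 1, ?_⟩
    rw [hswap 1 2 rfl, eq_inv_of_mul_eq_one_right hn, hxi]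
  · simp only [List.range_succ, List.range_zero, List.nil_append, List.cons_append, List.map_cons,
      List.map_nil, List.prod_cons, List.prod_nil, mul_one, pow_zero, one_mul, inv_one] at hn
    refine ⟨k ^ 1 * x * (k ^ 1)⁻¹ * (k ^ 2 * x * (k ^ 2)⁻¹), W.mul_mem (hm 1) (hm 2), ?_⟩
    have e : t * (k ^ 1 * x * (k ^ 1)⁻¹ * (k ^ 2 * x * (k ^ 2)⁻¹)) * t =
        k ^ 3 * x * (k ^ 3)⁻¹ * (k ^ 4 * x * (k ^ 4)⁻¹) := by
      rw [commute_of_exp_two hW (hm 3) (hm 4), ← hswap 1 4 rfl, ← hswap 2 3 rfl]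
      calc t * (k ^ 1 * x * (k ^ 1)⁻¹ * (k ^ 2 * x * (k ^ 2)⁻¹)) * t
          = t * (k ^ 1 * x * (k ^ 1)⁻¹) * (t * t) * (k ^ 2 * x * (k ^ 2)⁻¹) * t := by rw [ht]; group
        _ = _ := by group
    rw [e]
    refine Eq.trans ?_ ((eq_inv_of_mul_eq_one_right hn).trans hxi)
    simp only [mul_assoc]

/-- the fixed points of an involution `t` on `W` -/
def fixedIn (W : Subgroup G) (t : G) : Subgroup G := W ⊓ Subgroup.centralizer {t}

theorem mem_fixedIn {W : Subgroup G} {t x : G} : x ∈ fixedIn W t ↔ x ∈ W ∧ x * t = t * x := by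
  rw [fixedIn, Subgroup.mem_inf, Subgroup.mem_centralizer_singleton_iff]

theorem Small.card_fixedIn (h : Small G) {W : Subgroup G} (hW : ∀ x ∈ W, x * x = 1) {p : ℕ}
    (hp : p.Prime) (hp2 : p ≠ 2) {k t : G} (hk : orderOf k = p) (ht : t * t = 1)
    (hkt : t * k * t = k⁻¹) (hkW : k ∈ Subgroup.normalizer (W : Set G))
    (htW : t ∈ Subgroup.normalizer (W : Set G)) :
    Nat.card (fixedIn W t) * Nat.card (fixedIn W t) = Nat.card W := by
  have hti : t⁻¹ = t := inv_eq_of_mul_eq_one_right ht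
  have hconj : ∀ y ∈ W, t * y * t ∈ W := fun y hy => by
    have := ((Subgroup.mem_normalizer_iff.1 htW) y).1 hy
    rwa [hti] at this
  let f : W →* W := MonoidHom.mk' (fun y => ⟨(y : G) * (t * y * t), W.mul_mem y.2 (hconj _ y.2)⟩)
    fun a b => Subtype.ext <| by
      show (a : G) * b * (t * (a * b) * t) = a * (t * a * t) * (b * (t * b * t))
      rw [show t * ((a : G) * b) * t = t * a * (t * t) * b * t by rw [ht]; group]
      have := commute_of_exp_two hW b.2 (hconj _ a.2)
      calc (a : G) * b * (t * a * (t * t) * b * t) = a * (b * (t * a * t)) * (t * b * t) := by group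
        _ = a * ((t * a * t) * b) * (t * b * t) := by rw [this]
        _ = _ := by group
  have hfix_iff : ∀ y : W, (y : G) ∈ fixedIn W t ↔ t * (y : G) * t = y := fun y => by
    rw [mem_fixedIn]
    constructor
    · intro hy; rw [← hy.2, mul_assoc, ht, mul_one]
    · intro hy
      refine ⟨y.2, ?_⟩
      conv_lhs => rw [← hy]
      rw [mul_assoc, ht, mul_one]
  have hker : f.ker = (fixedIn W t).subgroupOf W := by
    ext y
    rw [MonoidHom.mem_ker, Subgroup.mem_subgroupOf, hfix_iff]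
    constructor
    · intro hy
      have := congrArg Subtype.val hy
      exact (eq_inv_of_mul_eq_one_right this).trans (inv_eq_of_mul_eq_one_right (hW y y.2))
    · intro hy
      apply Subtype.ext
      show (y : G) * (t * y * t) = 1
      rw [hy, hW y y.2]
  have hrange : f.range = (fixedIn W t).subgroupOf W := by
    ext y
    rw [MonoidHom.mem_range, Subgroup.mem_subgroupOf, hfix_iff]
    constructor
    · rintro ⟨z, rfl⟩
      show t * ((z : G) * (t * z * t)) * t = z * (t * z * t)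
      calc t * ((z : G) * (t * z * t)) * t = (t * z * t) * z * (t * t) := by group
        _ = _ := by rw [ht, mul_one, commute_of_exp_two hW z.2 (hconj _ z.2)]
    · intro hy
      obtain ⟨z, hz, e⟩ := h.exists_preimage hW hp hp2 hk ht hkt hkW y.2 hy
      exact ⟨⟨z, hz⟩, Subtype.ext e⟩
  have h1 := Subgroup.card_mul_index f.ker
  have e : Nat.card ((fixedIn W t).subgroupOf W) = Nat.card (fixedIn W t) :=
    Nat.card_congr (Subgroup.subgroupOfEquivOfLe (inf_le_left : fixedIn W t ≤ W)).toEquiv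
  rw [Subgroup.index_ker, hrange, hker, e] at h1
  exact h1

/-- an element of order 4 acting faithfully on a group of order 5 forces `W` to be trivial -/
theorem Small.eq_bot_of_five_four (h : Small G) {W : Subgroup G} (hW : ∀ x ∈ W, x * x = 1) {k g : G}
    (hk : orderOf k = 5) (hg : g ^ 4 = 1) (hkg : g⁻¹ * k * g = k ^ 3)
    (hkW : k ∈ Subgroup.normalizer (W : Set G)) (hgW : g ∈ Subgroup.normalizer (W : Set G)) :
    W = ⊥ := by
  classical
  rw [Subgroup.eq_bot_iff_forall]
  intro x hx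
  have hW4 : ∀ z ∈ W, z ^ 4 = 1 := fun z hz => pow_four_of_sq (hW z hz)
  have hk5 : k ^ 5 = 1 := hk ▸ pow_orderOf_eq_one k
  have hconj : ∀ {r : G}, r ∈ Subgroup.normalizer (W : Set G) → ∀ y ∈ W, r * y * r⁻¹ ∈ W :=
    fun hr y hy => ((Subgroup.mem_normalizer_iff.1 hr) y).1 hy
  let _ : CommGroup W := { (inferInstance : Group W) with
    mul_comm := fun a b => Subtype.ext (commute_of_exp_two hW a.2 b.2) }
  let c : ℕ → ℕ → W → W := fun j i y => ⟨g ^ j * k ^ i * y * (g ^ j * k ^ i)⁻¹,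
    hconj (Subgroup.mul_mem _ (Subgroup.pow_mem _ hgW j) (Subgroup.pow_mem _ hkW i)) _ y.2⟩
  have hswap : ∀ i : ℕ, k ^ i * g = g * k ^ (3 * i) := fun i => by
    rw [pow_mul, ← hkg]
    have := conj_pow (a := g⁻¹) (b := k) (i := i)
    rw [inv_inv] at this
    rw [this]; group
  have hmod : ∀ i : ℕ, k ^ i = k ^ (i % 5) := fun i => pow_eq_pow_mod i hk5
  -- every element of the coset `g⟨k⟩` has order 4, also after multiplying by an element of `W`
  have hnorm : ∀ i : ℕ, ∀ y : W, y * c 1 i y * c 2 (4 * i % 5) y * c 3 (3 * i % 5) y = 1 := by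
    intro i y
    let r := g * k ^ i
    have hrW : r ∈ Subgroup.normalizer (W : Set G) := Subgroup.mul_mem _ hgW (Subgroup.pow_mem _ hkW i)
    have e2 : r * r = g ^ 2 * k ^ (4 * i % 5) := by
      rw [← hmod, show r * r = g * (k ^ i * g) * k ^ i by simp only [r]; group, hswap,
        show 4 * i = 3 * i + i by ring, pow_add, pow_two]
      group
    have e3 : r * r * r = g ^ 3 * k ^ (3 * i % 5) := by
      have h1 : k ^ (3 * (4 * i % 5)) * k ^ i = k ^ (3 * i % 5) := by
        rw [← pow_add, hmod (_ + _)]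
        congr 1
        omega
      rw [← h1, e2, show g ^ 2 * k ^ (4 * i % 5) * r = g ^ 2 * (k ^ (4 * i % 5) * g) * k ^ i by
        simp only [r]; group, hswap, pow_succ g 2]
      group
    have hr4 : r ^ 4 = 1 := by
      have h2 : k ^ (3 * (3 * i % 5)) * k ^ i = 1 := by
        rw [← pow_add, hmod (_ + _), show (3 * (3 * i % 5) + i) % 5 = 0 by omega, pow_zero]
      calc r ^ 4 = r * r * r * r := by rw [pow_succ, pow_succ, pow_two]
        _ = g ^ 3 * (k ^ (3 * i % 5) * g) * k ^ i := by rw [e3]; simp only [r]; group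
        _ = g ^ 4 * (k ^ (3 * (3 * i % 5)) * k ^ i) := by rw [hswap, pow_succ g 3]; group
        _ = 1 := by rw [hg, h2, one_mul]
    have hyr : ((y : G) * r) ^ 4 = 1 := by
      have hmem : ((y : G) * r) ^ 4 ∈ W := by
        rw [mul_pow_eq_prod, hr4, mul_one]
        refine W.list_prod_mem fun z hz => ?_
        obtain ⟨j, -, rfl⟩ := List.mem_map.1 hz
        exact hconj (Subgroup.pow_mem _ hrW j) _ y.2
      refine h.pow_four ⟨4, ?_⟩
      rw [show (2 : ℕ) ^ 4 = 4 * 4 from rfl, pow_mul]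
      exact hW4 _ hmem
    rw [mul_pow_eq_prod, hr4, mul_one] at hyr
    simp only [List.range_succ, List.range_zero, List.nil_append, List.cons_append, List.map_cons,
      List.map_nil, List.prod_cons, List.prod_nil, mul_one, pow_zero, one_mul, inv_one, pow_one] at hyr
    rw [pow_succ r 2, pow_two, e3, e2] at hyr
    apply Subtype.ext
    show (y : G) * (g ^ 1 * k ^ i * y * (g ^ 1 * k ^ i)⁻¹) *
      (g ^ 2 * k ^ (4 * i % 5) * y * (g ^ 2 * k ^ (4 * i % 5))⁻¹) *
      (g ^ 3 * k ^ (3 * i % 5) * y * (g ^ 3 * k ^ (3 * i % 5))⁻¹) = 1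
    rw [pow_one, mul_assoc, mul_assoc]
    exact hyr
  have hsum : ∀ (j : ℕ) (y : W), c j 0 y * c j 1 y * c j 2 y * c j 3 y * c j 4 y = 1 := by
    intro j y
    have hn := h.norm_eq_one Nat.prime_five hk (fun z hz => hconj hkW z hz) hW4 (by norm_num) y.2
    simp only [List.range_succ, List.range_zero, List.nil_append, List.cons_append, List.map_cons,
      List.map_nil, List.prod_cons, List.prod_nil, mul_one] at hn
    apply Subtype.ext
    show g ^ j * k ^ 0 * y * (g ^ j * k ^ 0)⁻¹ * (g ^ j * k ^ 1 * y * (g ^ j * k ^ 1)⁻¹) *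
      (g ^ j * k ^ 2 * y * (g ^ j * k ^ 2)⁻¹) * (g ^ j * k ^ 3 * y * (g ^ j * k ^ 3)⁻¹) *
      (g ^ j * k ^ 4 * y * (g ^ j * k ^ 4)⁻¹) = 1
    refine Eq.trans ?_ (show g ^ j * 1 * (g ^ j)⁻¹ = 1 by group)
    rw [← hn]
    group
  let y : W := ⟨x, hx⟩
  have h1 := (congrArg₂ (· * ·) (congrArg₂ (· * ·) (congrArg₂ (· * ·) (congrArg₂ (· * ·) (hnorm 0 y) (hnorm 1 y))
    (hnorm 2 y)) (hnorm 3 y)) (hnorm 4 y)).trans (show (1 : W) * 1 * 1 * 1 * 1 = 1 by simp only [mul_one])
  norm_num only at h1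
  have h5 : (y * y) * (y * y) * y * (c 1 0 y * c 1 1 y * c 1 2 y * c 1 3 y * c 1 4 y) *
      (c 2 0 y * c 2 1 y * c 2 2 y * c 2 3 y * c 2 4 y) *
      (c 3 0 y * c 3 1 y * c 3 2 y * c 3 3 y * c 3 4 y) = 1 := by
    refine Eq.trans ?_ h1
    ac_rfl
  have hy : y * y = 1 := Subtype.ext (hW x hx)
  simp only [hsum, hy, one_mul, mul_one] at h5
  exact congrArg Subtype.val h5

end Cfsg.Agent.Lib.RecogThree.OrdersFive
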