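import Cfsg.Agent.Lib.RecogThree.OrdersFive.TI
import Cfsg.Agent.Lib.Schur.SteinbergSLn
import Cfsg.Agent.S0848

/-! Simple groups with element orders at most five have order 60 or 360. -/

set_option linter.unusedSectionVars false

namespace Cfsg.Agent.Lib.RecogThree.OrdersFive

variable {G : Type*} [Group G] [Finite G]

theorem sylow_le_of_inter {D : Subgroup G} (S : Sylow 2 G)
    (hmax : ∀ g : G, g ∉ Subgroup.normalizer ((S : Subgroup G) : Set G) →
      Nat.card ↥((S : Subgroup G) ⊓ cjg g (S : Subgroup G)) ≤ Nat.card D)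
    {K P : Subgroup G} (hK : IsPGroup 2 K) (hP : IsPGroup 2 P) (hn : P ≤ Subgroup.normalizer (K : Set G))
    (a : G) (hPa : P ≤ cjg a (S : Subgroup G)) (hlt : Nat.card D < Nat.card P) :
    K ≤ cjg a (S : Subgroup G) := by
  have := Fact.mk Nat.prime_two
  have hsup : IsPGroup 2 ↥(K ⊔ P) := by
    have := IsPGroup.to_sup_of_normal_right' hP hK hn
    rwa [sup_comm]
  obtain ⟨S', hS'⟩ := hsup.exists_le_sylow
  obtain ⟨b, hb⟩ := MulAction.exists_smul_eq G S S'
  have hb' : (S' : Subgroup G) = cjg b (S : Subgroup G) := by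
    rw [← hb, Sylow.coe_subgroup_smul]; rfl
  rw [hb'] at hS'
  by_cases hab : a⁻¹ * b ∈ Subgroup.normalizer ((S : Subgroup G) : Set G)
  · have := cjg_eq_of_mem hab
    rw [← cjg_cjg] at this
    have h2 := congrArg (cjg a) this
    rw [cjg_cjg a a⁻¹, mul_inv_cancel, cjg_one] at h2
    exact h2 ▸ le_sup_left.trans hS'
  · exfalso
    have h1 : cjg a⁻¹ P ≤ (S : Subgroup G) ⊓ cjg (a⁻¹ * b) (S : Subgroup G) := by
      refine le_inf ?_ ?_
      · have := cjg_mono a⁻¹ hPa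
        rwa [cjg_cjg, inv_mul_cancel, cjg_one] at this
      · rw [← cjg_cjg]; exact cjg_mono a⁻¹ (le_sup_right.trans hS')
    have := (Subgroup.card_le_of_le h1).trans (hmax _ hab)
    rw [card_cjg] at this
    omega

theorem exists_core (S : Sylow 2 G) {g₀ : G} (hg₀ : g₀ ∉ Subgroup.normalizer ((S : Subgroup G) : Set G))
    (hmax : ∀ g : G, g ∉ Subgroup.normalizer ((S : Subgroup G) : Set G) →
      Nat.card ↥((S : Subgroup G) ⊓ cjg g (S : Subgroup G)) ≤
        Nat.card ↥((S : Subgroup G) ⊓ cjg g₀ (S : Subgroup G)))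
    (hs : Small G) {D : Subgroup G} (hD : D = (S : Subgroup G) ⊓ cjg g₀ (S : Subgroup G)) :
    (∀ K : Subgroup G, IsPGroup 2 K → K ≤ Subgroup.normalizer (D : Set G) →
      Subgroup.normalizer (D : Set G) ≤ Subgroup.normalizer (K : Set G) → K ≤ D) ∧
    ∃ g ∈ Subgroup.normalizer (D : Set G), g ∉ D ∧ g ^ 4 = 1 := by
  have hne : ∀ a : G, D ≤ cjg a (S : Subgroup G) → Nat.card D = Nat.card (cjg a (S : Subgroup G)) → False := by
    intro a ha he
    rw [card_cjg] at he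
    have h1 : D = (S : Subgroup G) :=
      Subgroup.eq_of_le_of_card_ge (hD ▸ inf_le_left) he.ge
    refine hg₀ (mem_normalizer_of_cjg ?_)
    refine (Subgroup.eq_of_le_of_card_ge ?_ (card_cjg _ _).le).symm
    conv_lhs => rw [← h1, hD]
    exact inf_le_right
  have hgrow : ∀ a : G, D ≤ cjg a (S : Subgroup G) →
      ∃ y ∈ cjg a (S : Subgroup G), y ∈ Subgroup.normalizer (D : Set G) ∧ y ∉ D := by
    intro a ha
    obtain ⟨y, hy, hyN, hyD, -⟩ := exists_normalizing (isPGroup_cjg a S.isPGroup') ha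
      fun e => hne a ha (by rw [e])
    exact ⟨y, hy, hyN, hyD⟩
  refine ⟨fun K hK hKN hNK => ?_, ?_⟩
  · have key : ∀ a : G, D ≤ cjg a (S : Subgroup G) → K ≤ cjg a (S : Subgroup G) := by
      intro a ha
      obtain ⟨y, hy, hyN, hyD⟩ := hgrow a ha
      refine sylow_le_of_inter S (D := D) (fun g hg => hD ▸ hmax g hg) hK
        ((isPGroup_cjg a S.isPGroup').to_le inf_le_left) (inf_le_right.trans hNK) a
        (inf_le_left : cjg a (S : Subgroup G) ⊓ Subgroup.normalizer (D : Set G) ≤ _) ?_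
      exact Nat.lt_of_le_of_ne (Subgroup.card_le_of_le (le_inf ha Subgroup.le_normalizer)) fun e =>
        hyD (Subgroup.eq_of_le_of_card_ge (le_inf ha Subgroup.le_normalizer) e.ge ▸ ⟨hy, hyN⟩)
    have h1 := key 1 (by rw [cjg_one, hD]; exact inf_le_left)
    rw [cjg_one] at h1
    have h2 := key g₀ (hD ▸ inf_le_right)
    rw [hD]
    exact le_inf h1 h2
  · obtain ⟨y, hy, hyN, hyD⟩ := hgrow 1 (by rw [cjg_one, hD]; exact inf_le_left)
    exact ⟨y, hyN, hyD, hs.pow_four_of_mem (isPGroup_cjg 1 S.isPGroup') hy⟩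

/-- case `|Z| = 2`: the centraliser of an involution is dihedral of order 8 -/
theorem Free.dihedral {W R Z : Subgroup G} (h : Free W R Z) (hs : Small G) {t : G} (htR : t ∈ R)
    (htW : t ∉ W) (htt : t * t = 1) (hZ : Nat.card Z = 2) (hR : Nat.card R = 8) :
    ∃ z : G, orderOf z = 2 ∧
      Nonempty (↥(Subgroup.centralizer ({z} : Set G)) ≃* DihedralGroup 4) := by
  obtain ⟨⟨z, hz⟩, hz1⟩ := Subgroup.ne_bot_iff_exists_ne_one.1
    ((Subgroup.one_lt_card_iff_ne_bot Z).1 (by omega))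
  have hz1' : z ≠ 1 := fun e => hz1 (Subtype.ext e)
  have hW : Nat.card W = 4 := by rw [← h.sq, hZ]
  obtain ⟨w, hw, hwZ⟩ : ∃ w ∈ W, w ∉ Z := by
    by_contra hcon
    push Not at hcon
    have := Subgroup.card_le_of_le (hcon : W ≤ Z)
    omega
  have hwt : w * t ≠ t * w := fun e => hwZ (by
    rw [← h.fix t htR htW]; exact mem_fixedIn.2 ⟨hw, e⟩)
  have ht2 : orderOf t = 2 := orderOf_eq_prime (by rw [pow_two, htt]) fun e => htW (e ▸ W.one_mem)
  have hw2 : orderOf w = 2 :=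
    orderOf_eq_prime (by rw [pow_two]; exact h.exp w hw) fun e => hwt (by rw [e, one_mul, mul_one])
  have h4 : orderOf (t * w) = 4 := by
    have hd : orderOf (t * w) ∣ 4 :=
      orderOf_dvd_of_pow_eq_one (hs.pow_four_of_mem h.pgroup (R.mul_mem htR (h.le hw)))
    rcases (Nat.dvd_prime_pow Nat.prime_two (m := 2)).1 hd with ⟨i, hi, e⟩
    have hi2 : i = 2 := by
      by_contra hne
      have h2 : (t * w) ^ 2 = 1 := orderOf_dvd_iff_pow_eq_one.1
        (e ▸ (Nat.pow_dvd_pow 2 (show i ≤ 1 by omega) : 2 ^ i ∣ 2 ^ 1))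
      rw [pow_two] at h2
      have e2 := eq_inv_of_mul_eq_one_left h2
      rw [mul_inv_rev, Lib.Involutions.Basic.invol_inv hw2, Lib.Involutions.Basic.invol_inv ht2] at e2
      exact hwt e2.symm
    rw [e, hi2]; rfl
  have hle : Subgroup.closure ({t, w} : Set G) = R := by
    refine Subgroup.eq_of_le_of_card_ge ((Subgroup.closure_le _).2 fun x hx => ?_) ?_
    · rcases hx with rfl | rfl
      · exact htR
      · exact h.le hw
    · rw [Lib.Involutions.Basic.card_closure_pair ht2 hw2, h4, hR]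
  refine ⟨z, orderOf_eq_prime (by rw [pow_two]; exact h.exp z (h.Z_le hz)) hz1', ?_⟩
  have e := Lib.Involutions.Basic.closurePairEquiv ht2 hw2
  rw [h4] at e
  exact ⟨(MulEquiv.subgroupCongr ((h.centralizer_eq hs hz hz1').trans hle.symm)).trans e⟩

section SLThree

open Lib.Schur.SteinbergSLn

theorem zmod_two : ∀ v : ZMod 2, v = 0 ∨ v = 1 := by decide

/-- an element of order 7 of `SL(3,2)` -/
def mSeven : Matrix.SpecialLinearGroup (Fin 3) (ZMod 2) :=
  ⟨!![0, 0, 1; 1, 0, 1; 0, 1, 0], by decide⟩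

/-- auxiliary element -/
def gConj : Matrix.SpecialLinearGroup (Fin 3) (ZMod 2) :=
  ⟨!![0, 0, 1; 0, 1, 0; 1, 1, 1], by decide⟩

/-- auxiliary element -/
def hConj : Matrix.SpecialLinearGroup (Fin 3) (ZMod 2) :=
  ⟨!![0, 0, 1; 0, 1, 1; 1, 1, 0], by decide⟩

theorem mSeven_pow : mSeven ^ 7 = 1 := by decide +kernel

theorem transvection_eq : gConj * mSeven * gConj⁻¹ * (hConj * mSeven * hConj⁻¹) =
    Matrix.SpecialLinearGroup.transvection (show (0 : Fin 3) ≠ 2 by decide) (1 : ZMod 2) := by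
  decide +kernel

/-- the six root elements -/
def root (z s₁ s₂ : G) (i j : Fin 3) : G :=
  match i.1, j.1 with
  | 0, 2 => z
  | 0, 1 => s₁ * z * s₁
  | 1, 2 => s₂ * z * s₂
  | 1, 0 => s₂ * (s₁ * z * s₁) * s₂
  | 2, 1 => s₁ * (s₂ * z * s₂) * s₁
  | 2, 0 => s₂ * (s₁ * (s₂ * z * s₂) * s₁) * s₂
  | _, _ => 1

theorem conj_mul {s : G} (hs : s * s = 1) (a b : G) : s * (a * b) * s = s * a * s * (s * b * s) :=
  calc s * (a * b) * s = s * a * (s * s) * b * s := by rw [hs, mul_one, mul_assoc s a b]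
    _ = _ := by group

theorem conj_conj {s : G} (hs : s * s = 1) (a : G) : s * (s * a * s) * s = a :=
  calc s * (s * a * s) * s = (s * s) * a * (s * s) := by group
    _ = a := by rw [hs, one_mul, mul_one]

/-- Steinberg's relations produce an element of order 7 -/
theorem Small.no_SL_three (h : Small G) {z s₁ s₂ : G} (hz : z * z = 1) (hz1 : z ≠ 1)
    (h1 : s₁ * s₁ = 1) (h2 : s₂ * s₂ = 1) (h12 : (s₁ * s₂) ^ 3 = 1)
    (hc1 : z * (s₁ * z * s₁) = s₁ * z * s₁ * z) (hc2 : z * (s₂ * z * s₂) = s₂ * z * s₂ * z)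
    (hch : s₁ * z * s₁ * (s₂ * z * s₂) = z * (s₂ * z * s₂) * (s₁ * z * s₁)) : False := by
  set r := root z s₁ s₂ with hr
  have i1 : s₁⁻¹ = s₁ := inv_eq_of_mul_eq_one_right h1
  have i2 : s₂⁻¹ = s₂ := inv_eq_of_mul_eq_one_right h2
  have braid : s₁ * s₂ * s₁ = s₂ * s₁ * s₂ := by
    rw [pow_succ, pow_two] at h12
    calc s₁ * s₂ * s₁ = (s₁ * s₂ * (s₁ * s₂) * (s₁ * s₂)) * (s₂⁻¹ * s₁⁻¹ * s₂⁻¹) := by group
      _ = _ := by rw [h12, one_mul, i1, i2]
  -- the action of the two involutions on the roots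
  have e02 : r 0 2 = z := rfl
  have a02 : s₁ * r 0 2 * s₁ = r 0 1 := rfl
  have a01 : s₁ * r 0 1 * s₁ = r 0 2 := conj_conj h1 z
  have a12 : s₁ * r 1 2 * s₁ = r 2 1 := rfl
  have a21 : s₁ * r 2 1 * s₁ = r 1 2 := conj_conj h1 _
  have b02 : s₂ * r 0 2 * s₂ = r 1 2 := rfl
  have b12 : s₂ * r 1 2 * s₂ = r 0 2 := conj_conj h2 z
  have b01 : s₂ * r 0 1 * s₂ = r 1 0 := rfl
  have b10 : s₂ * r 1 0 * s₂ = r 0 1 := conj_conj h2 _
  have b21 : s₂ * r 2 1 * s₂ = r 2 0 := rfl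
  have b20 : s₂ * r 2 0 * s₂ = r 2 1 := conj_conj h2 _
  have a10 : s₁ * r 1 0 * s₁ = r 2 0 := by
    show s₁ * (s₂ * (s₁ * z * s₁) * s₂) * s₁ = s₂ * (s₁ * (s₂ * z * s₂) * s₁) * s₂
    calc s₁ * (s₂ * (s₁ * z * s₁) * s₂) * s₁ = (s₁ * s₂ * s₁) * z * (s₁ * s₂ * s₁) := by group
      _ = (s₂ * s₁ * s₂) * z * (s₂ * s₁ * s₂) := by rw [braid]
      _ = _ := by group
  have a20 : s₁ * r 2 0 * s₁ = r 1 0 := by rw [← a10, conj_conj h1]
  have cs : ∀ {s : G}, s * s = 1 → ∀ {a b : G}, a * b = b * a →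
      s * a * s * (s * b * s) = s * b * s * (s * a * s) := fun {_} hs {a b} e => by
    rw [← conj_mul hs, ← conj_mul hs, e]
  have chs : ∀ {s : G}, s * s = 1 → ∀ {a b c : G}, a * b = c * b * a →
      s * a * s * (s * b * s) = s * c * s * (s * b * s) * (s * a * s) := fun {_} hs {a b c} e => by
    rw [← conj_mul hs, ← conj_mul hs, ← conj_mul hs, e]
  -- commuting roots
  have R0 : r 0 2 * r 0 1 = r 0 1 * r 0 2 := hc1
  have C2 : r 0 2 * r 1 2 = r 1 2 * r 0 2 := hc2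
  have R1 : r 1 2 * r 1 0 = r 1 0 * r 1 2 := by simpa only [b02, b01] using cs h2 R0
  have R2 : r 2 1 * r 2 0 = r 2 0 * r 2 1 := by simpa only [a12, a10] using cs h1 R1
  have C1 : r 0 1 * r 2 1 = r 2 1 * r 0 1 := by simpa only [a02, a12] using cs h1 C2
  have C0 : r 1 0 * r 2 0 = r 2 0 * r 1 0 := by simpa only [b01, b21] using cs h2 C1
  have H012 : r 0 1 * r 1 2 = r 0 2 * r 1 2 * r 0 1 := hch
  have H102 : r 1 0 * r 0 2 = r 1 2 * r 0 2 * r 1 0 := by
    simpa only [b01, b12, b02] using chs h2 H012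
  have H021 : r 0 2 * r 2 1 = r 0 1 * r 2 1 * r 0 2 := by
    simpa only [a01, a12, a02] using chs h1 H012
  have H201 : r 2 0 * r 0 1 = r 2 1 * r 0 1 * r 2 0 := by
    simpa only [a10, a02, a12] using chs h1 H102
  have H120 : r 1 2 * r 2 0 = r 1 0 * r 2 0 * r 1 2 := by
    simpa only [b02, b21, b01] using chs h2 H021
  have H210 : r 2 1 * r 1 0 = r 2 0 * r 1 0 * r 2 1 := by
    simpa only [b20, b01, b21] using chs h2 H201
  have hsq : ∀ i j, r i j * r i j = 1 := by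
    have hs1 : ∀ {s : G}, s * s = 1 → ∀ {a : G}, a * a = 1 → s * a * s * (s * a * s) = 1 :=
      fun {_} hs {a} e => by rw [← conj_mul hs, e, mul_one, hs]
    intro i j
    fin_cases i <;> fin_cases j
    · exact mul_one 1
    · exact hs1 h1 hz
    · exact hz
    · exact hs1 h2 (hs1 h1 hz)
    · exact mul_one 1
    · exact hs1 h2 hz
    · exact hs1 h2 (hs1 h1 (hs1 h2 hz))
    · exact hs1 h1 (hs1 h2 hz)
    · exact mul_one 1
  let X : Fin 3 → Fin 3 → ZMod 2 → G := fun i j t => if t = 1 then r i j else 1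
  have hR : IsSLnRel X := by
    constructor
    · intro i j _ t u
      rcases zmod_two t with rfl | rfl <;> rcases zmod_two u with rfl | rfl <;>
        simp only [X, add_zero, zero_add, zero_ne_one, if_false, if_true, one_mul, mul_one,
          show (1 : ZMod 2) + 1 = 0 by decide, hsq i j]
    · intro i j k l hij hkl hil hjk t u
      simp only [X]
      split_ifs
      · fin_cases i <;> fin_cases j <;> first
          | exact absurd rfl hij
          | (fin_cases k <;> fin_cases l <;> first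
              | exact absurd rfl hkl
              | exact absurd rfl hil
              | exact absurd rfl hjk
              | rfl
              | exact R0 | exact R0.symm | exact R1 | exact R1.symm | exact R2 | exact R2.symm
              | exact C0 | exact C0.symm | exact C1 | exact C1.symm | exact C2 | exact C2.symm)
      all_goals simp only [one_mul, mul_one]
    · intro i j l hij hjl hil t u
      simp only [X]
      rcases zmod_two t with rfl | rfl <;> rcases zmod_two u with rfl | rfl <;>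
        simp only [mul_zero, mul_one, zero_ne_one, if_false, if_true, one_mul]
      fin_cases i <;> fin_cases j <;> first
        | exact absurd rfl hij
        | (fin_cases l <;> first
            | exact absurd rfl hjl
            | exact absurd rfl hil
            | exact H012 | exact H102 | exact H021 | exact H201 | exact H120 | exact H210)
  obtain ⟨e, he⟩ := exists_presentation (F := ZMod 2) 3 le_rfl
  let ψ : Matrix.SpecialLinearGroup (Fin 3) (ZMod 2) →* G :=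
    (PresentedGroup.toGroup (rels_eval hR)).comp e.symm.toMonoidHom
  have hψ : ψ (Matrix.SpecialLinearGroup.transvection (show (0 : Fin 3) ≠ 2 by decide) (1 : ZMod 2)) = z := by
    show PresentedGroup.toGroup (rels_eval hR) (e.symm _) = z
    rw [← he ⟨(0, 2), by decide⟩ 1, MulEquiv.symm_apply_apply, PresentedGroup.toGroup.of]
    show X 0 2 1 = z
    simp only [X, if_true]
    rfl
  have h7 : ψ mSeven = 1 := by
    have hd : orderOf (ψ mSeven) ∣ 7 :=
      orderOf_dvd_of_pow_eq_one (by rw [← map_pow, mSeven_pow, map_one])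
    rcases (Nat.dvd_prime (by norm_num : Nat.Prime 7)).1 hd with e | e
    · exact orderOf_eq_one_iff.1 e
    · have := h (ψ mSeven); omega
  refine hz1 ?_
  rw [← hψ, ← transvection_eq]
  simp [h7]

end SLThree

/-- A non-solvable simple group with element orders at most five -/
theorem Small.simple_cases (hs : Small G) [IsSimpleGroup G] (hns : ¬ Group.IsSolvable G)
    (hIH : ∀ H : Subgroup G, H ≠ ⊤ → ¬ Group.IsSolvable H → Concl H) :
    Nat.card G = 60 ∨ (Nat.card G = 360 ∧ ∃ z : G, orderOf z = 2 ∧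
      Nonempty (↥(Subgroup.centralizer ({z} : Set G)) ≃* DihedralGroup 4)) := by
  classical
  have := Fact.mk Nat.prime_two
  have := Fintype.ofFinite G
  obtain ⟨S⟩ : Nonempty (Sylow 2 G) := inferInstance
  set T : Subgroup G := (S : Subgroup G) with hTdef
  by_cases hTI : ∀ g : G, g ∉ Subgroup.normalizer (T : Set G) → ∀ x ∈ T, g⁻¹ * x * g ∈ T → x = 1
  · exact Or.inl (hs.card_of_TI hns S hTI)
  push Not at hTI
  obtain ⟨g₁, hg₁, x₁, hx₁, hx₁g, hx₁1⟩ := hTI
  right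
  obtain ⟨g₀, hg₀, hmax⟩ := Finset.exists_max_image
    (Finset.univ.filter fun g : G => g ∉ Subgroup.normalizer (T : Set G))
    (fun g => Nat.card ↥(T ⊓ cjg g T)) ⟨g₁, Finset.mem_filter.2 ⟨Finset.mem_univ _, hg₁⟩⟩
  have hg₀' := (Finset.mem_filter.1 hg₀).2
  have hmax' : ∀ g : G, g ∉ Subgroup.normalizer (T : Set G) →
      Nat.card ↥(T ⊓ cjg g T) ≤ Nat.card ↥(T ⊓ cjg g₀ T) :=
    fun g hg => hmax g (Finset.mem_filter.2 ⟨Finset.mem_univ _, hg⟩)
  set D := T ⊓ cjg g₀ T with hDdef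
  have hDne : D ≠ ⊥ := by
    intro e
    have := hmax' g₁ hg₁
    rw [e, Subgroup.card_bot] at this
    refine hx₁1 (Subgroup.mem_bot.1 ?_)
    rw [← Subgroup.card_eq_one.1 (le_antisymm this Nat.card_pos)]
    exact ⟨hx₁, mem_cjg.2 hx₁g⟩
  have hDp : IsPGroup 2 D := S.isPGroup'.to_le inf_le_left
  have hDproper : ∀ X : Subgroup G, X ≠ ⊥ → IsPGroup 2 X → Subgroup.normalizer (X : Set G) ≠ ⊤ := by
    intro X hX hXp e
    rcases (Subgroup.normalizer_eq_top_iff.1 e).eq_bot_or_eq_top with e' | e'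
    · exact hX e'
    · have : IsPGroup 2 G := hXp.of_equiv ((MulEquiv.subgroupCongr e').trans Subgroup.topEquiv)
      have : Group.IsNilpotent G := this.isNilpotent
      exact hns inferInstance
  obtain ⟨hcore, hex⟩ := exists_core S hg₀' hmax' hs hDdef
  obtain ⟨R, Z, hF, hinvo, hcard⟩ :=
    exists_free hs hDp hDne hcore hex (hIH _ (hDproper D hDne hDp))
  obtain ⟨t, htR, htD, htt, g, hg⟩ := hF.fused hs hinvo
  obtain ⟨hR, A, T', hAR, hAT, hA, hAW, hAcard, hWA, hRA, hT'A, hT', hT'card, hRT⟩ :=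
    hF.fusion_data hs htR htD htt hg
  have hZpos := hF.one_lt_card_Z
  have hc : Nat.card Z = 2 ∧ Nat.card R = 2 * Nat.card D ∨
      Nat.card Z = 4 ∧ (Nat.card R = 4 * Nat.card D ∧ ∃ k ∈ Subgroup.normalizer (D : Set G),
        orderOf k = 3 ∧ k ∈ Subgroup.normalizer (R : Set G) ∧
        ∀ x ∈ Subgroup.normalizer (D : Set G), orderOf x = 3 →
          ∃ s ∈ Subgroup.normalizer (D : Set G), s * s = 1 ∧ s * x * s = x⁻¹) := by
    rcases hcard with e | e
    · exact Or.inl ⟨Nat.eq_of_mul_eq_mul_right Nat.card_pos (hR.symm.trans e), e⟩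
    · exact Or.inr ⟨Nat.eq_of_mul_eq_mul_right Nat.card_pos (hR.symm.trans e.1), e⟩
  rcases hc with ⟨hZ2, hR2⟩ | ⟨hZ4, hR4, k, hkN, hk3, hkR, hinvW⟩
  · have h8 : Nat.card R = 8 := by rw [hR, ← hF.sq, hZ2]
    obtain ⟨z, hz, ⟨e⟩⟩ := hF.dihedral hs htR htD htt hZ2 h8
    refine ⟨?_, z, hz, ⟨e⟩⟩
    have hperf : commutator G = ⊤ := by
      rcases (commutator_def G ▸ inferInstance : (commutator G).Normal).eq_bot_or_eq_top with e' | e'
      · exfalso
        refine hns ((Group.isSolvable_def G).2 ⟨1, ?_⟩)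
        rw [derivedSeries_one]; exact e'
      · exact e'
    rcases S0848.result hperf z hz e with e' | e'
    · exfalso
      have := Fact.mk (by norm_num : Nat.Prime 7)
      obtain ⟨x, hx⟩ := exists_prime_orderOf_dvd_card' (G := G) 7 (by rw [e']; norm_num)
      have := hs x
      omega
    · exact e'
  exfalso
  -- the second elementary subgroup
  have hDcard : Nat.card D = 16 := by rw [← hF.sq, hZ4]
  have hR64 : Nat.card R = 64 := by rw [hR4, hDcard]
  have hT'ne : T' ≠ R := by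
    intro e
    rw [e, inf_idem] at hRT
    rw [hRT] at hR64
    rw [hAcard, hDcard] at hR64
    norm_num at hR64
  have hAne : A ≠ ⊥ := fun e => by rw [e, Subgroup.card_bot, hDcard] at hAcard; norm_num at hAcard
  have hAp : IsPGroup 2 A := isPGroup_of_sq hA
  obtain ⟨SR, hSR⟩ := hF.pgroup.exists_le_sylow
  have hSRe : (SR : Subgroup G) = R := hF.eq_of_le hs SR.isPGroup' hSR
  have hcoreA : ∀ K : Subgroup G, IsPGroup 2 K → K ≤ Subgroup.normalizer (A : Set G) →
      Subgroup.normalizer (A : Set G) ≤ Subgroup.normalizer (K : Set G) → K ≤ A := by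
    intro K hK _ hNK
    have key : ∀ P : Subgroup G, IsPGroup 2 P → P ≤ Subgroup.normalizer (A : Set G) →
        Nat.card P = Nat.card R → K ≤ P := by
      intro P hP hPn hPc
      have hsup : IsPGroup 2 ↥(K ⊔ P) := by
        have := IsPGroup.to_sup_of_normal_right' hP hK (hPn.trans hNK)
        rwa [sup_comm]
      obtain ⟨g', hg'⟩ := hF.exists_cjg hs hsup
      have := Subgroup.card_le_of_le hg'
      rw [card_cjg, ← hPc] at this
      rw [Subgroup.eq_of_le_of_card_ge (le_sup_right : P ≤ K ⊔ P) this]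
      exact le_sup_left
    rw [← hRT]
    exact le_inf (key R hF.pgroup hRA rfl) (key T' hT' hT'A hT'card)
  have hexA : ∃ g ∈ Subgroup.normalizer (A : Set G), g ∉ A ∧ g ^ 4 = 1 := by
    obtain ⟨y, hy, hyA⟩ : ∃ y ∈ R, y ∉ A := by
      by_contra hcon
      push Not at hcon
      have := Subgroup.card_le_of_le (hcon : R ≤ A)
      rw [hAcard, hDcard, hR64] at this
      norm_num at this
    exact ⟨y, hRA hy, hyA, hs.pow_four_of_mem hF.pgroup hy⟩
  obtain ⟨R', Z', hF', -, hcard'⟩ :=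
    exists_free hs hAp hAne hcoreA hexA (hIH _ (hDproper A hAne hAp))
  have hinvA : ∀ x ∈ Subgroup.normalizer (A : Set G), orderOf x = 3 →
      ∃ s ∈ Subgroup.normalizer (A : Set G), s * s = 1 ∧ s * x * s = x⁻¹ := by
    rcases hcard' with e | ⟨-, _, -, -, -, e⟩
    · exfalso
      obtain ⟨n, -, hn⟩ := hF'.sylow R hF.pgroup hRA hAR
      have := Subgroup.card_le_of_le hn
      rw [card_cjg, e, hR64, hAcard, hDcard] at this
      norm_num at this
    · exact e
  -- `k` normalises `A`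
  have hAneD : A ≠ D := fun e => by
    rw [e, inf_idem] at hAW
    rw [hAW, hZ4] at hDcard
    norm_num at hDcard
  obtain ⟨-, -, -, -, hinv⟩ := hF.pair hF.pgroup hF.norm hF.le hAR hA hAneD hAcard
  have hkA : k ∈ Subgroup.normalizer (A : Set G) := by
    refine mem_normalizer_of_cjg ?_
    have htwo : ∀ x ∈ cjg k A, x ∈ D ∨ x ∈ A := by
      intro x hx
      have hxx : x * x = 1 := by
        obtain ⟨a, ha, rfl⟩ := hx
        rw [← map_mul, hA a ha, map_one]
      have hxR : x ∈ R := by rw [← cjg_eq_of_mem hkR]; exact cjg_mono k hAR hx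
      have hx' : x ∈ ((D ⊔ A : Subgroup G) : Set G) := by rw [hWA]; exact hxR
      rw [Subgroup.coe_mul_of_right_le_normalizer_left D A (hAR.trans hF.norm)] at hx'
      obtain ⟨a, ha, b, hb, rfl⟩ := Set.mem_mul.1 hx'
      rcases hinv a ha b hb hxx with hh | hh
      · exact Or.inr (A.mul_mem hh hb)
      · exact Or.inl (D.mul_mem ha hh)
    rcases eq_of_subset_union htwo with e | e
    · exfalso
      refine hAneD ?_
      have h1 := cjg_mono k⁻¹ e
      rw [cjg_cjg, inv_mul_cancel, cjg_one, cjg_eq_of_mem (Subgroup.inv_mem _ hkN)] at h1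
      exact Subgroup.eq_of_le_of_card_ge h1 hAcard.ge
    · exact Subgroup.eq_of_le_of_card_ge e (card_cjg _ _).ge
  obtain ⟨s₁, hs₁, hs₁s, hs₁k⟩ := hinvW k hkN hk3
  obtain ⟨s₂, hs₂, hs₂s, hs₂k⟩ := hinvA k hkA hk3
  have i1 : s₁⁻¹ = s₁ := inv_eq_of_mul_eq_one_right hs₁s
  have i2 : s₂⁻¹ = s₂ := inv_eq_of_mul_eq_one_right hs₂s
  have hk3' : k ^ 3 = 1 := hk3 ▸ pow_orderOf_eq_one k
  -- `s₁ s₂` has order dividing three
  have hr3 : (s₁ * s₂) ^ 3 = 1 := by
    have hc : Commute (s₁ * s₂) k := by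
      show s₁ * s₂ * k = k * (s₁ * s₂)
      calc s₁ * s₂ * k = s₁ * (s₂ * k * s₂⁻¹) * s₁⁻¹ * (s₁ * s₂) := by group
        _ = _ := by rw [i2, hs₂k, ← conj_inv, i1, hs₁k, inv_inv]
    obtain ⟨n, hn⟩ := IsPGroup.iff_orderOf.1
      (hs.isPGroup_centralizer Nat.prime_three (x := k) (hk3 ▸ dvd_rfl))
      ⟨_, Subgroup.mem_centralizer_singleton_iff.2 hc.eq⟩
    rw [Subgroup.orderOf_mk] at hn
    have h5 := hs (s₁ * s₂)
    rw [hn] at h5
    rcases n with _ | _ | n
    · rw [pow_zero, orderOf_eq_one_iff] at hn; rw [hn, one_pow]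
    · rw [pow_one] at hn; rw [← hn]; exact pow_orderOf_eq_one _
    · have : 3 ^ 2 ≤ 3 ^ (n + 1 + 1) := Nat.pow_le_pow_right (by norm_num) (by omega)
      omega
  -- facts on `Z`
  have hkZ : ∀ z ∈ Z, k * z * k⁻¹ ∈ Z := by
    intro z hz
    rw [← hAW] at hz ⊢
    exact ⟨((Subgroup.mem_normalizer_iff.1 hkA) z).1 hz.1, ((Subgroup.mem_normalizer_iff.1 hkN) z).1 hz.2⟩
  have hnotR : ∀ {s : G}, s * s = 1 → s * k * s = k⁻¹ → ∀ z ∈ Z, z ≠ 1 → s * z * s ∉ Z := by
    intro s hss hsk z hz hz1 hmem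
    have hsi : s⁻¹ = s := inv_eq_of_mul_eq_one_right hss
    have hsR : s ∈ R := hF.mem_of_normalizing hs
      (hF.normalizes_of_mem_Z hs hz hz1 (by rwa [hsi])) (pow_four_of_sq hss)
    -- then `k⁻² = [s, k] ∈ R`
    have h1 : k * s * k⁻¹ ∈ R := ((Subgroup.mem_normalizer_iff.1 hkR) s).1 hsR
    have h2 : k⁻¹ * k⁻¹ ∈ R := by
      have := R.mul_mem hsR h1
      rwa [show s * (k * s * k⁻¹) = s * k * s * k⁻¹ by group, hsk] at this
    rw [show k⁻¹ * k⁻¹ = k by
      rw [← mul_inv_rev]; exact inv_eq_of_mul_eq_one_left (by rw [← pow_two, ← pow_succ', hk3'])] at h2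
    have := orderOf_dvd_of_pow_eq_one (hs.pow_four_of_mem hF.pgroup h2)
    rw [hk3] at this
    norm_num at this
  have hmemD : ∀ {z}, z ∈ Z → s₁ * z * s₁ ∈ D := fun hz => by
    have := ((Subgroup.mem_normalizer_iff.1 hs₁) _).1 (hF.Z_le hz)
    rwa [i1] at this
  have hZA : Z ≤ A := hAW ▸ inf_le_left
  have hmemA : ∀ {z}, z ∈ Z → s₂ * z * s₂ ∈ A := fun hz => by
    have := ((Subgroup.mem_normalizer_iff.1 hs₂) _).1 (hZA hz)
    rwa [i2] at this
  let f : G → G := fun z => s₁ * z * s₁ * (s₂ * z * s₂) * (s₁ * z * s₁) * (s₂ * z * s₂)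
  have hf : ∀ z ∈ Z, z ≠ 1 → f z ∈ Z ∧ f z ≠ 1 := by
    intro z hz hz1
    have hd := hmemD hz
    have ha := hmemA hz
    have hdi : (s₁ * z * s₁)⁻¹ = s₁ * z * s₁ := inv_eq_of_mul_eq_one_right (hF.exp _ hd)
    have hai : (s₂ * z * s₂)⁻¹ = s₂ * z * s₂ := inv_eq_of_mul_eq_one_right (hA _ ha)
    refine ⟨?_, fun e => ?_⟩
    · rw [← hAW]
      refine ⟨?_, ?_⟩
      · have h1 := ((Subgroup.mem_normalizer_iff.1 (hRA (hF.le hd))) _).1 ha
        rw [hdi] at h1
        exact A.mul_mem h1 ha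
      · have h1 := ((Subgroup.mem_normalizer_iff.1 (hF.norm (hAR ha))) _).1 hd
        rw [hai] at h1
        have := D.mul_mem hd h1
        simpa [f, mul_assoc] using this
    · have hc : s₁ * z * s₁ * (s₂ * z * s₂) = s₂ * z * s₂ * (s₁ * z * s₁) := by
        have := eq_inv_of_mul_eq_one_left (show s₁ * z * s₁ * (s₂ * z * s₂) *
          (s₁ * z * s₁ * (s₂ * z * s₂)) = 1 by simpa [f, mul_assoc] using e)
        rwa [mul_inv_rev, hdi, hai] at this
      have haD : s₂ * z * s₂ ∉ D := fun hh => hnotR hs₂s hs₂k z hz hz1 (hAW ▸ ⟨ha, hh⟩)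
      refine hnotR hs₁s hs₁k z hz hz1 ?_
      rw [← hF.fix _ (hAR ha) haD]
      exact mem_fixedIn.2 ⟨hd, hc⟩
  obtain ⟨⟨z₀, hz₀⟩, hz₀1'⟩ := Subgroup.ne_bot_iff_exists_ne_one.1
    ((Subgroup.one_lt_card_iff_ne_bot Z).1 hZpos)
  have hz₀1 : z₀ ≠ 1 := fun e => hz₀1' (Subtype.ext e)
  set z₁ := k * z₀ * k⁻¹ with hz₁def
  set z₂ := k * z₁ * k⁻¹ with hz₂def
  have hz₁ : z₁ ∈ Z := hkZ _ hz₀
  have hz₂ : z₂ ∈ Z := hkZ _ hz₁
  have hz₁1 : z₁ ≠ 1 := fun e => hz₀1 (conj_eq_one_iff.1 e)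
  have hz₂1 : z₂ ≠ 1 := fun e => hz₁1 (conj_eq_one_iff.1 e)
  have hperiod : k * z₂ * k⁻¹ = z₀ := by
    calc k * z₂ * k⁻¹ = k ^ 3 * z₀ * (k ^ 3)⁻¹ := by
          simp only [hz₂def, hz₁def, pow_succ, pow_zero, one_mul]; group
      _ = z₀ := by rw [hk3']; group
  have hfix : ∀ y ∈ Z, y ≠ 1 → k * y * k⁻¹ ≠ y := fun y hy hy1 e => hy1
    (hs.fpf Nat.prime_three (by norm_num) hk3 (pow_four_of_sq (hF.exp y (hF.Z_le hy)))
      (mul_inv_eq_iff_eq_mul.1 e))
  have h01 : z₀ ≠ z₁ := fun e => hfix z₀ hz₀ hz₀1 e.symm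
  have h12 : z₁ ≠ z₂ := fun e => hfix z₁ hz₁ hz₁1 e.symm
  have h02 : z₀ ≠ z₂ := fun e => hfix z₂ hz₂ hz₂1 (by rw [hperiod, e])
  have hall : ∀ y ∈ Z, y ≠ 1 → y = z₀ ∨ y = z₁ ∨ y = z₂ := by
    intro y hy hy1
    by_contra hcon
    push Not at hcon
    let s : Finset G := {1, z₀, z₁, z₂, y}
    have hscard : s.card = 5 := by
      simp [s, hz₀1.symm, hz₁1.symm, hz₂1.symm, hy1.symm, h01, h02, h12, hcon.1.symm, hcon.2.1.symm,
        hcon.2.2.symm]
    have hsub : (s : Set G) ⊆ (Z : Set G) := by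
      simp [s, Set.insert_subset_iff, hz₀, hz₁, hz₂, hy]
    have := Set.ncard_le_ncard hsub (Set.toFinite _)
    rw [Set.ncard_coe_finset, hscard, ← Nat.card_coe_set_eq] at this
    have e : Nat.card (Z : Set G) = Nat.card Z := rfl
    omega
  have hfk : ∀ y, f (k * y * k⁻¹) = k⁻¹ * f y * k := by
    intro y
    have e : ∀ {s : G}, s * k * s = k⁻¹ → s * s = 1 → ∀ v,
        s * (k * v * k⁻¹) * s = k⁻¹ * (s * v * s) * k := by
      intro s hsk hss v
      have hsi : s⁻¹ = s := inv_eq_of_mul_eq_one_right hss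
      calc s * (k * v * k⁻¹) * s = (s * k * s⁻¹) * (s * v * s⁻¹) * (s * k * s⁻¹)⁻¹ * (s * s) := by group
        _ = _ := by rw [hsi, hsk, hss, inv_inv, mul_one]
    simp only [f, e hs₁k hs₁s, e hs₂k hs₂s]
    group
  have hback : ∀ y, k⁻¹ * (k * y * k⁻¹) * k = y := fun y => by group
  obtain ⟨z, hzZ, hz1, hzf⟩ : ∃ z ∈ Z, z ≠ 1 ∧ f z = z := by
    rcases hall _ (hf z₀ hz₀ hz₀1).1 (hf z₀ hz₀ hz₀1).2 with e | e | e
    · exact ⟨z₀, hz₀, hz₀1, e⟩
    · refine ⟨z₂, hz₂, hz₂1, ?_⟩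
      rw [hz₂def, hfk, hz₁def, hfk, e, ← hz₁def, hz₁def, hback]
      conv_lhs => rw [← hperiod]
      rw [hback]
    · refine ⟨z₁, hz₁, hz₁1, ?_⟩
      rw [hz₁def, hfk, e, ← hz₁def, hz₂def, hback]
  have hd := hmemD hzZ
  have ha := hmemA hzZ
  have hdd := hF.exp _ hd
  have haa := hA _ ha
  refine hs.no_SL_three (hF.exp z (hF.Z_le hzZ)) hz1 hs₁s hs₂s hr3
    (commute_of_exp_two hF.exp (hF.Z_le hzZ) hd) (commute_of_exp_two hA (hZA hzZ) ha) ?_
  calc s₁ * z * s₁ * (s₂ * z * s₂)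
      = s₁ * z * s₁ * (s₂ * z * s₂) * (s₁ * z * s₁) * (s₂ * z * s₂ * (s₂ * z * s₂)) * (s₁ * z * s₁) := by
        rw [haa, mul_one, mul_assoc _ (s₁ * z * s₁) (s₁ * z * s₁), hdd, mul_one]
    _ = f z * (s₂ * z * s₂) * (s₁ * z * s₁) := by simp only [f, mul_assoc]
    _ = _ := by rw [hzf]

end Cfsg.Agent.Lib.RecogThree.OrdersFive
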