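import Cfsg.Agent.Lib.RecogThree.OrdersFive.Main

/-! A solvable group with element orders at most five has at most two prime divisors. -/

set_option linter.unusedSectionVars false

namespace Cfsg.Agent.Lib.RecogThree.OrdersFive

variable {G : Type*} [Group G] [Finite G]

theorem Small.commute_of_power (h : Small G) {a x : G} {s s' : ℕ} (hs : s.Prime) (hs' : s'.Prime)
    (hne : s ≠ s') (ha : orderOf a = s) (hx : orderOf x = s') (hconj : x * a * x⁻¹ ∈ Subgroup.zpowers a) :
    s' = 2 ∧ x * a * x⁻¹ = a⁻¹ := by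
  have := Fact.mk hs
  have := Fact.mk hs'
  have hs5 : s ≤ 5 := ha ▸ h a
  have hs5' : s' ≤ 5 := hx ▸ h x
  have hnc : x * a * x⁻¹ ≠ a := fun e => by
    rcases h.eq_one_of_commute (show Commute x a from mul_inv_eq_iff_eq_mul.1 e)
      (by rw [ha, hx]; exact (Nat.coprime_primes hs' hs).2 (Ne.symm hne)) with e' | e'
    · rw [e', orderOf_one] at hx; exact hs'.ne_one hx.symm
    · rw [e', orderOf_one] at ha; exact hs.ne_one ha.symm
  obtain ⟨j, hj, hje⟩ : ∃ j : ℕ, j < s ∧ x * a * x⁻¹ = a ^ j := by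
    obtain ⟨i, hi⟩ := Subgroup.mem_zpowers_iff.1 hconj
    have hs0 : (s : ℤ) ≠ 0 := by exact_mod_cast hs.ne_zero
    refine ⟨(i % s).toNat, ?_, ?_⟩
    · have h1 := Int.emod_lt_of_pos i (show (0 : ℤ) < s by exact_mod_cast hs.pos)
      have h2 := Int.emod_nonneg i hs0
      omega
    · rw [← hi, ← zpow_natCast, Int.toNat_of_nonneg (Int.emod_nonneg i hs0),
        ← ha, zpow_mod_orderOf]
  have hiter : ∀ n : ℕ, x ^ n * a * (x ^ n)⁻¹ = a ^ j ^ n := by
    intro n
    induction n with
    | zero => simp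
    | succ n ih =>
      rw [pow_succ' j n, pow_mul, ← hje, conj_pow, ← ih, pow_succ' x n]
      group
  have h1 := hiter s'
  rw [show x ^ s' = 1 from hx ▸ pow_orderOf_eq_one x, one_mul, inv_one, mul_one] at h1
  conv_lhs at h1 => rw [← pow_one a]
  rw [pow_inj_mod, ha] at h1
  rw [hje] at hnc ⊢
  have hainv : ∀ m : ℕ, m + 1 = s → a ^ m = a⁻¹ := fun m hm =>
    eq_inv_of_mul_eq_one_left (by rw [← pow_succ, hm, ← ha, pow_orderOf_eq_one])
  rcases h.prime_cases hs (g := a) (by rw [ha]) with rfl | rfl | rfl <;>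
    rcases h.prime_cases hs' (g := x) (by rw [hx]) with rfl | rfl | rfl <;>
    interval_cases j
  all_goals first
    | exact absurd rfl hne
    | exact absurd (pow_one a) hnc
    | exact ⟨rfl, hainv _ rfl⟩
    | (norm_num at h1)

theorem exists_card_eq_pow {H : Type*} [Group H] [Finite H] {p : ℕ} {F : Subgroup H} (hp : p.Prime)
    (hF : IsPGroup p F) (hF1 : F ≠ ⊥) : ∃ n, Nat.card F = p ^ (n + 1) := by
  have := Fact.mk hp
  obtain ⟨n, hn⟩ := hF.exists_card_eq
  rcases n with _ | n
  · exact absurd (Subgroup.card_eq_one.1 (by simpa using hn)) hF1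
  · exact ⟨n, hn⟩

/-- a solvable group with element orders at most five is not divisible by all of 2, 3, 5 -/
theorem Small.not_three_primes (h : Small G) [Group.IsSolvable G] (h2 : 2 ∣ Nat.card G)
    (h3 : 3 ∣ Nat.card G) (h5 : 5 ∣ Nat.card G) : False := by
  have : Nontrivial G := Finite.one_lt_card_iff_nontrivial.1
    (lt_of_lt_of_le (by norm_num : 1 < 2) (Nat.le_of_dvd Nat.card_pos h2))
  obtain ⟨p, F, hp, hFn, hF1, hFab, hFp⟩ := Lib.Hall.exists_normal_abelian_pgroup (G := G)
  have hpd : p ∣ Nat.card G := by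
    obtain ⟨n, hn⟩ := exists_card_eq_pow hp hFp hF1
    exact (hn ▸ dvd_pow_self p n.succ_ne_zero).trans (Subgroup.card_subgroup_dvd_card F)
  have hp235 : p = 2 ∨ p = 3 ∨ p = 5 := by
    have := Fact.mk hp
    obtain ⟨g, hg⟩ := exists_prime_orderOf_dvd_card' (G := G) p hpd
    exact h.prime_cases hp (g := g) (by rw [hg])
  obtain ⟨H, hH⟩ := Lib.Hall.exists_isPiHall (G := G) {q | q.Prime ∧ q ≠ p}
  have hHd : ∀ q : ℕ, q.Prime → q ∣ Nat.card G → q ≠ p → q ∣ Nat.card H := by
    intro q hq hqd hqp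
    rw [← Subgroup.card_mul_index H] at hqd
    exact (hq.dvd_mul.1 hqd).resolve_right fun hi => hH.2 q hq ⟨hq, hqp⟩ hi
  have hHp : ∀ q : ℕ, q.Prime → q ∣ Nat.card H → q ≠ p := fun q hq hqd => (hH.1 q hq hqd).2
  obtain ⟨q, hq, hqd, hqp⟩ : ∃ q, q.Prime ∧ q ∣ Nat.card G ∧ q ≠ p := by
    by_cases e : p = 2
    · exact ⟨3, Nat.prime_three, h3, by omega⟩
    · exact ⟨2, Nat.prime_two, h2, Ne.symm e⟩
  have : Nontrivial H := Finite.one_lt_card_iff_nontrivial.1
    (lt_of_lt_of_le hq.one_lt (Nat.le_of_dvd Nat.card_pos (hHd q hq hqd hqp)))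
  obtain ⟨s, A, hs, hAn, hA1, hAab, hAp⟩ := Lib.Hall.exists_normal_abelian_pgroup (G := H)
  obtain ⟨n, hn⟩ := exists_card_eq_pow hs hAp hA1
  have hsA : s ∣ Nat.card A := hn ▸ dvd_pow_self s n.succ_ne_zero
  have hsH : s ∣ Nat.card H := hsA.trans (Subgroup.card_subgroup_dvd_card A)
  have hsp := hHp s hs hsH
  have := Fact.mk hs
  -- elements of order prime to `p` act on `F` without fixed points
  have hfpf : ∀ {r : ℕ} {g v : G}, r.Prime → r ≠ p → r ∣ orderOf g → v ∈ F → Commute g v → v = 1 := by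
    intro r g v hr hrp hrg hv hc
    have := Fact.mk hp
    obtain ⟨i, hi⟩ := h.isPow hr hrg
    obtain ⟨m, hm⟩ := (IsPGroup.iff_orderOf.1 hFp) ⟨v, hv⟩
    rw [Subgroup.orderOf_mk] at hm
    refine (h.eq_one_of_commute hc 
      (by rw [hi, hm]; exact Nat.Coprime.pow _ _ ((Nat.coprime_primes hr hp).2 hrp))).resolve_left fun e => ?_
    rw [e, orderOf_one] at hrg
    exact hr.ne_one (Nat.dvd_one.1 hrg)
  -- `A` is cyclic of order `s`
  set A' : Subgroup G := A.map H.subtype
  have hA'p : IsPGroup s A' := hAp.map _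
  have hA'c : IsCyclic A' := by
    by_contra hc
    have hab : IsMulCommutative A' := ⟨⟨fun u v => by
      obtain ⟨u0, hu0, hu⟩ := u.2
      obtain ⟨v0, hv0, hv⟩ := v.2
      exact Subtype.ext (by
        show (u : G) * v = v * u
        rw [← hu, ← hv, ← map_mul, ← map_mul, hAab u0 hu0 v0 hv0])⟩⟩
    have hgen := Lib.Coprime.iSup_centralizer_eq (A := A') (K := F) hc
      (by rw [Subgroup.normalizer_eq_top_iff.2 hFn]; exact le_top) (by
        obtain ⟨i, hi⟩ := hA'p.exists_card_eq
        have := Fact.mk hp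
        obtain ⟨m, hm⟩ := hFp.exists_card_eq
        rw [hi, hm]
        exact Nat.Coprime.pow _ _ ((Nat.coprime_primes hs hp).2 hsp))
    refine hF1 ?_
    rw [← hgen, eq_bot_iff]
    refine iSup₂_le fun u hu => ?_
    rintro v ⟨hv, hvu⟩
    obtain ⟨i, hi⟩ := IsPGroup.iff_orderOf.1 hA'p ⟨u, hu.1⟩
    rw [Subgroup.orderOf_mk] at hi
    rcases i with _ | i
    · exact absurd (orderOf_eq_one_iff.1 hi) hu.2
    exact Subgroup.mem_bot.2 (hfpf hs hsp (hi ▸ dvd_pow_self s i.succ_ne_zero) hv
      (Subgroup.mem_centralizer_singleton_iff.1 hvu).symm)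
  obtain ⟨⟨a, haA⟩, hgen⟩ := hA'c.exists_generator
  have ha : orderOf a = s := by
    obtain ⟨i, hi⟩ := IsPGroup.iff_orderOf.1 hA'p ⟨a, haA⟩
    rw [Subgroup.orderOf_mk] at hi
    have h0 := orderOf_eq_card_of_forall_mem_zpowers hgen
    rw [Subgroup.orderOf_mk, hi, Subgroup.card_map_of_injective H.subtype_injective, hn] at h0
    rw [hi]
    have h5' := h a
    rw [hi] at h5'
    rcases i with _ | _ | i
    · rw [pow_zero] at h0
      exact absurd h0.symm (Nat.one_lt_pow (Nat.succ_ne_zero n) hs.one_lt).ne'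
    · rw [pow_one]
    · exfalso
      by_cases hs2 : s = 2
      · -- then `a` has order 4 and commutes with an element of order prime to 2
        subst hs2
        rcases i with _ | i
        · -- replace nothing: `a²` is central in `H`
          have hne : ∃ r, r.Prime ∧ r ∣ Nat.card H ∧ r ≠ 2 := by
            rcases hp235 with rfl | rfl | rfl
            · exact absurd rfl hsp
            · exact ⟨5, Nat.prime_five, hHd 5 Nat.prime_five h5 (by norm_num), by norm_num⟩
            · exact ⟨3, Nat.prime_three, hHd 3 Nat.prime_three h3 (by norm_num), by norm_num⟩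
          obtain ⟨r, hr, hrd, hr2⟩ := hne
          have := Fact.mk hr
          obtain ⟨x, hx⟩ := exists_prime_orderOf_dvd_card' (G := H) r hrd
          obtain ⟨a0, ha0, rfl⟩ := haA
          obtain ⟨m, hm⟩ := Subgroup.mem_zpowers_iff.1
            (hgen ⟨_, Subgroup.mem_map_of_mem H.subtype (hAn.conj_mem a0 ha0 x)⟩)
          have hm' : (a0 : G) ^ m = (x : G) * a0 * (x : G)⁻¹ := by
            simpa using congrArg Subtype.val hm
          set a : G := (a0 : G)
          have hi : orderOf a = 2 ^ 2 := hi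
          have hodd : orderOf (a ^ m) = 2 ^ 2 := by rw [hm', Lib.Involutions.Basic.orderOf_conj_eq]; exact hi
          have h4 : a ^ (4 : ℕ) = 1 := by
            rw [show (4 : ℕ) = 2 ^ 2 from rfl, ← hi]; exact pow_orderOf_eq_one a
          have h4' : a ^ (4 : ℤ) = 1 := by rw [show (4 : ℤ) = ((4 : ℕ) : ℤ) from rfl, zpow_natCast, h4]
          -- `x` centralises `a²`
          have hmodd : m % 2 = 1 := by
            by_contra hev
            obtain ⟨c, rfl⟩ : (2 : ℤ) ∣ m := by omega
            have : (a ^ (2 * c)) ^ 2 = 1 := by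
              rw [← zpow_natCast, ← zpow_mul, show 2 * c * ((2 : ℕ) : ℤ) = 4 * c by push_cast; ring,
                zpow_mul, h4', one_zpow]
            have := orderOf_dvd_of_pow_eq_one this
            rw [hodd] at this
            norm_num at this
          have hfix : (x : G) * a ^ 2 * (x : G)⁻¹ = a ^ 2 := by
            rw [← conj_pow, ← hm', ← zpow_natCast, ← zpow_mul, ← zpow_natCast a 2]
            obtain ⟨c, rfl⟩ : ∃ c, m = 2 * c + 1 := ⟨m / 2, by omega⟩
            rw [show (2 * c + 1) * ((2 : ℕ) : ℤ) = 4 * c + ((2 : ℕ) : ℤ) by push_cast; ring, zpow_add,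
              zpow_mul, h4', one_zpow, one_mul]
          have ha2 : orderOf (a ^ 2) = 2 := by
            rw [orderOf_pow_of_dvd (by norm_num) (by rw [hi]; norm_num), hi]; rfl
          rcases h.eq_one_of_commute (show Commute (x : G) (a ^ 2) from mul_inv_eq_iff_eq_mul.1 hfix)
            (by rw [Subgroup.orderOf_coe, hx, ha2]; exact (Nat.coprime_primes hr Nat.prime_two).2 hr2) with e | e
          · rw [← Subgroup.orderOf_coe, e, orderOf_one] at hx; exact hr.ne_one hx.symm
          · rw [e, orderOf_one] at ha2; norm_num at ha2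
        · have : 2 ^ 3 ≤ 2 ^ (i + 1 + 1 + 1) := Nat.pow_le_pow_right (by norm_num) (by omega)
          omega
      · have : 3 ^ 2 ≤ s ^ (i + 1 + 1) :=
          (Nat.pow_le_pow_left (by have := hs.two_le; omega) 2).trans (Nat.pow_le_pow_right hs.pos (by omega))
        omega
  -- a second prime
  obtain ⟨r, hr, hrd, hrs⟩ : ∃ r, r.Prime ∧ r ∣ Nat.card H ∧ r ≠ s := by
    have a2 := fun e => hHd 2 Nat.prime_two h2 e
    have a3 := fun e => hHd 3 Nat.prime_three h3 e
    have a5 := fun e => hHd 5 Nat.prime_five h5 e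
    rcases hp235 with rfl | rfl | rfl
    · by_cases e : s = 3
      · exact ⟨5, Nat.prime_five, a5 (by norm_num), by omega⟩
      · exact ⟨3, Nat.prime_three, a3 (by norm_num), Ne.symm e⟩
    · by_cases e : s = 2
      · exact ⟨5, Nat.prime_five, a5 (by norm_num), by omega⟩
      · exact ⟨2, Nat.prime_two, a2 (by norm_num), Ne.symm e⟩
    · by_cases e : s = 2
      · exact ⟨3, Nat.prime_three, a3 (by norm_num), by omega⟩
      · exact ⟨2, Nat.prime_two, a2 (by norm_num), Ne.symm e⟩
  have := Fact.mk hr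
  obtain ⟨x, hx⟩ := exists_prime_orderOf_dvd_card' (G := H) r hrd
  rw [← Subgroup.orderOf_coe] at hx
  have hxa : (x : G) * a * (x : G)⁻¹ ∈ Subgroup.zpowers a := by
    obtain ⟨a0, ha0, rfl⟩ := haA
    obtain ⟨m, hm⟩ := Subgroup.mem_zpowers_iff.1
      (hgen ⟨_, Subgroup.mem_map_of_mem H.subtype (hAn.conj_mem a0 ha0 x)⟩)
    exact ⟨m, by simpa using congrArg Subtype.val hm⟩
  obtain ⟨rfl, hinv⟩ := h.commute_of_power hs hr (Ne.symm hrs) ha hx hxa
  -- the involution `x` inverts `F`, so it commutes with `a` on `F`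
  have hp2 : 2 ≠ p := hHp 2 Nat.prime_two hrd
  have hxx : (x : G) * x = 1 := by
    rw [← pow_two, ← hx, pow_orderOf_eq_one]
  have hxi : (x : G)⁻¹ = x := inv_eq_of_mul_eq_one_right hxx
  have hFinv : ∀ v ∈ F, (x : G) * v * x = v⁻¹ := by
    intro v hv
    have hv' : (x : G) * v * x ∈ F := by
      have := hFn.conj_mem v hv (x : G)
      rwa [hxi] at this
    refine eq_inv_of_mul_eq_one_left (hfpf Nat.prime_two hp2 (by rw [hx]) (F.mul_mem hv' hv) ?_)
    show (x : G) * (x * v * x * v) = x * v * x * v * x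
    calc (x : G) * (x * v * x * v) = (x * x) * (v * (x * v)) := by group
      _ = v * (x * v * x) * x := by
        rw [hxx, one_mul, mul_assoc v _ (x : G), mul_assoc _ (x : G) (x : G), hxx, mul_one]
      _ = _ := by rw [hFab _ hv _ hv']
  obtain ⟨v, hv, hv1⟩ := F.bot_or_exists_ne_one.resolve_left hF1
  refine hv1 (hfpf hs hsp (g := a * a) ?_ hv ?_)
  · rw [← pow_two, Nat.Coprime.orderOf_pow (by rw [ha]; exact (Nat.coprime_primes hs Nat.prime_two).2 (Ne.symm hrs)), ha]
  have hw : a⁻¹ * v * a ∈ F := by simpa using hFn.conj_mem v hv a⁻¹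
  have e1 : (x : G) * (a * v * a⁻¹) * x = a * v⁻¹ * a⁻¹ := by
    rw [hFinv _ (hFn.conj_mem v hv a)]; group
  have e2 : (x : G) * (a * v * a⁻¹) * x = a⁻¹ * v⁻¹ * a := by
    rw [hxi] at hinv
    have hinv' : (x : G) * a⁻¹ * x = a := by
      have := congrArg (·⁻¹) hinv
      simpa [mul_inv_rev, hxi, mul_assoc] using this
    calc (x : G) * (a * v * a⁻¹) * x = (x * a * (x * x) * v * (x * x) * a⁻¹ * x) := by
          rw [hxx]; group
      _ = (x * a * x) * (x * v * x) * (x * a⁻¹ * x) := by group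
      _ = _ := by rw [hinv, hFinv v hv, hinv']
  have e3 : a * a * v⁻¹ = v⁻¹ * (a * a) := by
    calc a * a * v⁻¹ = a * (a * v⁻¹ * a⁻¹) * a := by group
      _ = a * (a⁻¹ * v⁻¹ * a) * a := by rw [← e1, e2]
      _ = _ := by group
  have := Commute.inv_right (show Commute (a * a) v⁻¹ from e3)
  rwa [inv_inv] at this

end Cfsg.Agent.Lib.RecogThree.OrdersFive
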