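import Cfsg.Agent.Lib.RecogThree.OrdersFive.Lift
import Cfsg.Agent.Lib.RecogThree.OrdersFive.AltFive
import Cfsg.Agent.Lib.Hall.Basic

/-! The normaliser of a 2-subgroup `D` whose quotient has no normal 2-subgroup yields a free
elementary abelian subgroup `D`. -/

set_option linter.unusedSectionVars false

namespace Cfsg.Agent.Lib.RecogThree.OrdersFive

/-- the conclusion of the classification for non-solvable groups -/
def Concl (G : Type*) [Group G] : Prop :=
  (IsSimpleGroup G ∧ Nat.card G = 360 ∧ ∃ z : G, orderOf z = 2 ∧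
      Nonempty (↥(Subgroup.centralizer ({z} : Set G)) ≃* DihedralGroup 4)) ∨
    ∃ (M : Subgroup G) (_ : M.Normal), (∀ x ∈ M, x * x = 1) ∧ Nonempty (G ⧸ M ≃* A5)

theorem isPGroup_of_sq {G : Type*} [Group G] {M : Subgroup G} (h : ∀ x ∈ M, x * x = 1) :
    IsPGroup 2 M := fun x => ⟨1, Subtype.ext (by simpa [pow_two] using h x x.2)⟩

theorem Small.of_surjective {G X : Type*} [Group G] [Finite G] [Group X] (h : Small G)
    {φ : G →* X} (hφ : Function.Surjective φ) : Small X := fun x => by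
  obtain ⟨g, rfl⟩ := hφ x
  exact (Nat.le_of_dvd (orderOf_pos g) (orderOf_map_dvd φ g)).trans (h g)

variable {G : Type*} [Group G] [Finite G]

section Frame

variable {X : Type*} [Group X] {D N : Subgroup G}

/-- preimage in `G` of a subgroup of the quotient `X` of `N` -/
def pre (φ : ↥N →* X) (P : Subgroup X) : Subgroup G := (P.comap φ).map N.subtype

theorem mem_pre {φ : ↥N →* X} {P : Subgroup X} {g : G} :
    g ∈ pre φ P ↔ ∃ hg : g ∈ N, φ ⟨g, hg⟩ ∈ P := by
  constructor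
  · rintro ⟨x, hx, rfl⟩; exact ⟨x.2, hx⟩
  · rintro ⟨hg, h⟩; exact ⟨⟨g, hg⟩, h, rfl⟩

theorem le_pre (φ : ↥N →* X) (hker : φ.ker = D.subgroupOf N) (hDN : D ≤ N) (P : Subgroup X) :
    D ≤ pre φ P := fun d hd => mem_pre.2 ⟨hDN hd, by
  rw [show φ ⟨d, hDN hd⟩ = 1 from MonoidHom.mem_ker.1 (hker ▸ (Subgroup.mem_subgroupOf.2 hd))]
  exact P.one_mem⟩

theorem isPGroup_pre (φ : ↥N →* X) (hker : φ.ker = D.subgroupOf N) (hD : IsPGroup 2 D)
    {P : Subgroup X} (hP : IsPGroup 2 P) : IsPGroup 2 (pre φ P) := by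
  refine (hP.comap_of_ker_isPGroup φ ?_).map _
  rw [hker]
  exact hD.comap_of_injective N.subtype N.subtype_injective

theorem card_pre (φ : ↥N →* X) (hφ : Function.Surjective φ) (hker : φ.ker = D.subgroupOf N)
    (hDN : D ≤ N) (P : Subgroup X) : Nat.card (pre φ P) = Nat.card P * Nat.card D := by
  have hX : Finite X := Finite.of_surjective φ hφ
  rw [pre, Subgroup.card_map_of_injective N.subtype_injective]
  have h1 := Subgroup.card_mul_index (P.comap φ)
  rw [Subgroup.index_comap_of_surjective _ hφ] at h1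
  have h2 := Subgroup.card_mul_index φ.ker
  rw [Subgroup.index_ker, MonoidHom.range_eq_top_of_surjective φ hφ, Subgroup.card_top, hker,
    Nat.card_congr (Subgroup.subgroupOfEquivOfLe hDN).toEquiv] at h2
  rw [← h2, ← Subgroup.card_mul_index P] at h1
  refine Nat.eq_of_mul_eq_mul_right (Nat.pos_of_ne_zero (Subgroup.index_ne_zero_of_finite (H := P))) ?_
  rw [h1]; ring

theorem exists_cjg_pre (φ : ↥N →* X) (hφ : Function.Surjective φ) (P : Sylow 2 X)
    {T : Subgroup G} (hT : IsPGroup 2 T) (hTN : T ≤ N) :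
    ∃ n ∈ N, cjg n T ≤ pre φ P := by
  have := Fact.mk Nat.prime_two
  have : Finite X := Finite.of_surjective φ hφ
  have hTimg : IsPGroup 2 ↥((T.subgroupOf N).map φ) :=
    (hT.comap_of_injective N.subtype N.subtype_injective).map φ
  obtain ⟨S, hS⟩ := hTimg.exists_le_sylow
  obtain ⟨q, hq⟩ := MulAction.exists_smul_eq X S P
  obtain ⟨n, rfl⟩ := hφ q
  refine ⟨n, n.2, ?_⟩
  rintro _ ⟨x, hx, rfl⟩
  refine mem_pre.2 ⟨N.mul_mem (N.mul_mem n.2 (hTN hx)) (N.inv_mem n.2), ?_⟩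
  rw [← hq, Sylow.coe_subgroup_smul]
  refine ⟨φ ⟨x, hTN hx⟩, hS ⟨_, Subgroup.mem_subgroupOf.2 hx, rfl⟩, ?_⟩
  show φ n * φ ⟨x, hTN hx⟩ * (φ n)⁻¹ = _
  rw [← map_inv, ← map_mul, ← map_mul]
  rfl

/-- a lift of an element of order `p` of the quotient has order `p` -/
theorem Small.order_of_map (h : Small G) (φ : ↥N →* X) {p : ℕ} (hp : p.Prime) (hp2 : p ≠ 2)
    {k : ↥N} (hk : orderOf (φ k) = p) : orderOf (k : G) = p := by
  rw [Subgroup.orderOf_coe]
  have hd : p ∣ orderOf k := hk ▸ orderOf_map_dvd _ k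
  have h5 := h.subgroup N k
  have hpos := orderOf_pos k
  obtain ⟨j, hj⟩ := hd
  have h3 : 3 ≤ p := by have := hp.two_le; omega
  have hj1 : j = 1 := by
    rcases j with _ | _ | j
    · omega
    · rfl
    · exfalso
      have : p * 2 ≤ p * (j + 1 + 1) := Nat.mul_le_mul_left _ (by omega)
      omega
  rw [hj, hj1, mul_one]

/-- an inverting involution of the quotient lifts -/
theorem Small.exists_lift_inverting (h : Small G) (φ : ↥N →* X) (hker : φ.ker = D.subgroupOf N)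
    (hD : IsPGroup 2 D) {p : ℕ} (hp : p.Prime) (hp2 : p ≠ 2) {k : ↥N} {s : X}
    (hk : orderOf (φ k) = p) (hs : s * s = 1) (hsk : s * φ k * s = (φ k)⁻¹)
    (hφ : Function.Surjective φ) :
    ∃ t : ↥N, φ t = s ∧ (t : G) * t = 1 ∧ (t : G) * k * t = (k : G)⁻¹ := by
  obtain ⟨s0, rfl⟩ := hφ s
  have hkN : orderOf k = p := by rw [← Subgroup.orderOf_coe]; exact h.order_of_map φ hp hp2 hk
  have hK : IsPGroup 2 φ.ker := by
    rw [hker]; exact hD.comap_of_injective N.subtype N.subtype_injective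
  have h1 : s0 * s0 ∈ φ.ker := by rw [MonoidHom.mem_ker, map_mul, hs]
  have h2 : s0 * k * s0⁻¹ * k ∈ φ.ker := by
    rw [MonoidHom.mem_ker, map_mul, map_mul, map_mul, map_inv, inv_eq_of_mul_eq_one_right hs, hsk,
      inv_mul_cancel]
  obtain ⟨x, hx, ht, htk⟩ := (h.subgroup N).lift_inverting φ.ker hK hp hp2 hkN h1 h2
  refine ⟨x * s0, ?_, by simpa using congrArg Subtype.val ht, by simpa using congrArg Subtype.val htk⟩
  rw [map_mul, MonoidHom.mem_ker.1 hx, one_mul]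

/-- conjugation of an abelian `D` depends only on the image in the quotient -/
theorem conj_eq_of_map_eq (φ : ↥N →* X) (hker : φ.ker = D.subgroupOf N)
    (hexp : ∀ x ∈ D, x * x = 1) {g g' : ↥N} (he : φ g = φ g') {d : G} (hd : d ∈ D) :
    (g : G) * d * (g : G)⁻¹ = (g' : G) * d * (g' : G)⁻¹ := by
  have : g'⁻¹ * g ∈ φ.ker := by rw [MonoidHom.mem_ker, map_mul, map_inv, he, inv_mul_cancel]
  rw [hker, Subgroup.mem_subgroupOf] at this
  have hc := commute_of_exp_two hexp this hd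
  calc (g : G) * d * (g : G)⁻¹
      = (g' : G) * (((g'⁻¹ * g : ↥N) : G) * d) * ((g'⁻¹ * g : ↥N) : G)⁻¹ * (g' : G)⁻¹ := by
        push_cast; group
    _ = _ := by rw [hc]; group

theorem fixedIn_eq_of_map_eq (φ : ↥N →* X) (hker : φ.ker = D.subgroupOf N)
    (hexp : ∀ x ∈ D, x * x = 1) {g g' : ↥N} (he : φ g = φ g') :
    fixedIn D (g : G) = fixedIn D (g' : G) := by
  ext d
  rw [mem_fixedIn, mem_fixedIn]
  refine and_congr_right fun hd => ?_
  rw [eq_comm, ← mul_inv_eq_iff_eq_mul, eq_comm (a := d * (g' : G)), ← mul_inv_eq_iff_eq_mul,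
    conj_eq_of_map_eq φ hker hexp he hd]

end Frame

variable {D : Subgroup G}

theorem le_of_normal_map {N : Subgroup G}
    (hcore : ∀ K : Subgroup G, IsPGroup 2 K → K ≤ N → N ≤ Subgroup.normalizer (K : Set G) → K ≤ D)
    {K : Subgroup ↥N} (hKn : K.Normal) (hK : IsPGroup 2 K) : K ≤ D.subgroupOf N := by
  have h := hcore (K.map N.subtype) (hK.map _) (Subgroup.map_subtype_le K) (fun n hn => by
    refine mem_normalizer_of_cjg (Subgroup.eq_of_le_of_card_ge ?_ (card_cjg _ _).ge)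
    rintro _ ⟨_, ⟨x, hx, rfl⟩, rfl⟩
    exact ⟨⟨n, hn⟩ * x * ⟨n, hn⟩⁻¹, hKn.conj_mem x hx _, rfl⟩)
  intro x hx
  exact Subgroup.mem_subgroupOf.2 (h ⟨x, hx, rfl⟩)

theorem normal_subgroupOf {N : Subgroup G} (hND : N ≤ Subgroup.normalizer (D : Set G)) :
    (D.subgroupOf N).Normal :=
  ⟨fun x hx g => Subgroup.mem_subgroupOf.2
    (((Subgroup.mem_normalizer_iff.1 (hND g.2)) (x : G)).1 (Subgroup.mem_subgroupOf.1 hx))⟩

theorem solvable_case (hs : Small G) (hD : IsPGroup 2 D) (hne : D ≠ ⊥)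
    (hcore : ∀ K : Subgroup G, IsPGroup 2 K → K ≤ Subgroup.normalizer (D : Set G) →
      Subgroup.normalizer (D : Set G) ≤ Subgroup.normalizer (K : Set G) → K ≤ D)
    (hex : ∃ g ∈ Subgroup.normalizer (D : Set G), g ∉ D ∧ g ^ 4 = 1)
    (hsol : Group.IsSolvable ↥(Subgroup.normalizer (D : Set G))) :
    ∃ R Z : Subgroup G, Free D R Z ∧ (∃ t ∈ R, t ∉ D ∧ t * t = 1) ∧
      Nat.card R = 2 * Nat.card D := by
  classical
  have := Fact.mk Nat.prime_two
  set N := Subgroup.normalizer (D : Set G) with _hN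
  have hDN : D ≤ N := Subgroup.le_normalizer
  have : (D.subgroupOf N).Normal := normal_subgroupOf le_rfl
  let φ := QuotientGroup.mk' (D.subgroupOf N)
  have hφ : Function.Surjective φ := QuotientGroup.mk'_surjective _
  have hker : φ.ker = D.subgroupOf N := QuotientGroup.ker_mk' _
  have hsX : Small (↥N ⧸ D.subgroupOf N) := (hs.subgroup N).of_surjective hφ
  have hDN2 : IsPGroup 2 (D.subgroupOf N) := hD.comap_of_injective N.subtype N.subtype_injective
  have hDbot : D.subgroupOf N ≠ ⊥ := fun e => hne (by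
    rw [Subgroup.subgroupOf_eq_bot] at e; exact e.eq_bot_of_le hDN)
  -- the quotient is non-trivial
  obtain ⟨g, hgN, hgD, hg4⟩ := hex
  have hg1 : φ ⟨g, hgN⟩ ≠ 1 := fun e => hgD (by
    simpa [Subgroup.mem_subgroupOf] using (QuotientGroup.eq_one_iff (N := D.subgroupOf N) _).1 e)
  have hg4' : φ ⟨g, hgN⟩ ^ 4 = 1 := by
    rw [← map_pow, show (⟨g, hgN⟩ : ↥N) ^ 4 = 1 from Subtype.ext hg4, map_one]
  have : Nontrivial (↥N ⧸ D.subgroupOf N) := ⟨_, _, hg1⟩
  obtain ⟨r, M, hr, hMn, hMne, hMab, hMp⟩ :=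
    Lib.Hall.exists_normal_abelian_pgroup (G := ↥N ⧸ D.subgroupOf N)
  have := Fact.mk hr
  have hr2 : r ≠ 2 := by
    rintro rfl
    have h1 : M.comap φ ≤ D.subgroupOf N := le_of_normal_map (N := N) hcore (hMn.comap φ)
      (hMp.comap_of_ker_isPGroup φ (by rw [hker]; exact hDN2))
    refine hMne (Subgroup.eq_bot_iff_forall _ |>.2 fun x hx => ?_)
    obtain ⟨y, rfl⟩ := hφ x
    exact (QuotientGroup.eq_one_iff _).2 (h1 hx)
  have hcyc : IsCyclic M := by_contra fun hc =>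
    (hs.subgroup N).no_noncyclic_quotient (D.subgroupOf N) Nat.prime_two hr (Ne.symm hr2) hDN2 hDbot
      hMp hMab hc
  obtain ⟨⟨a, haM⟩, hgen⟩ := hcyc.exists_zpow_surjective
  have hMa : M = Subgroup.zpowers a := by
    refine le_antisymm (fun x hx => ?_) (Subgroup.zpowers_le.2 haM)
    obtain ⟨n, hn⟩ := hgen ⟨x, hx⟩
    exact ⟨n, by simpa using congrArg Subtype.val hn⟩
  have hra : r ∣ orderOf a := by
    rw [← Nat.card_zpowers, ← hMa]
    obtain ⟨n, hn⟩ := hMp.exists_card_eq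
    rcases n with _ | n
    · exact absurd (Subgroup.card_eq_one.1 (by simpa using hn)) hMne
    · exact hn ▸ dvd_pow_self r n.succ_ne_zero
  have har : orderOf a = r := by
    rcases hsX.dvd_cases a with e | e | e | e | e <;> rw [e] at hra ⊢
    · exact absurd (Nat.dvd_one.1 hra) hr.ne_one
    · exact ((Nat.prime_dvd_prime_iff_eq hr Nat.prime_two).1 hra).symm
    · exact ((Nat.prime_dvd_prime_iff_eq hr Nat.prime_three).1 hra).symm
    · exact absurd ((Nat.prime_dvd_prime_iff_eq hr Nat.prime_two).1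
        (hr.dvd_of_dvd_pow (show r ∣ 2 ^ 2 from hra))) hr2
    · exact ((Nat.prime_dvd_prime_iff_eq hr Nat.prime_five).1 hra).symm
  have har' : a ^ r = 1 := har ▸ pow_orderOf_eq_one a
  have hr35 : r = 3 ∨ r = 5 := (hsX.prime_cases hr (g := a) (by rw [har])).resolve_left hr2
  -- the action of 2-elements on `a`
  have hact : ∀ q : ↥N ⧸ D.subgroupOf N, ∃ j, j < r ∧ q * a * q⁻¹ = a ^ j := by
    intro q
    have h1 : q * a * q⁻¹ ∈ M := hMn.conj_mem a haM q
    rw [hMa, mem_zpowers_iff_mem_range_orderOf, Finset.mem_image] at h1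
    obtain ⟨j, hj, e⟩ := h1
    exact ⟨j, har ▸ Finset.mem_range.1 hj, e.symm⟩
  have hcfix : ∀ q : ↥N ⧸ D.subgroupOf N, q ^ 4 = 1 → q * a * q⁻¹ = a → q = 1 := fun q hq hc =>
    hsX.fpf hr hr2 har hq (show a * q = q * a from (mul_inv_eq_iff_eq_mul.1 hc).symm)
  have hinv : ∀ i : ↥N ⧸ D.subgroupOf N, i * i = 1 → i ≠ 1 → i * a * i = a⁻¹ := by
    intro i hi hi1
    obtain ⟨j, hj, e⟩ := hact i
    have hii : i⁻¹ = i := inv_eq_of_mul_eq_one_right hi
    have h2 : a = a ^ (j * j) := by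
      calc a = i * (i * a * i⁻¹) * i⁻¹ := by
            rw [hii, ← mul_assoc, ← mul_assoc, hi, one_mul, mul_assoc, hi, mul_one]
        _ = _ := by rw [e, ← conj_pow, e, pow_mul]
    rw [hii] at e
    conv_lhs at h2 => rw [← pow_one a]
    rw [pow_inj_mod, har] at h2
    have hne1 : i * a * i ≠ a := fun e' => hi1 (hcfix i (pow_four_of_sq hi) (by rw [hii, e']))
    rw [e] at hne1 ⊢
    refine eq_inv_of_mul_eq_one_left ?_
    rcases hr35 with rfl | rfl <;> interval_cases j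
    all_goals first
      | (exfalso; norm_num at h2; done)
      | exact absurd (pow_one a) hne1
      | (rw [← pow_succ]; exact har')
  -- a Sylow 2-subgroup of the quotient
  obtain ⟨S0⟩ : Nonempty (Sylow 2 (↥N ⧸ D.subgroupOf N)) := inferInstance
  obtain ⟨P, hgP⟩ : ∃ P : Sylow 2 (↥N ⧸ D.subgroupOf N), φ ⟨g, hgN⟩ ∈ (P : Subgroup _) := by
    have hz : IsPGroup 2 (Subgroup.zpowers (φ ⟨g, hgN⟩)) := by
      obtain ⟨j, -, hj⟩ := (Nat.dvd_prime_pow Nat.prime_two (m := 2)).1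
        (orderOf_dvd_of_pow_eq_one hg4')
      exact IsPGroup.of_card (n := j) (by rw [Nat.card_zpowers, hj])
    obtain ⟨P, hP⟩ := hz.exists_le_sylow
    exact ⟨P, hP (Subgroup.mem_zpowers _)⟩
  obtain ⟨⟨i, hiP⟩, hi⟩ := exists_prime_orderOf_dvd_card'
    (G := ↥(P : Subgroup (↥N ⧸ D.subgroupOf N))) 2 (by
    obtain ⟨n, hn⟩ := P.isPGroup'.exists_card_eq
    rcases n with _ | n
    · exact absurd (Subgroup.mem_bot.1 ((Subgroup.card_eq_one.1 (by simpa using hn)) ▸ hgP)) hg1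
    · exact hn ▸ dvd_pow_self 2 n.succ_ne_zero)
  rw [Subgroup.orderOf_mk] at hi
  have hii : i * i = 1 := by rw [← pow_two, ← hi]; exact pow_orderOf_eq_one i
  have hi1 : i ≠ 1 := fun e => by rw [e, orderOf_one] at hi; omega
  -- `D` is elementary
  obtain ⟨k, hk⟩ := hφ a
  have hka : orderOf (φ k) = r := by rw [hk, har]
  have hkord : orderOf (k : G) = r := hs.order_of_map φ hr hr2 hka
  obtain ⟨t, htφ, htt, htk⟩ := hs.exists_lift_inverting φ hker hD hr hr2 (k := k) (s := i) hka hii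
    (by rw [hk, hinv i hii hi1]) hφ
  have hexp : ∀ x ∈ D, x * x = 1 := hs.elementary hD hr hr2 hkord htt htk k.2 t.2
  -- no 2-element acts on `a` as an automorphism of order 4
  have hpm : ∀ q : ↥N ⧸ D.subgroupOf N, q ^ 4 = 1 → q ≠ 1 → q * a * q⁻¹ = a⁻¹ := by
    intro q hq hq1
    obtain ⟨j, hj, e⟩ := hact q
    by_cases hqq : q * q = 1
    · rw [inv_eq_of_mul_eq_one_right hqq]; exact hinv q hqq hq1
    exfalso
    have hq2 : q * q * a * (q * q) = a⁻¹ := hinv _ (by simpa [pow_succ, mul_assoc] using hq) hqq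
    have hq2i : (q * q)⁻¹ = q * q := inv_eq_of_mul_eq_one_right (by simpa [pow_succ, mul_assoc] using hq)
    have h2 : a ^ (j * j + 1) = 1 := by
      rw [pow_succ]
      refine mul_eq_one_iff_eq_inv.2 ?_
      calc a ^ (j * j) = q * (q * a * q⁻¹) * q⁻¹ := by rw [e, ← conj_pow, e, pow_mul]
        _ = q * q * a * (q * q)⁻¹ := by group
        _ = _ := by rw [hq2i, hq2]
    have hdvd := orderOf_dvd_of_pow_eq_one h2
    rw [har] at hdvd
    -- an element `c` with `c a c⁻¹ = a³` in the coset of `q` or of its inverse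
    have h5 : r = 5 ∧ ∃ c : ↥N ⧸ D.subgroupOf N, c ^ 4 = 1 ∧ c * c ≠ 1 ∧ c * a * c⁻¹ = a ^ 2 := by
      rcases hr35 with rfl | rfl
      · interval_cases j <;> norm_num at hdvd
      · refine ⟨rfl, ?_⟩
        interval_cases j <;> norm_num at hdvd
        · exact ⟨q, hq, hqq, e⟩
        · refine ⟨q⁻¹, by rw [inv_pow, hq, inv_one], fun h => hqq (by
            rw [← inv_inv (q * q), mul_inv_rev, h, inv_one]), ?_⟩
          rw [inv_inv]
          have e2 : q * (a ^ 2) * q⁻¹ = a := by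
            rw [← conj_pow, e, ← pow_mul, show 3 * 2 = 5 + 1 from rfl, pow_succ, har', one_mul]
          calc q⁻¹ * a * q = q⁻¹ * (q * a ^ 2 * q⁻¹) * q := by rw [e2]
            _ = _ := by group
    obtain ⟨rfl, c, hc4, hc2, hca⟩ := h5
    obtain ⟨g0, rfl⟩ := hφ c
    have hmem : (k ^ 2)⁻¹ * (g0 * k * g0⁻¹) ∈ φ.ker := by
      rw [MonoidHom.mem_ker]; simp only [map_mul, map_inv, map_pow, hk]; rw [hca, inv_mul_cancel]
    rw [hker, Subgroup.mem_subgroupOf] at hmem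
    have hk2 : orderOf ((k : G) ^ 2) = 5 := by
      rw [Nat.Coprime.orderOf_pow (by rw [hkord]; norm_num), hkord]
    obtain ⟨x, hx, hxe⟩ := exists_conj_eq_mul (K := D) (k := (k : G) ^ 2)
      (Subgroup.pow_mem _ k.2 2) (fun y hy hy' => hs.fpf hr hr2 hk2 (hs.pow_four_of_mem hD hy) hy')
      (show ((k : G) ^ 2) * ((((k ^ 2)⁻¹ * (g0 * k * g0⁻¹) : ↥N)) : G) * ((k : G) ^ 2)⁻¹ ∈ D from
        ((Subgroup.mem_normalizer_iff.1 (Subgroup.pow_mem _ k.2 2)) _).1 hmem)
    set G' : G := x⁻¹ * (g0 : G)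
    have hG'k : G' * k * G'⁻¹ = (k : G) ^ 2 := by
      have e1 : x * (k : G) ^ 2 * x⁻¹ = (g0 : G) * k * (g0 : G)⁻¹ := by
        rw [hxe]; push_cast; group
      calc G' * k * G'⁻¹ = x⁻¹ * ((g0 : G) * k * (g0 : G)⁻¹) * x := by simp only [G']; group
        _ = _ := by rw [← e1]; group
    have hG'N : G' ∈ N := N.mul_mem (N.inv_mem (hDN hx)) g0.2
    have hG'φ : φ ⟨G', hG'N⟩ = φ g0 := by
      rw [show (⟨G', hG'N⟩ : ↥N) = ⟨x, hDN hx⟩⁻¹ * g0 from rfl, map_mul, map_inv,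
        show φ ⟨x, hDN hx⟩ = 1 from MonoidHom.mem_ker.1 (by rw [hker]; exact Subgroup.mem_subgroupOf.2 hx),
        inv_one, one_mul]
    have hG'4 : G' ^ 4 = 1 := by
      refine hs.pow_four ?_
      obtain ⟨m, hm⟩ := hDN2 ⟨(⟨G', hG'N⟩ : ↥N) ^ 4, by
        rw [← hker, MonoidHom.mem_ker, map_pow, hG'φ, hc4]⟩
      refine ⟨2 + m, ?_⟩
      rw [pow_add, pow_mul]
      simpa using congrArg (fun z : ↥(D.subgroupOf N) => ((z : ↥N) : G)) hm
    refine hne (hs.eq_bot_of_five_four hexp hkord hG'4 ?_ k.2 hG'N)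
    -- `G' k G'⁻¹ = k²` gives `G'⁻¹ k G' = k³`
    have h6 : G' * (k : G) ^ 3 * G'⁻¹ = k := by
      rw [← conj_pow, hG'k, ← pow_mul, show 2 * 3 = 5 + 1 from rfl, pow_succ,
        show (k : G) ^ 5 = 1 from hkord ▸ pow_orderOf_eq_one _, one_mul]
    conv_lhs => rw [← h6]
    group
  -- the Sylow 2-subgroup of the quotient has order 2
  have hP2 : ∀ q ∈ (P : Subgroup _), q ≠ 1 → q = i := by
    intro q hq hq1
    have h4 : ∀ y ∈ (P : Subgroup (↥N ⧸ D.subgroupOf N)), y ^ 4 = 1 := fun y hy => hsX.pow_four_of_mem P.isPGroup' hy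
    have h1 : q * i = 1 := hcfix _ (h4 _ (Subgroup.mul_mem _ hq hiP)) (by
      calc q * i * a * (q * i)⁻¹ = q * (i * a * i⁻¹) * q⁻¹ := by group
        _ = a := by
          rw [inv_eq_of_mul_eq_one_right hii, hinv i hii hi1, ← conj_inv, hpm q (h4 q hq) hq1,
            inv_inv])
    rw [← inv_eq_of_mul_eq_one_left h1, inv_eq_of_mul_eq_one_right hii]
  have hPcard : Nat.card (P : Subgroup (↥N ⧸ D.subgroupOf N)) = 2 := by
    have : (P : Subgroup _) = Subgroup.zpowers i := by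
      refine le_antisymm (fun q hq => ?_) (Subgroup.zpowers_le.2 hiP)
      by_cases hq1 : q = 1
      · rw [hq1]; exact Subgroup.one_mem _
      · rw [hP2 q hq hq1]; exact Subgroup.mem_zpowers i
    rw [this, Nat.card_zpowers, hi]
  set R := pre φ (P : Subgroup _)
  have hcardR : Nat.card R = 2 * Nat.card D := by rw [card_pre φ hφ hker hDN, hPcard]
  have hcnt : Nat.card (fixedIn D (t : G)) * Nat.card (fixedIn D (t : G)) = Nat.card D :=
    hs.card_fixedIn hexp hr hr2 hkord htt htk k.2 t.2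
  have h1D : 1 < Nat.card D := (Subgroup.one_lt_card_iff_ne_bot D).2 hne
  have hproper : D ≠ R := fun e => by rw [← e] at hcardR; omega
  have htR : (t : G) ∈ R := mem_pre.2 ⟨t.2, by simpa [htφ] using hiP⟩
  have htD : (t : G) ∉ D := fun h => hi1 (by
    rw [← htφ]; exact (QuotientGroup.eq_one_iff _).2 (Subgroup.mem_subgroupOf.2 h))
  refine ⟨R, fixedIn D (t : G), ⟨hexp, hne, le_pre φ hker hDN _, ?_, isPGroup_pre φ hker hD P.isPGroup',
    fun T hT hTn _ => exists_cjg_pre φ hφ P hT hTn, ?_, hcnt, ?_, hproper⟩, ⟨t, htR, htD, htt⟩, hcardR⟩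
  · exact fun x hx => (mem_pre.1 hx).1
  · intro x hx hxD
    obtain ⟨hxN, hxP⟩ := mem_pre.1 hx
    refine fixedIn_eq_of_map_eq φ hker hexp (g := ⟨x, hxN⟩) (g' := t) ?_
    rw [htφ]
    exact hP2 _ hxP fun e => hxD (Subgroup.mem_subgroupOf.1 ((QuotientGroup.eq_one_iff _).1 e))
  · rw [hcardR]
    refine Nat.mul_le_mul_right _ ?_
    by_contra hlt
    have : Nat.card (fixedIn D (t : G)) = 1 := by
      have := Nat.card_pos (α := fixedIn D (t : G)); omega
    rw [this] at hcnt; omega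

/-- in the coset of `a` modulo the four-group fixed points are constant -/
theorem Small.fix_shift (hs : Small G) {N : Subgroup G} (hND : N ≤ Subgroup.normalizer (D : Set G))
    (φ : ↥N →* A5) (hker : φ.ker = D.subgroupOf N) (hexp : ∀ x ∈ D, x * x = 1) {t t' k₀ b : ↥N}
    (hb : orderOf (b : G) = 3) (hwb : orderOf ((t : G) * b) = 3) (htt : (t : G) * t = 1)
    (hk₀ : orderOf (k₀ : G) = 3) (htk : (t : G) * k₀ * t = (k₀ : G)⁻¹)
    (hsq : φ t * φ b * (φ t * φ b) = φ t' * (φ b * φ b))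
    (htt' : (t' : G) * t' = 1) {x : G} (hx : x ∈ fixedIn D (t : G)) : x ∈ fixedIn D (t' : G) := by
  obtain ⟨hxD, hxt⟩ := mem_fixedIn.1 hx
  have hti : (t : G)⁻¹ = t := inv_eq_of_mul_eq_one_right htt
  have hti' : (t' : G)⁻¹ = t' := inv_eq_of_mul_eq_one_right htt'
  have hconj : ∀ {g : G}, g ∈ N → ∀ y ∈ D, g * y * g⁻¹ ∈ D := fun hg y hy =>
    ((Subgroup.mem_normalizer_iff.1 (hND hg)) y).1 hy
  obtain ⟨y, hy, hyx⟩ := hs.exists_preimage hexp Nat.prime_three (by norm_num) hk₀ htt htk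
    (hND k₀.2) hxD (by rw [← hxt, mul_assoc, htt, mul_one])
  set y' := (b : G) * y * (b : G)⁻¹
  have hy' : y' ∈ D := hconj b.2 y hy
  set z := (b : G)⁻¹ * y * (b : G) with hz
  have hzD : z ∈ D := by
    have := hconj (N.inv_mem b.2) y hy
    rwa [inv_inv] at this
  have n1 := hs.norm_eq_one Nat.prime_three hwb (hconj (N.mul_mem t.2 b.2))
    (fun w hw => pow_four_of_sq (hexp w hw)) (by norm_num) hzD
  have n2 := hs.norm_eq_one Nat.prime_three hb (hconj b.2)
    (fun w hw => pow_four_of_sq (hexp w hw)) (by norm_num) hzD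
  simp only [List.range_succ, List.range_zero, List.nil_append, List.cons_append, List.map_cons,
    List.map_nil, List.prod_cons, List.prod_nil, mul_one, pow_zero, one_mul, inv_one, pow_one,
    pow_two] at n1 n2
  have e1 : (t : G) * b * z * ((t : G) * b)⁻¹ = t * y * t := by
    rw [mul_inv_rev, hti, hz]; group
  have hmap : φ (t * b * (t * b)) = φ (t' * (b * b)) := by simp only [map_mul]; exact hsq
  have e2 : (t : G) * b * ((t : G) * b) * z * ((t : G) * b * ((t : G) * b))⁻¹ = t' * y' * t' := by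
    have := conj_eq_of_map_eq φ hker hexp hmap hzD
    push_cast at this
    rw [this, mul_inv_rev, hti', hz]; simp only [y']; group
  have e3 : (b : G) * z * (b : G)⁻¹ = y := by rw [hz]; group
  have e4 : (b : G) * b * z * ((b : G) * b)⁻¹ = y' := by rw [hz]; simp only [y']; group
  rw [e1, e2] at n1
  rw [e3, e4] at n2
  have hf : (t : G) * y * t * (t' * y' * t') = y * y' := mul_left_cancel (n1.trans n2.symm)
  have hm1 : (t : G) * y * t ∈ D := by
    have := hconj t.2 y hy; rwa [hti] at this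
  have hm2 : (t' : G) * y' * t' ∈ D := by
    have := hconj t'.2 y' hy'; rwa [hti'] at this
  have hxe : x = y' * ((t' : G) * y' * t') := by
    rw [← hyx]
    calc y * ((t : G) * y * t) = y * ((t : G) * y * t * (t' * y' * t')) * (t' * y' * t')⁻¹ := by group
      _ = y * (y * y') * (t' * y' * t') := by rw [hf, inv_eq_of_mul_eq_one_right (hexp _ hm2)]
      _ = _ := by rw [← mul_assoc y y y', hexp y hy, one_mul]
  refine mem_fixedIn.2 ⟨hxD, ?_⟩
  rw [hxe]
  calc y' * ((t' : G) * y' * t') * t' = y' * ((t' : G) * y') * (t' * t') := by group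
    _ = y' * (t' : G) * y' := by rw [htt', mul_one, ← mul_assoc]
    _ = (t' : G) * t' * y' * t' * y' := by rw [htt', one_mul]
    _ = t' * (((t' : G) * y' * t') * y') := by group
    _ = _ := by rw [commute_of_exp_two hexp hm2 hy']

theorem five_not_dvd_four (hs : Small G) {W : Subgroup G} (hW : ∀ x ∈ W, x * x = 1)
    (hcard : Nat.card W = 4) {k : G} (hk : orderOf k = 5)
    (hkW : k ∈ Subgroup.normalizer (W : Set G)) : False := by
  classical
  let σ : Equiv.Perm W := (MulAut.toPerm W).comp (Subgroup.normalizerMonoidHom W) ⟨k, hkW⟩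
  have h5 : σ ^ 5 = 1 := by
    rw [show σ = (MulAut.toPerm W).comp (Subgroup.normalizerMonoidHom W) ⟨k, hkW⟩ from rfl, ← map_pow,
      show (⟨k, hkW⟩ : Subgroup.normalizer (W : Set G)) ^ 5 = 1 from
        Subtype.ext (by simpa using hk ▸ pow_orderOf_eq_one k), map_one]
  have h24 : orderOf σ ∣ 24 := by
    have := orderOf_dvd_natCard σ
    rwa [Nat.card_perm, hcard] at this
  have hσ : σ = 1 := orderOf_eq_one_iff.1 (Nat.dvd_one.1 (by
    have := Nat.dvd_gcd (orderOf_dvd_of_pow_eq_one h5) h24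
    simpa using this))
  have hne : W ≠ ⊥ := fun e => by rw [e, Subgroup.card_bot] at hcard; omega
  obtain ⟨x, hx, hx1⟩ := W.bot_or_exists_ne_one.resolve_left hne
  have hc : k * x * k⁻¹ = x := congrArg Subtype.val (Equiv.ext_iff.1 hσ ⟨x, hx⟩)
  exact hx1 (hs.fpf Nat.prime_five (by norm_num) hk (pow_four_of_sq (hW x hx))
    (mul_inv_eq_iff_eq_mul.1 hc))

theorem nonsolvable_case (hs : Small G) (hD : IsPGroup 2 D) (hne : D ≠ ⊥)
    (hcore : ∀ K : Subgroup G, IsPGroup 2 K → K ≤ Subgroup.normalizer (D : Set G) →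
      Subgroup.normalizer (D : Set G) ≤ Subgroup.normalizer (K : Set G) → K ≤ D)
    (hsol : ¬ Group.IsSolvable ↥(Subgroup.normalizer (D : Set G)))
    (hC : Concl ↥(Subgroup.normalizer (D : Set G))) :
    ∃ R Z : Subgroup G, Free D R Z ∧ (∃ t ∈ R, t ∉ D ∧ t * t = 1) ∧
      Nat.card R = 4 * Nat.card D ∧
      ∃ k ∈ Subgroup.normalizer (D : Set G), orderOf k = 3 ∧ k ∈ Subgroup.normalizer (R : Set G) ∧
        ∀ x ∈ Subgroup.normalizer (D : Set G), orderOf x = 3 →
          ∃ s ∈ Subgroup.normalizer (D : Set G), s * s = 1 ∧ s * x * s = x⁻¹ := by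
  classical
  have := Fact.mk Nat.prime_two
  have := Fact.mk Nat.prime_three
  have := Fact.mk Nat.prime_five
  set N := Subgroup.normalizer (D : Set G) with _hN
  have hDN : D ≤ N := Subgroup.le_normalizer
  have hD'n : (D.subgroupOf N).Normal := normal_subgroupOf le_rfl
  have hDN2 : IsPGroup 2 (D.subgroupOf N) := hD.comap_of_injective N.subtype N.subtype_injective
  rcases hC with ⟨hsimple, -, -⟩ | ⟨M, hMn, hM, ⟨e⟩⟩
  · exfalso
    rcases hD'n.eq_bot_or_eq_top with h | h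
    · exact hne (by rw [Subgroup.subgroupOf_eq_bot] at h; exact h.eq_bot_of_le hDN)
    · have : IsPGroup 2 N := hD.to_le (Subgroup.subgroupOf_eq_top.1 h)
      have : Group.IsNilpotent N := this.isNilpotent
      exact hsol inferInstance
  have hMD : M ≤ D.subgroupOf N := le_of_normal_map hcore hMn (isPGroup_of_sq hM)
  let φ : ↥N →* A5 := e.toMonoidHom.comp (QuotientGroup.mk' M)
  have hφ : Function.Surjective φ := e.surjective.comp (QuotientGroup.mk'_surjective M)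
  have hker' : φ.ker = M := by
    ext x; simp [φ]
  have hker : φ.ker = D.subgroupOf N := by
    rw [hker']
    refine le_antisymm hMD fun x hx => ?_
    rw [← hker']
    have hn : ((D.subgroupOf N).map φ).Normal := hD'n.map φ hφ
    rcases hn.eq_bot_or_eq_top with h | h
    · exact MonoidHom.mem_ker.2 (Subgroup.mem_bot.1 (h ▸ ⟨x, hx, rfl⟩))
    · exfalso
      obtain ⟨n, hn⟩ := (h ▸ hDN2.map φ : IsPGroup 2 (⊤ : Subgroup A5)).exists_card_eq
      rw [Subgroup.card_top, card_A5] at hn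
      have := Nat.Prime.dvd_of_dvd_pow Nat.prime_three (hn ▸ (by norm_num : 3 ∣ 60))
      norm_num at this
  have hexp : ∀ x ∈ D, x * x = 1 := fun x hx => by
    have : (⟨x, hDN hx⟩ : ↥N) ∈ M := by rw [← hker', hker]; exact Subgroup.mem_subgroupOf.2 hx
    exact congrArg Subtype.val (hM _ this)
  have hlift : ∀ v : A5, v * v = 1 → v ≠ 1 → ∃ t k : ↥N, φ t = v ∧ (t : G) * t = 1 ∧
      orderOf (k : G) = 3 ∧ (t : G) * k * t = (k : G)⁻¹ := by
    intro v hv hv1
    obtain ⟨x, hx3, hx1, hvx⟩ := inverted v hv hv1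
    obtain ⟨k, rfl⟩ := hφ x
    have hk3 : orderOf (φ k) = 3 := orderOf_eq_prime hx3 hx1
    obtain ⟨t, h1, h2, h3⟩ := hs.exists_lift_inverting φ hker hD Nat.prime_three (by norm_num) hk3 hv
      hvx hφ
    exact ⟨t, k, h1, h2, hs.order_of_map φ Nat.prime_three (by norm_num) hk3, h3⟩
  obtain ⟨⟨hv11, hv12⟩, ⟨hv21, hv22⟩, ⟨hv31, hv32⟩⟩ := v_sq
  obtain ⟨t₁, k₁, ht₁, htt₁, hk₁, htk₁⟩ := hlift v₁ hv11 hv12
  obtain ⟨t₂, k₂, ht₂, htt₂, hk₂, htk₂⟩ := hlift v₂ hv21 hv22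
  obtain ⟨t₃, k₃, ht₃, htt₃, hk₃, htk₃⟩ := hlift v₃ hv31 hv32
  obtain ⟨b, hb⟩ := hφ aa
  have hb3 : orderOf (φ b) = 3 := by rw [hb]; exact orderOf_eq_prime aa_three.1 aa_three.2
  have hb3' : orderOf (b : G) = 3 := hs.order_of_map φ Nat.prime_three (by norm_num) hb3
  have hprod : ∀ {t : ↥N} {v : A5}, φ t = v → (v * aa) ^ 3 = 1 → v * aa ≠ 1 →
      orderOf ((t : G) * b) = 3 := fun {t v} h1 h2 h3 => by
    have := hs.order_of_map φ Nat.prime_three (by norm_num) (k := t * b)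
      (by rw [map_mul, h1, hb]; exact orderOf_eq_prime h2 h3)
    simpa using this
  obtain ⟨c1, c1', c2, c2', c3, c3'⟩ := coset_three
  obtain ⟨q1, q2, q3⟩ := coset_sq
  have h13 : fixedIn D (t₁ : G) ≤ fixedIn D (t₃ : G) := fun x hx =>
    hs.fix_shift le_rfl φ hker hexp hb3' (hprod ht₁ c1 c1') htt₁ hk₁ htk₁
      (by rw [ht₁, ht₃, hb]; exact q1) htt₃ hx
  have h32 : fixedIn D (t₃ : G) ≤ fixedIn D (t₂ : G) := fun x hx =>
    hs.fix_shift le_rfl φ hker hexp hb3' (hprod ht₃ c3 c3') htt₃ hk₃ htk₃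
      (by rw [ht₃, ht₂, hb]; exact q3) htt₂ hx
  have h21 : fixedIn D (t₂ : G) ≤ fixedIn D (t₁ : G) := fun x hx =>
    hs.fix_shift le_rfl φ hker hexp hb3' (hprod ht₂ c2 c2') htt₂ hk₂ htk₂
      (by rw [ht₂, ht₁, hb]; exact q2) htt₁ hx
  let P : Sylow 2 A5 := Sylow.ofCard fourGroup (by
    rw [card_fourGroup, card_A5]
    have e1 : Nat.factorization 60 2 = 2 := by
      rw [show (60 : ℕ) = 2 ^ 2 * 15 from rfl, Nat.factorization_mul (by norm_num) (by norm_num),
        Nat.Prime.factorization_pow Nat.prime_two, Finsupp.add_apply, Finsupp.single_eq_same,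
        Nat.factorization_eq_zero_of_not_dvd (by norm_num)]
    rw [e1]; rfl)
  set R := pre φ (P : Subgroup A5)
  have hcardR : Nat.card R = 4 * Nat.card D := by
    rw [card_pre φ hφ hker hDN, show (P : Subgroup A5) = fourGroup from rfl, card_fourGroup]
  have hcnt : Nat.card (fixedIn D (t₁ : G)) * Nat.card (fixedIn D (t₁ : G)) = Nat.card D :=
    hs.card_fixedIn hexp Nat.prime_three (by norm_num) hk₁ htt₁ htk₁ k₁.2 t₁.2
  have h1D : 1 < Nat.card D := (Subgroup.one_lt_card_iff_ne_bot D).2 hne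
  have hproper : D ≠ R := fun e => by rw [← e] at hcardR; omega
  have hmemD : ∀ {g : ↥N}, φ g = 1 → (g : G) ∈ D := fun {g} hg =>
    Subgroup.mem_subgroupOf.1 (hker ▸ MonoidHom.mem_ker.2 hg)
  refine ⟨R, fixedIn D (t₁ : G), ⟨hexp, hne, le_pre φ hker hDN _, fun x hx => (mem_pre.1 hx).1,
    isPGroup_pre φ hker hD P.isPGroup', fun T hT hTn _ => exists_cjg_pre φ hφ P hT hTn, ?_, hcnt,
    ?_, hproper⟩, ⟨t₁, mem_pre.2 ⟨t₁.2, Or.inr (Or.inl ht₁)⟩, ?_, htt₁⟩, hcardR,
    b, b.2, hb3', ?_, ?_⟩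
  · intro x hx hxD
    obtain ⟨hxN, hxP⟩ := mem_pre.1 hx
    rcases mem_fourGroup.1 hxP with h | h | h | h
    · exact absurd (hmemD h) hxD
    · exact fixedIn_eq_of_map_eq φ hker hexp (g := ⟨x, hxN⟩) (g' := t₁) (h.trans ht₁.symm)
    · rw [fixedIn_eq_of_map_eq φ hker hexp (g := ⟨x, hxN⟩) (g' := t₂) (h.trans ht₂.symm)]
      exact le_antisymm h21 (h13.trans h32)
    · rw [fixedIn_eq_of_map_eq φ hker hexp (g := ⟨x, hxN⟩) (g' := t₃) (h.trans ht₃.symm)]
      exact le_antisymm (h32.trans h21) h13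
  · rw [hcardR]
    refine Nat.mul_le_mul_right _ ?_
    by_contra hlt
    obtain ⟨n, hn⟩ := hD.exists_card_eq
    set c := Nat.card (fixedIn D (t₁ : G))
    have h123 : c = 1 ∨ c = 2 ∨ c = 3 := by
      have : 0 < c := Nat.card_pos
      omega
    rcases h123 with hc | hc | hc <;> rw [hc] at hcnt
    · omega
    · obtain ⟨f, hf⟩ := hφ ff
      exact five_not_dvd_four hs hexp hcnt.symm
        (hs.order_of_map φ Nat.prime_five (by norm_num) (k := f)
          (by rw [hf]; exact orderOf_eq_prime ff_five.1 ff_five.2)) f.2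
    · have := Nat.Prime.dvd_of_dvd_pow Nat.prime_three ((hn ▸ hcnt) ▸ dvd_mul_right 3 3)
      norm_num at this
  · exact fun h => hv12 (by rw [← ht₁]; exact MonoidHom.mem_ker.1 (hker ▸ Subgroup.mem_subgroupOf.2 h))
  · refine mem_normalizer_of_cjg (Subgroup.eq_of_le_of_card_ge ?_ (card_cjg _ _).ge)
    rintro _ ⟨x, hx, rfl⟩
    obtain ⟨hxN, hxP⟩ := mem_pre.1 hx
    refine mem_pre.2 ⟨N.mul_mem (N.mul_mem b.2 hxN) (N.inv_mem b.2), ?_⟩
    show φ (b * ⟨x, hxN⟩ * b⁻¹) ∈ fourGroup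
    rw [map_mul, map_mul, map_inv, hb]
    exact aa_fourGroup _ hxP
  · intro x hx hx3
    have hx1 : φ ⟨x, hx⟩ ≠ 1 := fun h => by
      have h4 : x ^ 4 = 1 := pow_four_of_sq (hexp x (hmemD h))
      have := orderOf_dvd_of_pow_eq_one h4
      rw [hx3] at this; norm_num at this
    have hx3' : φ ⟨x, hx⟩ ^ 3 = 1 := by
      rw [← map_pow, show (⟨x, hx⟩ : ↥N) ^ 3 = 1 from
        Subtype.ext (by simpa using hx3 ▸ pow_orderOf_eq_one x), map_one]
    obtain ⟨y, hy, -, hyx⟩ := invert_three _ hx3'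
    obtain ⟨s, -, hss, hsx⟩ := hs.exists_lift_inverting φ hker hD Nat.prime_three (by norm_num)
      (k := ⟨x, hx⟩) (orderOf_eq_prime hx3' hx1) hy hyx hφ
    exact ⟨s, s.2, hss, hsx⟩

/-- the constructor of free subgroups -/
theorem exists_free (hs : Small G) (hD : IsPGroup 2 D) (hne : D ≠ ⊥)
    (hcore : ∀ K : Subgroup G, IsPGroup 2 K → K ≤ Subgroup.normalizer (D : Set G) →
      Subgroup.normalizer (D : Set G) ≤ Subgroup.normalizer (K : Set G) → K ≤ D)
    (hex : ∃ g ∈ Subgroup.normalizer (D : Set G), g ∉ D ∧ g ^ 4 = 1)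
    (hC : ¬ Group.IsSolvable ↥(Subgroup.normalizer (D : Set G)) →
      Concl ↥(Subgroup.normalizer (D : Set G))) :
    ∃ R Z : Subgroup G, Free D R Z ∧ (∃ t ∈ R, t ∉ D ∧ t * t = 1) ∧
      (Nat.card R = 2 * Nat.card D ∨ (Nat.card R = 4 * Nat.card D ∧
      ∃ k ∈ Subgroup.normalizer (D : Set G), orderOf k = 3 ∧ k ∈ Subgroup.normalizer (R : Set G) ∧
        ∀ x ∈ Subgroup.normalizer (D : Set G), orderOf x = 3 →
          ∃ s ∈ Subgroup.normalizer (D : Set G), s * s = 1 ∧ s * x * s = x⁻¹)) := by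
  by_cases hsol : Group.IsSolvable ↥(Subgroup.normalizer (D : Set G))
  · obtain ⟨R, Z, h1, h2, h3⟩ := solvable_case hs hD hne hcore hex hsol
    exact ⟨R, Z, h1, h2, Or.inl h3⟩
  · obtain ⟨R, Z, h1, h2, h3, h4⟩ := nonsolvable_case hs hD hne hcore hsol (hC hsol)
    exact ⟨R, Z, h1, h2, Or.inr ⟨h3, h4⟩⟩

end Cfsg.Agent.Lib.RecogThree.OrdersFive
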