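import Cfsg.Agent.Lib.RecogThree.OrdersFive.Structure
import Cfsg.Agent.Lib.Frobenius.Basic
import Cfsg.Agent.S0144

/-! A simple group with element orders at most five whose Sylow 2-subgroups intersect trivially
has order 60. -/

set_option linter.unusedSectionVars false

namespace Cfsg.Agent.Lib.RecogThree.OrdersFive

variable {G : Type*} [Group G] [Finite G]

theorem Small.exists_primes (h : Small G) : ∃ a b c : ℕ, Nat.card G = 2 ^ a * 3 ^ b * 5 ^ c := by
  refine ⟨(Nat.card G).factorization 2, (Nat.card G).factorization 3, (Nat.card G).factorization 5, ?_⟩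
  refine Nat.eq_of_factorization_eq Nat.card_pos.ne' (by positivity) fun p => ?_
  simp only [Nat.factorization_mul (mul_ne_zero (pow_ne_zero _ two_ne_zero) (pow_ne_zero _ three_ne_zero))
    (pow_ne_zero _ (show (5 : ℕ) ≠ 0 by norm_num)),
    Nat.factorization_mul (pow_ne_zero _ two_ne_zero) (pow_ne_zero _ three_ne_zero),
    Nat.Prime.factorization_pow Nat.prime_two, Nat.Prime.factorization_pow Nat.prime_three,
    Nat.Prime.factorization_pow Nat.prime_five, Finsupp.add_apply, Finsupp.single_apply]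
  by_cases hp : p.Prime
  · by_cases hd : p ∣ Nat.card G
    · have := Fact.mk hp
      obtain ⟨g, hg⟩ := exists_prime_orderOf_dvd_card' (G := G) p hd
      rcases h.prime_cases hp (g := g) (by rw [hg]) with rfl | rfl | rfl <;> simp
    · rw [Nat.factorization_eq_zero_of_not_dvd hd]
      split_ifs with h1 h2 h3 <;> subst_vars <;>
        simp_all [Nat.factorization_eq_zero_of_not_dvd]
  · rw [Nat.factorization_eq_zero_of_not_prime _ hp]
    split_ifs with h1 h2 h3 <;> subst_vars <;> simp_all (config := { decide := true })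

/-- a simple non-solvable group with orders at most five has even order -/
theorem Small.two_dvd_card (h : Small G) (hns : ¬ Group.IsSolvable G) : 2 ∣ Nat.card G := by
  by_contra h2
  obtain ⟨a, b, c, e⟩ := h.exists_primes
  rcases a with _ | a
  · exact hns (S0144.result 3 5 b c Nat.prime_three Nat.prime_five (by rw [e]; ring))
  · exact h2 (e ▸ dvd_mul_of_dvd_left (dvd_mul_of_dvd_left (dvd_pow_self 2 a.succ_ne_zero) _) _)

/-- a non-trivial p-group, p odd, acting on a 2-group without fixed points has order `p` -/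
theorem Small.card_odd_sylow (h : Small G) (K : Subgroup G) [K.Normal] (hK : IsPGroup 2 K) (hK1 : K ≠ ⊥)
    {r : ℕ} (hr : r.Prime) (hr2 : r ≠ 2) {P : Subgroup (G ⧸ K)} (hP : IsPGroup r P) :
    Nat.card P ≤ r := by
  have := Fact.mk hr
  rcases eq_or_ne P ⊥ with rfl | hP1
  · rw [Subgroup.card_bot]; exact hr.one_le
  have hsQ := h.quotient K
  -- a commutative subgroup of `P` is cyclic of order at most `r`
  have hcyc : ∀ A : Subgroup (G ⧸ K), A ≤ P → (∀ a ∈ A, ∀ b ∈ A, a * b = b * a) → Nat.card A ≤ r := by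
    intro A hA hab
    have hAc : IsCyclic A := by_contra fun hc =>
      h.no_noncyclic_quotient K Nat.prime_two hr (Ne.symm hr2) hK hK1 (hP.to_le hA) hab hc
    obtain ⟨⟨g, hg⟩, hgA⟩ := hAc.exists_generator
    have : Nat.card A = orderOf g := by
      rw [← Subgroup.orderOf_mk g hg, orderOf_eq_card_of_forall_mem_zpowers hgA]
    rw [this]
    by_cases hg1 : g = 1
    · rw [hg1, orderOf_one]; exact hr.one_le
    obtain ⟨n, hn⟩ := IsPGroup.iff_orderOf.1 (hP.to_le hA) ⟨g, hg⟩
    rw [Subgroup.orderOf_mk] at hn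
    rw [hn]
    rcases n with _ | _ | n
    · simpa using hr.one_le
    · simp
    · exfalso
      have h5 := hsQ g
      rw [hn] at h5
      have h9 : 3 ^ 2 ≤ r ^ (n + 1 + 1) :=
        (Nat.pow_le_pow_left (by have := hr.two_le; omega) 2).trans (Nat.pow_le_pow_right hr.pos (by omega))
      omega
  have : Nontrivial P := (Subgroup.nontrivial_iff_ne_bot P).2 hP1
  obtain ⟨z, hz, hz1⟩ := (Subgroup.center (↥P)).bot_or_exists_ne_one.resolve_left
    (fun e => (Subgroup.nontrivial_iff_ne_bot _).1 hP.center_nontrivial e)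
  have hzr : orderOf (z : G ⧸ K) = r := by
    obtain ⟨n, hn⟩ := IsPGroup.iff_orderOf.1 hP z
    rw [Subgroup.orderOf_coe]
    rcases n with _ | _ | n
    · rw [pow_zero, orderOf_eq_one_iff] at hn; exact absurd hn hz1
    · rw [hn]; simp
    · exfalso
      have h5 := hsQ (z : G ⧸ K)
      rw [Subgroup.orderOf_coe, hn] at h5
      have h9 : 3 ^ 2 ≤ r ^ (n + 1 + 1) :=
        (Nat.pow_le_pow_left (by have := hr.two_le; omega) 2).trans (Nat.pow_le_pow_right hr.pos (by omega))
      omega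
  suffices hle : P ≤ Subgroup.zpowers (z : G ⧸ K) by
    have := Subgroup.card_le_of_le hle
    rwa [Nat.card_zpowers, hzr] at this
  intro x hx
  set A := Subgroup.closure ({(z : G ⧸ K), x} : Set (G ⧸ K))
  have hA : A ≤ P := (Subgroup.closure_le _).2 fun y hy => by
    rcases hy with rfl | rfl
    · exact z.2
    · exact hx
  have hab : ∀ a ∈ A, ∀ b ∈ A, a * b = b * a := by
    have hc : (z : G ⧸ K) * x = x * z :=
      congrArg Subtype.val (Subgroup.mem_center_iff.1 hz ⟨x, hx⟩).symm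
    have := Subgroup.isMulCommutative_closure (k := ({(z : G ⧸ K), x} : Set (G ⧸ K)))
      (by rintro a (rfl | rfl) b (rfl | rfl) <;> first | rfl | exact hc | exact hc.symm)
    exact fun a ha b hb => congrArg Subtype.val (this.is_comm.comm ⟨a, ha⟩ ⟨b, hb⟩)
  have e : Subgroup.zpowers (z : G ⧸ K) = A :=
    Subgroup.eq_of_le_of_card_ge (Subgroup.zpowers_le.2 (Subgroup.subset_closure (by simp)))
      (by rw [Nat.card_zpowers, hzr]; exact hcyc A hA hab)
  rw [e]
  exact Subgroup.subset_closure (by simp)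

theorem cube_eq_one_five : ∀ u : ZMod 5, u * u * u - 1 = 0 → u - 1 = 0 := by decide

/-- the odd order quotient by a normal 2-subgroup -/
theorem Small.card_odd_quotient (h : Small G) (K : Subgroup G) [K.Normal] (hK : IsPGroup 2 K)
    (hK1 : K ≠ ⊥) (hodd : ¬ 2 ∣ Nat.card (G ⧸ K)) :
    Nat.card (G ⧸ K) = 1 ∨ Nat.card (G ⧸ K) = 3 ∨ Nat.card (G ⧸ K) = 5 := by
  have hsQ := h.quotient K
  have := Fact.mk Nat.prime_three
  have := Fact.mk Nat.prime_five
  obtain ⟨a, b, c, e⟩ := hsQ.exists_primes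
  have ha : a = 0 := by
    by_contra h0
    exact hodd (e ▸ dvd_mul_of_dvd_left (dvd_mul_of_dvd_left (dvd_pow_self 2 h0) _) _)
  subst ha
  rw [pow_zero, one_mul] at e
  have hbound : ∀ r n : ℕ, r.Prime → r ≠ 2 → r ^ n ∣ Nat.card (G ⧸ K) → n ≤ 1 := by
    intro r n hr hr2 hd
    have := Fact.mk hr
    obtain ⟨P, hP⟩ := Sylow.exists_subgroup_card_pow_prime r hd
    have h1 := h.card_odd_sylow K hK hK1 hr hr2 (IsPGroup.of_card hP)
    rw [hP] at h1
    by_contra hn
    have : r ^ 1 < r ^ n := Nat.pow_lt_pow_right hr.one_lt (by omega)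
    rw [pow_one] at this
    omega
  have hb := hbound 3 b Nat.prime_three (by norm_num) (e ▸ dvd_mul_right _ _)
  have hc := hbound 5 c Nat.prime_five (by norm_num) (e ▸ dvd_mul_left _ _)
  interval_cases b <;> interval_cases c
  · exact Or.inl e
  · exact Or.inr (Or.inr e)
  · exact Or.inr (Or.inl e)
  · exfalso
    norm_num at e
    obtain ⟨x, hx⟩ := exists_prime_orderOf_dvd_card' (G := G ⧸ K) 3 (by rw [e]; norm_num)
    obtain ⟨y, hy⟩ := exists_prime_orderOf_dvd_card' (G := G ⧸ K) 5 (by rw [e]; norm_num)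
    have hn : (Subgroup.zpowers y).Normal := by
      obtain ⟨S, hS⟩ := (IsPGroup.of_card (n := 1) (by rw [Nat.card_zpowers, hy, pow_one]) :
        IsPGroup 5 (Subgroup.zpowers y)).exists_le_sylow
      have hcS : Nat.card S = 5 := by
        rw [S.card_eq_multiplicity, e, show (15 : ℕ) = 3 * 5 from rfl,
          Nat.factorization_mul (by norm_num) (by norm_num), Finsupp.add_apply,
          Nat.Prime.factorization_self Nat.prime_five, Nat.factorization_eq_zero_of_not_dvd (by norm_num)]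
        rfl
      have hSy : Subgroup.zpowers y = S :=
        Subgroup.eq_of_le_of_card_ge hS (by rw [Nat.card_zpowers, hy]; exact hcS.le)
      have hns : Nat.card (Sylow 5 (G ⧸ K)) = 1 := by
        have h1 := card_sylow_modEq_one 5 (G ⧸ K)
        have h2 := S.card_dvd_index
        have h3 := S.toSubgroup.card_mul_index
        rw [show Nat.card S.toSubgroup = 5 from hcS, e] at h3
        have h4 : (S : Subgroup (G ⧸ K)).index = 3 := by omega
        rw [h4] at h2
        rcases (Nat.dvd_prime Nat.prime_three).1 h2 with hh | hh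
        · exact hh
        · rw [hh] at h1; exact absurd h1 (by decide)
      have : Subsingleton (Sylow 5 (G ⧸ K)) := (Nat.card_eq_one_iff_unique.1 hns).1
      rw [hSy]
      exact S.normal_of_subsingleton
    obtain ⟨j, hj⟩ := Subgroup.mem_zpowers_iff.1 (hn.conj_mem y (Subgroup.mem_zpowers y) x)
    -- the cube of conjugation by `x` is trivial and only `1` has cube `1` modulo 5
    have h3 : y ^ (j * j * j - 1) = 1 := by
      have hx3 : x ^ 3 = 1 := hx ▸ pow_orderOf_eq_one x
      have e1 : x * (x * (x * y * x⁻¹) * x⁻¹) * x⁻¹ = x ^ 3 * y * (x ^ 3)⁻¹ := by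
        simp only [pow_succ, pow_zero, one_mul]; group
      rw [← hj, ← conj_zpow, ← hj, ← zpow_mul, ← conj_zpow, ← hj, ← zpow_mul, hx3, one_mul, inv_one,
        mul_one, ← mul_assoc] at e1
      rw [zpow_sub, e1, zpow_one, mul_inv_cancel]
    rw [← orderOf_dvd_iff_zpow_eq_one, hy] at h3
    have h4 : (5 : ℤ) ∣ j - 1 := by
      have := cube_eq_one_five (j : ZMod 5) (by exact_mod_cast (ZMod.intCast_zmod_eq_zero_iff_dvd _ 5).2 h3)
      exact_mod_cast (ZMod.intCast_zmod_eq_zero_iff_dvd (j - 1) 5).1 (by exact_mod_cast this)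
    have h6 : y ^ (j - 1) = 1 := orderOf_dvd_iff_zpow_eq_one.1 (by rw [hy]; exact h4)
    have hxy : Commute x y := by
      have : x * y * x⁻¹ = y := by
        rw [← hj, show j = (j - 1) + 1 by ring, zpow_add, h6, one_mul, zpow_one]
      exact mul_inv_eq_iff_eq_mul.1 this
    rcases hsQ.eq_one_of_commute hxy (by rw [hx, hy]; norm_num) with hh | hh
    · rw [hh, orderOf_one] at hx; norm_num at hx
    · rw [hh, orderOf_one] at hy; norm_num at hy

theorem Small.pow_two_add_one {e : ℕ} {f : ℕ} (h : 2 ^ e + 1 = 5 ^ f) : e = 2 := by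
  rcases Nat.lt_or_ge e 3 with he | he
  · interval_cases e
    · exfalso
      rcases f with _ | f
      · norm_num at h
      · have : 5 ^ 1 ≤ 5 ^ (f + 1) := Nat.pow_le_pow_right (by norm_num) (by omega)
        omega
    · exfalso
      rcases f with _ | f
      · norm_num at h
      · have : 5 ^ 1 ≤ 5 ^ (f + 1) := Nat.pow_le_pow_right (by norm_num) (by omega)
        omega
    · rfl
  · exfalso
    obtain ⟨m, rfl | rfl⟩ := Nat.even_or_odd' f
    · rw [pow_mul, show (5 : ℕ) ^ 2 = 25 from rfl] at h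
      set u := 5 ^ m with hu
      have h2 : u * u = 2 ^ e + 1 := by rw [hu, ← mul_pow, show 5 * 5 = 25 from rfl, h]
      have hu1 : 1 ≤ u := Nat.one_le_pow _ _ (by norm_num)
      have hd : (u - 1) * (u + 1) = 2 ^ e := by
        rw [mul_comm, ← Nat.sq_sub_sq u 1, pow_two, one_pow, h2, Nat.add_sub_cancel]
      obtain ⟨i, -, hi⟩ := (Nat.dvd_prime_pow Nat.prime_two).1 (Dvd.intro_left _ hd : u + 1 ∣ 2 ^ e)
      obtain ⟨j, -, hj⟩ := (Nat.dvd_prime_pow Nat.prime_two).1 (Dvd.intro _ hd : u - 1 ∣ 2 ^ e)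
      have h1 : j < i := (Nat.pow_lt_pow_iff_right (le_refl 2)).1 (by omega)
      have h2j : 2 ^ j ∣ 2 := by
        have := Nat.pow_dvd_pow 2 h1.le
        have h' : 2 ^ i = 2 ^ j + 2 := by omega
        rw [h'] at this
        exact (Nat.dvd_add_right (dvd_refl _)).1 this
      have hle : 2 ^ j ≤ 2 := Nat.le_of_dvd (by norm_num) h2j
      -- so `u ≤ 3`, while `u` is a power of 5
      rcases m with _ | m
      · rw [pow_zero] at hu; rw [hu] at h2; have := Nat.two_pow_pos e; omega
      · have : 5 ^ 1 ≤ u := hu ▸ Nat.pow_le_pow_right (by norm_num) (by omega)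
        omega
    · have h8 : 2 ^ e % 8 = 0 := Nat.mod_eq_zero_of_dvd (Nat.pow_dvd_pow 2 he)
      have h5 : 5 ^ (2 * m + 1) % 8 = 5 := by
        rw [pow_succ, pow_mul, Nat.mul_mod, Nat.pow_mod]; norm_num
      omega

/-- a simple group with element orders at most five and TI Sylow 2-subgroups has order 60 -/
theorem Small.card_of_TI (h : Small G) [IsSimpleGroup G] (hns : ¬ Group.IsSolvable G) (S : Sylow 2 G)
    (hTI : ∀ g : G, g ∉ Subgroup.normalizer ((S : Subgroup G) : Set G) →
      ∀ x ∈ (S : Subgroup G), g⁻¹ * x * g ∈ (S : Subgroup G) → x = 1) :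
    Nat.card G = 60 := by
  classical
  have := Fact.mk Nat.prime_two
  have := Fact.mk Nat.prime_three
  have := Fintype.ofFinite G
  set T : Subgroup G := (S : Subgroup G) with hT
  have hTp : IsPGroup 2 T := S.isPGroup'
  have hT1 : T ≠ ⊥ := fun e => by
    have h2 := S.card_eq_multiplicity
    rw [← hT, e, Subgroup.card_bot] at h2
    have := (Nat.Prime.factorization_pos_of_dvd Nat.prime_two Nat.card_pos.ne' (h.two_dvd_card hns))
    rcases hf : (Nat.card G).factorization 2 with _ | n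
    · omega
    · rw [hf, pow_succ] at h2; omega
  set H := Subgroup.normalizer (T : Set G) with hH
  have hTH : T ≤ H := Subgroup.le_normalizer
  have hHtop : H ≠ ⊤ := fun e => by
    have hn : T.Normal := Subgroup.normalizer_eq_top_iff.1 e
    rcases hn.eq_bot_or_eq_top with e' | e'
    · exact hT1 e'
    · have : IsPGroup 2 G := hTp.of_equiv ((MulEquiv.subgroupCongr e').trans Subgroup.topEquiv)
      have : Group.IsNilpotent G := this.isNilpotent
      exact hns inferInstance
  have hconjT : ∀ {g : G}, g ∈ H → ∀ x ∈ T, g * x * g⁻¹ ∈ T := fun hg x hx =>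
    ((Subgroup.mem_normalizer_iff.1 hg) x).1 hx
  have hmem2 : ∀ {x : G}, x ∈ H → IsPGroup 2 (Subgroup.zpowers x) → x ∈ T := by
    intro x hx hxp
    have hsup : IsPGroup 2 ↥(T ⊔ Subgroup.zpowers x) := by
      have := IsPGroup.to_sup_of_normal_right' hxp hTp (Subgroup.zpowers_le.2 hx)
      rwa [sup_comm]
    rw [show T = T ⊔ Subgroup.zpowers x from (S.3 hsup le_sup_left).symm]
    exact Subgroup.mem_sup_right (Subgroup.mem_zpowers x)
  -- centralisers
  have hC : ∀ x ∈ T, x ≠ 1 → ∀ g : G, g * x = x * g → g ∈ T := by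
    intro x hx hx1 g hg
    obtain ⟨n, hn⟩ := IsPGroup.iff_orderOf.1 hTp ⟨x, hx⟩
    rw [Subgroup.orderOf_mk] at hn
    have h2 : 2 ∣ orderOf x := by
      rcases n with _ | n
      · exact absurd (orderOf_eq_one_iff.1 hn) hx1
      · exact hn ▸ dvd_pow_self 2 n.succ_ne_zero
    obtain ⟨S', hS'⟩ := (h.isPGroup_centralizer Nat.prime_two h2).exists_le_sylow
    obtain ⟨a, ha⟩ := MulAction.exists_smul_eq G S S'
    have hS'c : ∀ y ∈ (S' : Subgroup G), a⁻¹ * y * a ∈ T := fun y hy => by
      rw [← ha, Sylow.coe_subgroup_smul] at hy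
      exact mem_cjg.1 hy
    have haH : a ∈ H := by
      by_contra haH
      exact hx1 (hTI a haH x hx (hS'c x (hS' (Subgroup.mem_centralizer_singleton_iff.2 rfl))))
    have := hconjT haH _ (hS'c g (hS' (Subgroup.mem_centralizer_singleton_iff.2 hg)))
    simpa [mul_assoc] using this
  -- a central involution
  obtain ⟨x₀, hx₀, hx₀2, hx₀c⟩ : ∃ x₀ ∈ T, orderOf x₀ = 2 ∧ ∀ y ∈ T, y * x₀ = x₀ * y := by
    have : Nontrivial T := (Subgroup.nontrivial_iff_ne_bot T).2 hT1
    obtain ⟨n, hn⟩ := (hTp.to_subgroup (Subgroup.center T)).exists_card_eq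
    have h2 : 2 ∣ Nat.card (Subgroup.center T) := by
      rcases n with _ | n
      · have := hTp.center_nontrivial
        have h1 : 1 < Nat.card (Subgroup.center T) := Finite.one_lt_card
        omega
      · exact hn ▸ dvd_pow_self 2 n.succ_ne_zero
    obtain ⟨z, hz⟩ := exists_prime_orderOf_dvd_card' (G := Subgroup.center T) 2 h2
    refine ⟨((z : T) : G), (z : T).2, by rw [Subgroup.orderOf_coe, Subgroup.orderOf_coe, hz], fun y hy => ?_⟩
    exact congrArg Subtype.val (Subgroup.mem_center_iff.1 z.2 ⟨y, hy⟩)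
  have hx₀1 : x₀ ≠ 1 := fun e => by rw [e, orderOf_one] at hx₀2; omega
  have hx₀s : x₀ * x₀ = 1 := Lib.Involutions.Basic.invol_mul_self hx₀2
  -- an involution outside `H`
  obtain ⟨y₀, hy₀, hy₀H⟩ : ∃ y, orderOf y = 2 ∧ y ∉ H := by
    by_contra hcon
    push Not at hcon
    rcases (Subgroup.normalClosure_normal (s := ({x₀} : Set G))).eq_bot_or_eq_top with hb | ht
    · exact hx₀1 (Subgroup.mem_bot.1 (hb ▸ Subgroup.subset_normalClosure (Set.mem_singleton x₀)))
    · refine hHtop (top_le_iff.1 (ht ▸ (Subgroup.closure_le _).2 fun x hx => ?_))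
      obtain ⟨a, ha, hax⟩ := Group.mem_conjugatesOfSet_iff.1 hx
      rw [Set.mem_singleton_iff] at ha
      subst ha
      obtain ⟨g, rfl⟩ := isConj_iff.1 hax
      exact hcon _ (by rw [Lib.Involutions.Basic.orderOf_conj_eq, hx₀2])
  -- involutions of `H` lie in `T` and are conjugate in `H`
  have hinT : ∀ y, orderOf y = 2 → y ∈ H → y ∈ T := fun y hy hyH =>
    hmem2 hyH (IsPGroup.of_card (n := 1) (by rw [Nat.card_zpowers, hy, pow_one]))
  have hconj : ∀ x ∈ T, orderOf x = 2 → ∃ g ∈ H, g * x₀ * g⁻¹ = x := by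
    intro x hx hx2
    have hcy : ∀ u ∈ T, orderOf u = 2 → IsConj u y₀ := by
      intro u hu hu2
      refine by_contra fun hnc => hy₀H ?_
      obtain ⟨z, hz2, hzu, hzy⟩ : ∃ z, orderOf z = 2 ∧ z * u = u * z ∧ z * y₀ = y₀ * z := by
        obtain ⟨j, hj⟩ := (Lib.Involutions.Basic.even_of_not_isConj hu2 hy₀ hnc).two_dvd
        have hus := Lib.Involutions.Basic.invol_mul_self hu2
        have hys := Lib.Involutions.Basic.invol_mul_self hy₀
        have hpos := orderOf_pos (u * y₀)
        have hord : orderOf ((u * y₀) ^ j) = 2 := by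
          rw [orderOf_pow_of_dvd (by omega) (Dvd.intro_left _ hj.symm), hj,
            Nat.mul_div_cancel _ (by omega : 0 < j)]
        have := Lib.Involutions.Basic.invert_comm hus (Lib.Involutions.Basic.invert_mul hus hys) (j : ℤ)
        rw [zpow_natCast, zpow_neg, zpow_natCast, Lib.Involutions.Basic.invol_inv hord] at this
        refine ⟨_, hord, this, ?_⟩
        have hc : Commute ((u * y₀) ^ j) (u * y₀) := (Commute.refl _).pow_left j
        have hcu : Commute ((u * y₀) ^ j) u := this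
        have := (hcu.mul_right hc).eq
        rwa [← mul_assoc u u y₀, hus, one_mul] at this
      have hzT : z ∈ T := hC u hu (Lib.Involutions.Basic.invol_ne_one hu2) z hzu
      exact hTH (hC z hzT (Lib.Involutions.Basic.invol_ne_one hz2) y₀ hzy.symm)
    obtain ⟨g, hg⟩ := isConj_iff.1 ((hcy x₀ hx₀ hx₀2).trans (hcy x hx hx2).symm)
    refine ⟨g, by_contra fun hgH => Lib.Involutions.Basic.invol_ne_one hx2 (hTI g hgH x hx ?_), hg⟩
    rw [← hg]; simpa [mul_assoc] using hx₀
  -- the number `m` of involutions in `T`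
  let J : Finset G := Finset.univ.filter fun x => x ∈ T ∧ orderOf x = 2
  have : (T.subgroupOf H).Normal :=
    ⟨fun x hx g => Subgroup.mem_subgroupOf.2 (hconjT g.2 _ (Subgroup.mem_subgroupOf.1 hx))⟩
  set Q := ↥H ⧸ T.subgroupOf H
  have hJcard : Nat.card Q = J.card := by
    rw [← Nat.card_eq_finsetCard]
    have hmem : ∀ q : Q, (q.out : G) * x₀ * (q.out : G)⁻¹ ∈ J := fun q =>
      Finset.mem_filter.2 ⟨Finset.mem_univ _, hconjT q.out.2 _ hx₀,
        by rw [Lib.Involutions.Basic.orderOf_conj_eq, hx₀2]⟩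
    refine Nat.card_eq_of_bijective (fun q => ⟨_, hmem q⟩) ⟨fun q q' e => ?_, fun x => ?_⟩
    · have e' : (q.out : G) * x₀ * (q.out : G)⁻¹ = (q'.out : G) * x₀ * (q'.out : G)⁻¹ :=
        congrArg Subtype.val e
      rw [← QuotientGroup.out_eq' q, ← QuotientGroup.out_eq' q', QuotientGroup.eq, Subgroup.mem_subgroupOf]
      refine hC x₀ hx₀ hx₀1 _ ?_
      push_cast
      calc (q.out : G)⁻¹ * q'.out * x₀ = (q.out : G)⁻¹ * (q'.out * x₀ * (q'.out : G)⁻¹) * q'.out := by group
        _ = (q.out : G)⁻¹ * (q.out * x₀ * (q.out : G)⁻¹) * q'.out := by rw [e']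
        _ = _ := by group
    · obtain ⟨g, hgH, hg⟩ := hconj x.1 (Finset.mem_filter.1 x.2).2.1 (Finset.mem_filter.1 x.2).2.2
      refine ⟨(⟨g, hgH⟩ : ↥H), Subtype.ext ?_⟩
      have hs : (⟨g, hgH⟩ : ↥H)⁻¹ * (((⟨g, hgH⟩ : ↥H) : Q)).out ∈ T.subgroupOf H :=
        QuotientGroup.eq.1 (QuotientGroup.out_eq' _).symm
      rw [Subgroup.mem_subgroupOf] at hs
      push_cast at hs
      set o : G := (((((⟨g, hgH⟩ : ↥H) : Q)).out : ↥H) : G)
      show o * x₀ * o⁻¹ = x.1
      rw [← hg]
      have hc := hx₀c _ hs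
      calc o * x₀ * o⁻¹ = g * (g⁻¹ * o * x₀) * (g⁻¹ * o)⁻¹ * g⁻¹ := by group
        _ = g * (x₀ * (g⁻¹ * o)) * (g⁻¹ * o)⁻¹ * g⁻¹ := by rw [hc]
        _ = _ := by group
  have hJcomm : ∀ x ∈ J, ∀ y ∈ T, y * x = x * y := by
    intro x hx y hy
    obtain ⟨g, hgH, rfl⟩ := hconj x (Finset.mem_filter.1 hx).2.1 (Finset.mem_filter.1 hx).2.2
    have h1 : g⁻¹ * y * g ∈ T := by simpa using hconjT (H.inv_mem hgH) y hy
    calc y * (g * x₀ * g⁻¹) = g * (g⁻¹ * y * g * x₀) * g⁻¹ := by group
      _ = g * (x₀ * (g⁻¹ * y * g)) * g⁻¹ := by rw [hx₀c _ h1]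
      _ = _ := by group
  have hsq : ∀ x ∈ T, x * x = 1 → x = 1 ∨ x ∈ J := fun x hx hxx => by
    by_cases hx1 : x = 1
    · exact Or.inl hx1
    · exact Or.inr (Finset.mem_filter.2 ⟨Finset.mem_univ _, hx,
        Lib.Involutions.Basic.invol_iff.2 ⟨hxx, hx1⟩⟩)
  let Ω : Subgroup G :=
    { carrier := {x | x ∈ T ∧ x * x = 1}
      mul_mem' := fun {a b} ha hb => ⟨T.mul_mem ha.1 hb.1, by
        have hab : b * a = a * b := by
          rcases hsq a ha.1 ha.2 with rfl | haJ
          · simp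
          · exact hJcomm a haJ b hb.1
        calc a * b * (a * b) = a * (b * a) * b := by group
          _ = a * (a * b) * b := by rw [hab]
          _ = (a * a) * (b * b) := by group
          _ = 1 := by rw [ha.2, hb.2, mul_one]⟩
      one_mem' := ⟨T.one_mem, mul_one 1⟩
      inv_mem' := fun {a} ha => ⟨T.inv_mem ha.1, by rw [← mul_inv_rev, ha.2, inv_one]⟩ }
  obtain ⟨w, hw⟩ : ∃ w, J.card + 1 = 2 ^ w := by
    obtain ⟨w, hw⟩ := (isPGroup_of_sq (M := Ω) fun x hx => hx.2).exists_card_eq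
    refine ⟨w, ?_⟩
    rw [← hw]
    have hΩ : (Ω : Set G) = ↑(insert 1 J) := by
      ext x
      simp only [Finset.coe_insert, Set.mem_insert_iff, Finset.mem_coe]
      constructor
      · exact fun hx => hsq x hx.1 hx.2
      · rintro (rfl | hx)
        · exact Ω.one_mem
        · exact ⟨(Finset.mem_filter.1 hx).2.1,
            Lib.Involutions.Basic.invol_mul_self (Finset.mem_filter.1 hx).2.2⟩
    rw [← SetLike.coe_sort_coe, hΩ, Nat.card_coe_set_eq, Set.ncard_coe_finset, Finset.card_insert_of_notMem]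
    simp [J]
  have hidx : T.index % 2 = 1 := Nat.two_dvd_ne_zero.1 S.not_dvd_index
  have hodd : ¬ 2 ∣ Nat.card Q := fun h2 => by
    have := h2.trans (Subgroup.relIndex_dvd_index_of_le hTH : T.relIndex H ∣ T.index)
    omega
  have hTpH : IsPGroup 2 (T.subgroupOf H) := hTp.comap_of_injective H.subtype H.subtype_injective
  have hm : Nat.card Q = 1 ∨ Nat.card Q = 3 := by
    rcases (h.subgroup H).card_odd_quotient (T.subgroupOf H) hTpH (fun e => hT1 (by
        rw [Subgroup.subgroupOf_eq_bot] at e; exact e.eq_bot_of_le hTH)) hodd with e | e | e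
    · exact Or.inl e
    · exact Or.inr e
    · exfalso
      rw [← hJcard, e] at hw
      rcases w with _ | _ | _ | w
      · norm_num at hw
      · norm_num at hw
      · norm_num at hw
      · have : 2 ^ 3 ≤ 2 ^ (w + 1 + 1 + 1) := Nat.pow_le_pow_right (by norm_num) (by omega)
        omega
  rcases hm with hm | hm
  · -- `T` is a Frobenius complement
    exfalso
    have hHT : H = T := by
      refine le_antisymm ?_ hTH
      rw [← Subgroup.relIndex_eq_one]
      exact hm
    have hF : Cfsg.IsFrobeniusComplement T := Lib.Frobenius.isFrobeniusComplement_iff.2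
      ⟨hT1, fun e => hHtop (hHT.trans e), fun g hg x hx hx' => hTI g (hHT.symm ▸ hg) x hx hx'⟩
    obtain ⟨N, -, hNn, hNc, -, -⟩ :=
      Lib.Frobenius.exists_kernel_of_involution hF hx₀ hx₀1 hx₀s
    rcases hNn.eq_bot_or_eq_top with e | e
    · rw [e] at hNc
      exact hHtop (hHT.trans (Subgroup.isComplement'_bot_left.1 hNc))
    · rw [e] at hNc
      exact hT1 (Subgroup.isComplement'_top_left.1 hNc)
  -- `|H| = 3 |T|`
  have hTidx : T.relIndex H = 3 := hm
  have hHcard : Nat.card H = 3 * Nat.card T := by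
    have := (T.subgroupOf H).card_mul_index
    rw [Nat.card_congr (Subgroup.subgroupOfEquivOfLe hTH).toEquiv] at this
    rw [← this, mul_comm]
    congr 1
  have hcube : ∀ x ∈ H, x ^ 3 ∈ T := fun x hx => by
    have := Subgroup.pow_index_mem (T.subgroupOf H) (⟨x, hx⟩ : ↥H)
    rw [show (T.subgroupOf H).index = 3 from hTidx, Subgroup.mem_subgroupOf] at this
    simpa using this
  have hord3 : ∀ x ∈ H, x ∉ T → orderOf x = 3 := by
    intro x hx hxT
    have h4 : (x ^ 3) ^ 4 = 1 := h.pow_four_of_mem hTp (hcube x hx)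
    rw [← pow_mul] at h4
    have hd := orderOf_dvd_of_pow_eq_one h4
    rcases h.dvd_cases x with e | e | e | e | e
    · exact absurd ((orderOf_eq_one_iff.1 e).symm ▸ T.one_mem) hxT
    · exact absurd (hinT x e hx) hxT
    · exact e
    · exact absurd (hmem2 hx (IsPGroup.of_card (n := 2) (by rw [Nat.card_zpowers, e]; rfl))) hxT
    · rw [e] at hd; norm_num at hd
  -- intersections with conjugates of `H`
  have hD : ∀ g : G, g ∉ H → Nat.card ↥(H ⊓ cjg g H) ≤ 3 := by
    intro g hg
    have hbot : (H ⊓ cjg g H) ⊓ T = ⊥ := by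
      rw [Subgroup.eq_bot_iff_forall]
      rintro x ⟨⟨-, hxg⟩, hxT⟩
      refine hTI g hg x hxT ?_
      refine hmem2 (mem_cjg.1 hxg) ?_
      obtain ⟨n, hn⟩ := IsPGroup.iff_orderOf.1 hTp ⟨x, hxT⟩
      rw [Subgroup.orderOf_mk] at hn
      refine IsPGroup.of_card (n := n) ?_
      rw [Nat.card_zpowers, ← hn, ← Lib.Involutions.Basic.orderOf_conj_eq g⁻¹ x, inv_inv]
    have := card_mul_card_le (inf_le_left : H ⊓ cjg g H ≤ H) hTH
    rw [hbot, Subgroup.card_bot, one_mul, hHcard] at this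
    exact Nat.le_of_mul_le_mul_right this Nat.card_pos
  -- involutions in the cosets of `H`
  let I : Finset G := Finset.univ.filter fun y => orderOf y = 2
  let F : G ⧸ H → Finset G := fun q => I.filter fun y => (y : G ⧸ H) = q
  have hy : ∀ {q : G ⧸ H} {y}, y ∈ F q → orderOf y = 2 ∧ (y : G ⧸ H) = q := fun hy =>
    ⟨(Finset.mem_filter.1 (Finset.mem_filter.1 hy).1).2, (Finset.mem_filter.1 hy).2⟩
  have hy' : ∀ {q : G ⧸ H} {y}, q ≠ ((1 : G) : G ⧸ H) → y ∈ F q → y ∉ H := fun hq hy' hyH => hq (by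
    rw [← (hy hy').2, QuotientGroup.eq]; simpa using hyH)
  have hdiff : ∀ {q : G ⧸ H} {y y'}, y ∈ F q → y' ∈ F q → y * y' ∈ H ⊓ cjg y H := by
    intro q y y' h1 h2
    have hyy := Lib.Involutions.Basic.invol_inv (hy h1).1
    have hmem : y * y' ∈ H := by
      have := (QuotientGroup.eq (s := H)).1 ((hy h1).2.trans (hy h2).2.symm)
      rwa [hyy] at this
    refine ⟨hmem, mem_cjg.2 ?_⟩
    rw [show y⁻¹ * (y * y') * y = (y * y')⁻¹ by
      rw [mul_inv_rev, hyy, Lib.Involutions.Basic.invol_inv (hy h2).1, ← mul_assoc y y,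
        Lib.Involutions.Basic.invol_mul_self (hy h1).1, one_mul]]
    exact H.inv_mem hmem
  have hJ3 : J.card = 3 := by rw [← hJcard, hm]
  have hF1 : ∀ q, (F q).card ≤ 3 := by
    intro q
    by_cases hq : q = ((1 : G) : G ⧸ H)
    · rw [← hJ3]
      refine Finset.card_le_card fun y h1 => ?_
      have hyH : y ∈ H := by
        have := (QuotientGroup.eq (s := H)).1 ((hy h1).2.trans hq)
        simpa using this
      exact Finset.mem_filter.2 ⟨Finset.mem_univ _, hinT y (hy h1).1 hyH, (hy h1).1⟩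
    rcases (F q).eq_empty_or_nonempty with e | ⟨y, h1⟩
    · rw [e]; simp
    refine le_trans ?_ (hD y (hy' hq h1))
    rw [← Nat.card_eq_finsetCard]
    exact Nat.card_le_card_of_injective (fun y' => ⟨y * y'.1, hdiff h1 y'.2⟩)
      fun a b e => Subtype.ext (mul_left_cancel (congrArg Subtype.val e))
  have hI : 3 * Nat.card (G ⧸ H) ≤ I.card := by
    rw [← Nat.card_eq_finsetCard, ← hJ3, ← Nat.card_eq_finsetCard J, mul_comm, ← Nat.card_prod]
    refine Nat.card_le_card_of_injective
      (fun p => ⟨p.1.out * p.2.1 * p.1.out⁻¹, Finset.mem_filter.2 ⟨Finset.mem_univ _,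
        by rw [Lib.Involutions.Basic.orderOf_conj_eq]; exact (Finset.mem_filter.1 p.2.2).2.2⟩⟩) ?_
    rintro ⟨q, x, hx⟩ ⟨q', x', hx'⟩ e
    have e' : q.out * x * q.out⁻¹ = q'.out * x' * q'.out⁻¹ := congrArg Subtype.val e
    have hqq : q = q' := by
      rw [← QuotientGroup.out_eq' q, ← QuotientGroup.out_eq' q', QuotientGroup.eq]
      by_contra hn
      refine Lib.Involutions.Basic.invol_ne_one (Finset.mem_filter.1 hx).2.2
        (hTI _ hn x (Finset.mem_filter.1 hx).2.1 ?_)
      rw [show (q.out⁻¹ * q'.out)⁻¹ * x * (q.out⁻¹ * q'.out) = q'.out⁻¹ * (q.out * x * q.out⁻¹) * q'.out by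
        group, e']
      simpa [mul_assoc] using (Finset.mem_filter.1 hx').2.1
    subst hqq
    simp only [mul_left_inj, mul_right_inj] at e'
    subst e'
    rfl
  have hF3 : ∀ q, (F q).card = 3 := by
    intro q
    have hsum : I.card = ∑ q : G ⧸ H, (F q).card :=
      Finset.card_eq_sum_card_fiberwise fun y _ => Finset.mem_univ _
    by_contra hne
    have hlt : ∑ q : G ⧸ H, (F q).card < ∑ _q : G ⧸ H, 3 :=
      Finset.sum_lt_sum (fun q _ => hF1 q) ⟨q, Finset.mem_univ q, lt_of_le_of_ne (hF1 q) hne⟩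
    rw [Finset.sum_const, Finset.card_univ, ← Nat.card_eq_fintype_card, smul_eq_mul] at hlt
    omega
  -- in a coset outside `H` an involution inverts all of `H ∩ Hʸ`, which has order 3
  have hkey : ∀ {q : G ⧸ H}, q ≠ ((1 : G) : G ⧸ H) → ∀ y ∈ F q,
      ∃ d : G, orderOf d = 3 ∧ d ∈ H ∧ H ⊓ cjg y H = Subgroup.zpowers d ∧ y * d * y = d⁻¹ := by
    intro q hq y h1
    obtain ⟨y', h2, hne⟩ := Finset.exists_mem_ne (by rw [hF3 q]; norm_num) y
    have hd := hdiff h1 h2
    have hyy := Lib.Involutions.Basic.invol_mul_self (hy h1).1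
    have hd1 : y * y' ≠ 1 := fun e => hne (by
      rw [← inv_eq_of_mul_eq_one_right e, Lib.Involutions.Basic.invol_inv (hy h1).1])
    have hinv : y * (y * y') * y = (y * y')⁻¹ :=
      Lib.Involutions.Basic.invert_mul hyy (Lib.Involutions.Basic.invol_mul_self (hy h2).1)
    have hdT : y * y' ∉ T := by
      intro hT'
      refine hd1 (hTI y (hy' hq h1) _ hT' ?_)
      rw [Lib.Involutions.Basic.invol_inv (hy h1).1, hinv]
      exact T.inv_mem hT'
    have hd3 := hord3 _ hd.1 hdT
    exact ⟨_, hd3, hd.1, (Subgroup.eq_of_le_of_card_ge (Subgroup.zpowers_le.2 hd)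
      (by rw [Nat.card_zpowers, hd3]; exact hD y (hy' hq h1))).symm, hinv⟩
  -- centralisers of elements of order 3
  have hC3 : ∀ k ∈ H, orderOf k = 3 → ∀ c : G, c * k = k * c → c ∈ Subgroup.zpowers k := by
    intro k hk hk3 c hc
    have hcH : c ∈ H := by
      by_contra hcH
      have hq : (c : G ⧸ H) ≠ ((1 : G) : G ⧸ H) := fun e => hcH (by
        simpa using (QuotientGroup.eq (s := H)).1 e)
      obtain ⟨y, h1⟩ : (F (c : G ⧸ H)).Nonempty := Finset.card_pos.1 (by rw [hF3]; norm_num)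
      obtain ⟨d, hd3, hdH, hdeq, hyd⟩ := hkey hq y h1
      have hu : c⁻¹ * y ∈ H := (QuotientGroup.eq (s := H)).1 (hy h1).2.symm
      have hkD : k ∈ H ⊓ cjg y H := ⟨hk, mem_cjg.2 (by
        rw [show y⁻¹ * k * y = (c⁻¹ * y)⁻¹ * (c⁻¹ * k * c) * (c⁻¹ * y) by group,
          show c⁻¹ * k * c = k by rw [mul_assoc, ← hc, inv_mul_cancel_left]]
        exact H.mul_mem (H.mul_mem (H.inv_mem hu) hk) hu)⟩
      rw [hdeq] at hkD
      obtain ⟨i, hi⟩ := Subgroup.mem_zpowers_iff.1 hkD
      have hyk : y * k * y = k⁻¹ := by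
        have hyy := Lib.Involutions.Basic.invol_inv (hy h1).1
        rw [← hi, show y * d ^ i * y = y * d ^ i * y⁻¹ by rw [hyy], ← conj_zpow, hyy, hyd, inv_zpow]
      set u := c⁻¹ * y
      have hyu : y = c * u := by simp only [u]; group
      have huk : u * k * u⁻¹ = k⁻¹ := by
        have e1 : y * k * y⁻¹ = k⁻¹ := by rw [Lib.Involutions.Basic.invol_inv (hy h1).1, hyk]
        rw [hyu] at e1
        have e2 : c⁻¹ * k⁻¹ * c = k⁻¹ := by
          rw [mul_assoc, show k⁻¹ * c = c * k⁻¹ from by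
            rw [eq_mul_inv_iff_mul_eq, mul_assoc, hc, inv_mul_cancel_left], inv_mul_cancel_left]
        rw [← e2, ← e1]; group
      -- but `H / T` is cyclic of order 3
      have : IsCyclic Q := isCyclic_of_prime_card (p := 3) hm
      let _ : CommGroup Q := IsCyclic.commGroup
      have hq' : ((⟨u, hu⟩ * ⟨k, hk⟩ * ⟨u, hu⟩⁻¹ : ↥H) : Q) = ((⟨k, hk⟩ : ↥H) : Q) := by
        rw [QuotientGroup.mk_mul, QuotientGroup.mk_mul, QuotientGroup.mk_inv, mul_inv_cancel_comm]
      rw [QuotientGroup.eq, Subgroup.mem_subgroupOf] at hq'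
      push_cast at hq'
      rw [huk, inv_inv] at hq'
      have h4 := h.pow_four_of_mem hTp hq'
      rw [← pow_two, ← pow_mul] at h4
      have := orderOf_dvd_of_pow_eq_one h4
      rw [hk3] at this; norm_num at this
    -- inside `H`
    by_cases hcT : c ∈ T
    · have hc1 : c = 1 := h.fpf Nat.prime_three (by norm_num) hk3 (h.pow_four_of_mem hTp hcT) hc.symm
      rw [hc1]; exact Subgroup.one_mem _
    obtain ⟨i, hiT⟩ : ∃ i : ℤ, c * k ^ i ∈ T := by
      have : IsCyclic Q := isCyclic_of_prime_card (p := 3) hm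
      have hkQ : ((⟨k, hk⟩ : ↥H) : Q) ≠ 1 := fun e => by
        have hkT := Subgroup.mem_subgroupOf.1 ((QuotientGroup.eq_one_iff _).1 e)
        have h4 := orderOf_dvd_of_pow_eq_one (h.pow_four_of_mem hTp hkT)
        rw [hk3] at h4; norm_num at h4
      obtain ⟨i, hi⟩ := Subgroup.mem_zpowers_iff.1
        (mem_zpowers_of_prime_card (p := 3) hm (g' := ((⟨c, hcH⟩⁻¹ : ↥H) : Q)) hkQ)
      refine ⟨i, ?_⟩
      have : ((⟨c, hcH⟩ * ⟨k, hk⟩ ^ i : ↥H) : Q) = 1 := by
        rw [QuotientGroup.mk_mul, QuotientGroup.mk_zpow, hi, QuotientGroup.mk_inv, mul_inv_cancel]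
      have := Subgroup.mem_subgroupOf.1 ((QuotientGroup.eq_one_iff _).1 this)
      simpa using this
    have h1 := h.fpf Nat.prime_three (by norm_num) hk3 (h.pow_four_of_mem hTp hiT)
      ((show Commute k c from hc.symm).mul_right ((Commute.refl k).zpow_right i))
    exact Subgroup.mem_zpowers_iff.2 ⟨-i, by rw [zpow_neg]; exact (eq_inv_of_mul_eq_one_left h1).symm⟩
  -- the double coset
  have hy₀q : (y₀ : G ⧸ H) ≠ ((1 : G) : G ⧸ H) := fun e => hy₀H (by
    simpa using (QuotientGroup.eq (s := H)).1 e)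
  have hy₀F : y₀ ∈ F (y₀ : G ⧸ H) :=
    Finset.mem_filter.2 ⟨Finset.mem_filter.2 ⟨Finset.mem_univ _, hy₀⟩, rfl⟩
  obtain ⟨k, hk3, hkH, -, hky⟩ := hkey hy₀q y₀ hy₀F
  have hy₀i := Lib.Involutions.Basic.invol_inv hy₀
  have hn : Nat.card (G ⧸ H) = Nat.card T + 1 := by
    let f : Option T → G ⧸ H := fun o => o.elim ((1 : G) : G ⧸ H) fun s => (((s : G) * y₀ : G) : G ⧸ H)
    have hne : ∀ s : T, (((s : G) * y₀ : G) : G ⧸ H) ≠ ((1 : G) : G ⧸ H) := fun s e => hy₀H (by
      have h1 : ((s : G) * y₀)⁻¹ ∈ H := by simpa using (QuotientGroup.eq (s := H)).1 e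
      have := H.mul_mem (H.inv_mem (hTH s.2)) (H.inv_mem h1)
      simpa using this)
    rw [← Nat.card_eq_of_bijective f ⟨?_, ?_⟩, Finite.card_option]
    · rintro (_ | s) (_ | s') e
      · rfl
      · exact absurd e.symm (hne s')
      · exact absurd e (hne s)
      · have h1 : y₀⁻¹ * ((s : G)⁻¹ * s') * y₀ ∈ H := by
          have := (QuotientGroup.eq (s := H)).1 e
          simpa [mul_assoc] using this
        have hu : (s : G)⁻¹ * s' ∈ T := T.mul_mem (T.inv_mem s.2) s'.2
        obtain ⟨n, hn⟩ := IsPGroup.iff_orderOf.1 hTp ⟨_, hu⟩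
        rw [Subgroup.orderOf_mk] at hn
        have h2 := hTI y₀ hy₀H _ hu (hmem2 h1 (IsPGroup.of_card (n := n) (by
          rw [Nat.card_zpowers, ← hn, ← Lib.Involutions.Basic.orderOf_conj_eq y₀⁻¹ ((s : G)⁻¹ * s'), inv_inv])))
        rw [show s = s' from Subtype.ext (inv_mul_eq_one.1 h2)]
    · intro q
      by_cases hq : q = ((1 : G) : G ⧸ H)
      · exact ⟨none, hq.symm⟩
      obtain ⟨y, h1⟩ : (F q).Nonempty := Finset.card_pos.1 (by rw [hF3]; norm_num)
      obtain ⟨d, hd3, hdH, -, hyd⟩ := hkey hq y h1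
      have hyi := Lib.Involutions.Basic.invol_inv (hy h1).1
      -- `d` is conjugate to `k` or `k⁻¹` under `T`
      have hdk : ∃ s ∈ T, ∃ e : G, (e = k ∨ e = k⁻¹) ∧ s * e * s⁻¹ = d := by
        have hkQ : ((⟨k, hkH⟩ : ↥H) : Q) ≠ 1 := fun e => by
          have hkT := Subgroup.mem_subgroupOf.1 ((QuotientGroup.eq_one_iff _).1 e)
          have h4 := orderOf_dvd_of_pow_eq_one (h.pow_four_of_mem hTp hkT)
          rw [hk3] at h4; norm_num at h4
        have : IsCyclic Q := isCyclic_of_prime_card (p := 3) hm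
        obtain ⟨i, hi⟩ := Subgroup.mem_zpowers_iff.1
          (mem_zpowers_of_prime_card (p := 3) hm (g' := ((⟨d, hdH⟩ : ↥H) : Q)) hkQ)
        have hi3 : ((⟨d, hdH⟩ : ↥H) : Q) = ((⟨k, hkH⟩ ^ (i % 3) : ↥H) : Q) := by
          rw [← hi, QuotientGroup.mk_zpow]
          conv_lhs => rw [← zpow_mod_natCard, hm]
          rfl
        have hconjd : ∀ e : ↥H, orderOf (e : G) = 3 → ((⟨d, hdH⟩ : ↥H) : Q) = (e : Q) →
            ∃ s ∈ T, s * (e : G) * s⁻¹ = d := by
          intro e he hde
          have h2 : d * (e : G)⁻¹ ∈ T := by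
            have : ((⟨d, hdH⟩ * e⁻¹ : ↥H) : Q) = 1 := by
              rw [QuotientGroup.mk_mul, QuotientGroup.mk_inv, hde, mul_inv_cancel]
            simpa using Subgroup.mem_subgroupOf.1 ((QuotientGroup.eq_one_iff _).1 this)
          obtain ⟨x, hx, hxe⟩ := exists_conj_eq_mul (K := T) (k := (e : G)) e.2
            (fun v hv hc => h.fpf Nat.prime_three (by norm_num) he (h.pow_four_of_mem hTp hv) hc) h2
          exact ⟨x, hx, by rw [hxe]; group⟩
        rcases (show i % 3 = 0 ∨ i % 3 = 1 ∨ i % 3 = 2 by omega) with e | e | e <;> rw [e] at hi3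
        · exfalso
          rw [zpow_zero] at hi3
          have hdT : d ∈ T := Subgroup.mem_subgroupOf.1 ((QuotientGroup.eq_one_iff _).1 hi3)
          have h4 := orderOf_dvd_of_pow_eq_one (h.pow_four_of_mem hTp hdT)
          rw [hd3] at h4; norm_num at h4
        · rw [zpow_one] at hi3
          obtain ⟨s, hs, hse⟩ := hconjd ⟨k, hkH⟩ hk3 hi3
          exact ⟨s, hs, k, Or.inl rfl, hse⟩
        · obtain ⟨s, hs, hse⟩ := hconjd (⟨k, hkH⟩⁻¹) (by simpa using hk3) (by
            rw [hi3]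
            congr 1
            refine eq_inv_of_mul_eq_one_left ?_
            rw [show (2 : ℤ) = ((2 : ℕ) : ℤ) from rfl, zpow_natCast, ← pow_succ]
            exact Subtype.ext (by simpa using hk3 ▸ pow_orderOf_eq_one k))
          exact ⟨s, hs, k⁻¹, Or.inr rfl, by simpa using hse⟩
      obtain ⟨s, hs, e, he, hse⟩ := hdk
      have hye : y₀ * e * y₀⁻¹ = e⁻¹ := by
        rcases he with rfl | rfl
        · rw [hy₀i]; exact hky
        · rw [← conj_inv, hy₀i, hky]
      refine ⟨some ⟨s, hs⟩, ?_⟩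
      show ((s * y₀ : G) : G ⧸ H) = q
      rw [← (hy h1).2]
      have hc : (y * (s * y₀ * s⁻¹)) * d = d * (y * (s * y₀ * s⁻¹)) := by
        have h2 : (s * y₀ * s⁻¹) * d * (s * y₀ * s⁻¹)⁻¹ = d⁻¹ := by
          rw [← hse]
          calc (s * y₀ * s⁻¹) * (s * e * s⁻¹) * (s * y₀ * s⁻¹)⁻¹ = s * (y₀ * e * y₀⁻¹) * s⁻¹ := by group
            _ = _ := by rw [hye]; group
        have h3 : y * d⁻¹ * y⁻¹ = d := by rw [← conj_inv, hyi, hyd, inv_inv]
        set w := s * y₀ * s⁻¹
        calc y * w * d = y * (w * d * w⁻¹) * w := by group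
          _ = y * d⁻¹ * y⁻¹ * (y * w) := by rw [h2]; group
          _ = _ := by rw [h3]
      have h2 : y * (s * y₀ * s⁻¹) ∈ H := Subgroup.zpowers_le.2 hdH (hC3 d hdH hd3 _ hc)
      rw [eq_comm, QuotientGroup.eq, hyi, ← mul_assoc]
      have := H.mul_mem h2 (hTH hs)
      simpa [mul_assoc] using this
  -- the order
  obtain ⟨a, b, c, hG⟩ := h.exists_primes
  have hGcard : Nat.card G = 3 * Nat.card T * (Nat.card T + 1) := by
    rw [Subgroup.card_eq_card_quotient_mul_card_subgroup H, hn, hHcard]; ring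
  have h9 : ¬ 9 ∣ Nat.card G := by
    intro h9
    obtain ⟨P, hP⟩ : ∃ P : Sylow 3 G, k ∈ (P : Subgroup G) := by
      obtain ⟨P, hP⟩ := (IsPGroup.of_card (n := 1) (by rw [Nat.card_zpowers, hk3, pow_one]) :
        IsPGroup 3 (Subgroup.zpowers k)).exists_le_sylow
      exact ⟨P, hP (Subgroup.mem_zpowers k)⟩
    have hPcard : 9 ≤ Nat.card P := by
      rw [P.card_eq_multiplicity]
      calc 9 = 3 ^ 2 := rfl
        _ ≤ _ := Nat.pow_le_pow_right (by norm_num)
          ((Nat.Prime.pow_dvd_iff_le_factorization Nat.prime_three Nat.card_pos.ne').1 h9)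
    have : Nontrivial P := Finite.one_lt_card_iff_nontrivial.1 (by omega)
    obtain ⟨⟨z, hzP⟩, hz, hz1⟩ := (Subgroup.center (↥P)).bot_or_exists_ne_one.resolve_left
      (fun e => (Subgroup.nontrivial_iff_ne_bot _).1 P.isPGroup'.center_nontrivial e)
    have hzk : z ∈ Subgroup.zpowers k :=
      hC3 k hkH hk3 z (congrArg Subtype.val (Subgroup.mem_center_iff.1 hz ⟨k, hP⟩)).symm
    have hkz : k ∈ Subgroup.zpowers z := by
      have hz1' : z ≠ 1 := fun e => hz1 (Subtype.ext e)
      have hzo : orderOf z = 3 := by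
        have := orderOf_dvd_of_mem_zpowers hzk
        rw [hk3] at this
        exact ((Nat.dvd_prime Nat.prime_three).1 this).resolve_left (mt orderOf_eq_one_iff.1 hz1')
      have := Subgroup.eq_of_le_of_card_ge (Subgroup.zpowers_le.2 hzk)
        (by rw [Nat.card_zpowers, Nat.card_zpowers, hk3, hzo])
      rw [this]; exact Subgroup.mem_zpowers k
    have hle : (P : Subgroup G) ≤ Subgroup.zpowers k := fun x hx => by
      refine hC3 k hkH hk3 x ?_
      obtain ⟨i, rfl⟩ := Subgroup.mem_zpowers_iff.1 hkz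
      exact ((show Commute x z from congrArg Subtype.val
        (Subgroup.mem_center_iff.1 hz ⟨x, hx⟩)).zpow_right i).eq
    have := Subgroup.card_le_of_le hle
    rw [Nat.card_zpowers, hk3] at this
    have e : Nat.card (P : Subgroup G) = Nat.card P := rfl
    omega
  obtain ⟨t, ht⟩ := hTp.exists_card_eq
  have h3 : ¬ 3 ∣ Nat.card T + 1 := fun h3 => h9 (by
    obtain ⟨u, hu⟩ := h3
    exact ⟨Nat.card T * u, by rw [hGcard, hu]; ring⟩)
  have h2 : ¬ 2 ∣ Nat.card T + 1 := by
    rcases t with _ | t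
    · exact absurd (Subgroup.card_eq_one.1 (by simpa using ht)) hT1
    · rw [ht, pow_succ]; omega
  obtain ⟨f, hf⟩ : ∃ f, Nat.card T + 1 = 5 ^ f := by
    refine ⟨(Nat.card T + 1).factorization 5, Nat.eq_pow_of_factorization_eq_single (by omega) ?_⟩
    ext p
    rw [Finsupp.single_apply]
    split_ifs with hp
    · subst hp; rfl
    · by_cases hp' : p.Prime ∧ p ∣ Nat.card T + 1
      · exfalso
        have := Fact.mk hp'.1
        obtain ⟨g, hg⟩ := exists_prime_orderOf_dvd_card' (G := G) p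
          (hGcard ▸ dvd_mul_of_dvd_right hp'.2 _)
        rcases h.prime_cases hp'.1 (g := g) (by rw [hg]) with rfl | rfl | rfl
        · exact h2 hp'.2
        · exact h3 hp'.2
        · exact hp rfl
      · by_cases hp'' : p.Prime
        · exact Nat.factorization_eq_zero_of_not_dvd fun hd => hp' ⟨hp'', hd⟩
        · exact Nat.factorization_eq_zero_of_not_prime _ hp''
  rw [ht] at hf
  have := Small.pow_two_add_one hf
  rw [hGcard, ht, this]
  norm_num

end Cfsg.Agent.Lib.RecogThree.OrdersFive
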